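import Cfsg.Agent.Lib.GD.Defs

/-!
# Groups with dihedral Sylow `2`-subgroups: elementary facts
-/

set_option autoImplicit false

namespace CfsgLib.GD

open Subgroup Cfsg CfsgLib.FT.BGN CfsgLib.FT.U4 CfsgLib.GW
open scoped commutatorElement

universe u

variable {G : Type*} [Group G]

theorem Dih.of_injective (h : Dih G) {X : Type*} [Group X] (f : X →* G)
    (hf : Function.Injective f) : Dih X := by
  intro T hT
  obtain ⟨_, ⟨x, hx, rfl⟩, h1⟩ := h (T.map f) (hT.map f)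
  have key : ∀ y, y ∉ zpowers x → f y ∉ zpowers (f x) := fun y hy ⟨n, e⟩ =>
    hy ⟨n, hf (by rw [map_zpow]; exact e)⟩
  refine ⟨x, hx, fun y hy hy' => ?_⟩
  obtain ⟨e1, e2, e3⟩ := h1 (f y) ⟨y, hy, rfl⟩ (key y hy')
  refine ⟨hf (by simpa using e1), hf (by simpa using e2), fun z hz hz' => ?_⟩
  by_contra e
  exact key _ e (map_mul f y z ▸ e3 (f z) ⟨z, hz, rfl⟩ (key z hz'))

theorem Dih.subgroup (h : Dih G) (H : Subgroup G) : Dih H :=
  h.of_injective H.subtype H.subtype_injective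

variable [Finite G]

theorem Dih.of_surjective (h : Dih G) {X : Type*} [Group X] (f : G →* X)
    (hf : Function.Surjective f) : Dih X := by
  have := Finite.of_surjective f hf
  intro T hT
  obtain ⟨P, hP⟩ := IsSylowIn.exists_in (p := 2) (T.comap f)
  have h1 := hP.map f
  rw [map_comap_eq_self_of_surjective hf] at h1
  have h2 := h1.eq_of_le hT h1.le le_rfl
  obtain ⟨x, hx, h3⟩ := h P hP.isPGroup
  have key : ∀ y, f y ∉ zpowers (f x) → y ∉ zpowers x := fun y hy ⟨n, e⟩ =>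
    hy ⟨n, by rw [← e, map_zpow]⟩
  rw [h2]
  refine ⟨f x, ⟨x, hx, rfl⟩, ?_⟩
  rintro _ ⟨y, hy, rfl⟩ hy'
  obtain ⟨e1, e2, e3⟩ := h3 y hy (key y hy')
  refine ⟨by rw [← map_mul, e1, map_one], by rw [← map_inv, ← map_inv, ← e2, map_mul, map_mul], ?_⟩
  rintro _ ⟨z, hz, rfl⟩ hz'
  obtain ⟨n, e⟩ := e3 z hz (key z hz')
  exact ⟨n, by rw [← map_mul, ← e, map_zpow]⟩

theorem exists_inv_mem {S : Subgroup G} (hS : IsPGroup 2 S) {z : G} (hz : z ∈ S) (h1 : z ≠ 1) :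
    ∃ v ∈ zpowers z, orderOf v = 2 :=
  SW.exists_inv_zpowers (by
    have := Fintype.ofFinite G
    rw [Nat.not_odd_iff_even, even_iff_two_dvd]
    exact two_dvd_orderOf_of_mem hS hz h1)

theorem solvable_of_nilp2 {M : Subgroup G} (h : Nilp2 M) : Group.IsSolvable M := by
  obtain ⟨S, hS⟩ := IsSylowIn.exists_in (p := 2) M
  rw [← h.sup_sylow hS, sup_comm]
  exact isSolvable_sup (hS.le.trans (le_norm_Od M)) (isSolvable_of_isPGroup hS.isPGroup)
    (solvable_Od M)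

/-- A group of even order normalized by a `2`-group contains an involution centralizing it. -/
theorem exists_inv_cent {T K : Subgroup G} (hT : IsPGroup 2 T) (hn : T ≤ 𝐍(K))
    (hK : ¬ Odd (Nat.card K)) : ∃ v ∈ K, orderOf v = 2 ∧ v ∈ 𝐂(T) := by
  obtain ⟨Q, h1, hQ⟩ := IsSylowIn.exists_ge hT (le_sup_left : T ≤ T ⊔ K)
  have h2 : Q ≤ 𝐍(K) := hQ.le.trans (sup_le hn le_normalizer)
  have h3 := (hQ.inf_of_le_normalizer le_sup_right h2).ne_bot
    (by rwa [Nat.not_odd_iff_even, even_iff_two_dvd] at hK)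
  obtain ⟨z, hz, z1⟩ := exists_ne_one (inf_centralizer_ne_bot_of_isNilpotent
    hQ.isPGroup.isNilpotent inf_le_left (H1.le_normalizer_inf le_normalizer h2) h3)
  obtain ⟨v, hv, ho⟩ := exists_inv_mem hQ.isPGroup hz.1.1 z1
  have h4 := zpowers_le.2 hz hv
  exact ⟨v, h4.1.2, ho, centralizer_le h1 h4.2⟩

omit [Finite G] in
theorem eq_of_perf_of_solvable {K N : Subgroup G} (hK : ⁅K, K⁆ = K) (hN : N ≤ K)
    [(N.subgroupOf K).Normal] (hs : Group.IsSolvable (K ⧸ N.subgroupOf K)) : N = K := by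
  have h1 : _root_.commutator (K ⧸ N.subgroupOf K) = ⊤ := by
    rw [commutator_def, ← map_top_of_surjective _ (QuotientGroup.mk'_surjective (N.subgroupOf K)),
      ← map_commutator, eq_comm, Subgroup.map_eq_map_iff, QuotientGroup.ker_mk', top_sup_eq,
      eq_comm, eq_top_iff, ← map_subtype_le_map_subtype, ← MonoidHom.range_eq_map, range_subtype,
      Subgroup.map_sup, map_subgroupOf_eq_of_le hN, map_commutator, ← MonoidHom.range_eq_map,
      range_subtype, hK]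
    exact le_sup_left
  rcases subsingleton_or_nontrivial (K ⧸ N.subgroupOf K) with h2 | h2
  · exact le_antisymm hN (subgroupOf_eq_top.1 (QuotientGroup.subsingleton_iff.1 h2))
  · exact absurd h1 (Group.IsSolvable.commutator_lt_top_of_nontrivial _).ne

theorem eq_of_perf_of_odd {K N : Subgroup G} (hK : ⁅K, K⁆ = K) (hN : N ≤ K) (hn : K ≤ 𝐍(N))
    (ho : Odd (N.relIndex K)) : N = K :=
  haveI := normal_subgroupOf_of_le_normalizer hn
  eq_of_perf_of_solvable hK hN (FT.feit_thompson ho)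

theorem eq_bot_of_perf {K : Subgroup G} (hK : ⁅K, K⁆ = K) (hs : Group.IsSolvable K) : K = ⊥ :=
  by_contra fun e => (FT.der_lt_of_solvable hs e).ne hK

omit [Finite G] in
theorem commutator_eq_top_of_perf {K : Subgroup G} (hK : ⁅K, K⁆ = K) :
    _root_.commutator K = ⊤ := by
  rw [commutator_def, eq_top_iff, ← map_subtype_le_map_subtype, map_commutator,
    ← MonoidHom.range_eq_map, range_subtype, hK]

theorem uniq_zpowers {x a b : G} (ha : a ∈ zpowers x) (hb : b ∈ zpowers x) (ho : orderOf b = 2)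
    (h : a * a = 1) : a = 1 ∨ a = b :=
  SW.eq_of_inv_of_cyclic inferInstance hb ho ha h

omit [Finite G] in
theorem odd_of_not_two_dvd {n : ℕ} (h : ¬ 2 ∣ n) : Odd n := by
  rwa [← even_iff_two_dvd, Nat.not_even_iff_odd] at h

theorem isPGroup_of_mul_self {v : G} (hv : v * v = 1) : IsPGroup 2 (zpowers v) := by
  have h1 : orderOf v ∣ 2 := orderOf_dvd_of_pow_eq_one (by rwa [sq])
  obtain ⟨k, -, hk⟩ := (Nat.dvd_prime_pow (m := 1) Nat.prime_two).1 (by simpa using h1)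
  exact isPGroup_zpowers_iff.2 ⟨k, hk⟩

theorem pow_dvd_card_sylow {p k : ℕ} [hp : Fact p.Prime] {S H : Subgroup G} (h : IsSylowIn p S H)
    (hd : p ^ k ∣ Nat.card H) : p ^ k ∣ Nat.card S := by
  rw [← card_mul_relIndex h.le] at hd
  exact (Nat.Coprime.pow_left k ((Nat.Prime.coprime_iff_not_dvd hp.out).2 h.not_dvd)).dvd_of_dvd_mul_right
    hd

/-- `⟨x⟩` is a cyclic subgroup of index at most `2` of `T` inverted by the elements outside. -/
structure DT (T : Subgroup G) (x : G) : Prop where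
  mem : x ∈ T
  out : ∀ y ∈ T, y ∉ zpowers x →
    y * y = 1 ∧ y * x * y⁻¹ = x⁻¹ ∧ ∀ y' ∈ T, y' ∉ zpowers x → y * y' ∈ zpowers x

omit [Finite G] in
theorem Dih.exists_dt (hG : Dih G) {T : Subgroup G} (hT : IsPGroup 2 T) : ∃ x, DT T x :=
  let ⟨x, h1, h2⟩ := hG T hT
  ⟨x, h1, h2⟩

namespace DT

variable {T : Subgroup G} {x y a t s : G} (h : DT T x)
include h

omit [Finite G] in
theorem le : zpowers x ≤ T := zpowers_le.2 h.mem

omit [Finite G] in
theorem sq (hy : y ∈ T) (hy' : y ∉ zpowers x) : y * y = 1 := (h.out y hy hy').1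

omit [Finite G] in
theorem ord (hy : y ∈ T) (hy' : y ∉ zpowers x) : orderOf y = 2 :=
  inv_of_mul_self (h.sq hy hy') fun e => hy' (e ▸ one_mem _)

omit [Finite G] in
theorem inv (hy : y ∈ T) (hy' : y ∉ zpowers x) : Inverts y (zpowers x) :=
  inverts_zpowers (h.out y hy hy').2.1

omit [Finite G] in
theorem mul (hy : y ∈ T) (hy' : y ∉ zpowers x) (ha : a ∈ T) (ha' : a ∉ zpowers x) :
    y * a ∈ zpowers x := (h.out y hy hy').2.2 a ha ha'

omit [Finite G] in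
theorem mem_of_sq (ha : a ∈ T) (h1 : a * a ≠ 1) : a ∈ zpowers x :=
  by_contra fun e => h1 (h.sq ha e)

omit [Finite G] in
theorem sq_of_comm (hy : y ∈ T) (hy' : y ∉ zpowers x) (ha : a ∈ zpowers x) (hc : a ∈ 𝐂[y]) :
    a * a = 1 := by
  have h1 := h.inv hy hy' a ha
  rw [conj_eq_of_mem_cent1 (mem_cent1_comm.1 hc)] at h1
  nth_rewrite 1 [h1]
  exact inv_mul_cancel a

theorem split (h4 : Four t s) (hV : V t s ≤ T) :
    ∃ z a, Four z a ∧ V z a = V t s ∧ z ∈ zpowers x ∧ a ∉ zpowers x := by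
  by_cases ht : t ∈ zpowers x
  · exact ⟨t, s, h4, rfl, ht, fun e => ((uniq_zpowers e ht h4.ot h4.ss).elim h4.s1 h4.ne.symm)⟩
  by_cases hs : s ∈ zpowers x
  · exact ⟨s, t, h4.symm, V_comm _ _, hs, ht⟩
  refine ⟨t * s, t, h4.mul.symm, by rw [V_comm, h4.V_mul], ?_, ht⟩
  exact h.mul (hV (t_mem_V t s)) ht (hV (s_mem_V t s)) hs

theorem card (hy : y ∈ T) (hy' : y ∉ zpowers x) : Nat.card T = 2 * orderOf x := by
  have := Fintype.ofFinite G
  rw [FT.card_eq_relIndex_mul h.le, relIndex_eq_two_iff_exists_notMem_and.2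
    ⟨y, hy, hy', fun b hb => or_iff_not_imp_right.2 fun e => h.mul hb e hy hy'⟩, Nat.card_zpowers]

theorem card_dvd : Nat.card T ∣ 2 * orderOf x := by
  by_cases e : T ≤ zpowers x
  · rw [le_antisymm e h.le, Nat.card_zpowers]
    exact dvd_mul_left _ _
  · obtain ⟨y, hy, hy'⟩ := SetLike.not_le_iff_exists.1 e
    rw [h.card hy hy']

omit [Finite G] in
theorem sq_ne (h4 : 4 ∣ orderOf x) [Finite G] : x * x ≠ 1 := fun e => by
  have := Nat.le_of_dvd two_pos (h4.trans (orderOf_dvd_of_pow_eq_one (n := 2) (by rwa [_root_.sq])))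
  omega

theorem mem_of_cent (h4 : 4 ∣ orderOf x) (ht : t ∈ T) (hc : x ∈ 𝐂[t]) : t ∈ zpowers x :=
  by_contra fun e => h.sq_ne h4 (h.sq_of_comm ht e (mem_zpowers x) hc)

omit h in
theorem exists_sqrt (h4 : 4 ∣ orderOf x) (ht : t ∈ zpowers x) (ho : orderOf t = 2) :
    ∃ e ∈ zpowers x, e * e = t := by
  obtain ⟨n, hn⟩ := h4
  have hn0 : n ≠ 0 := fun e => (orderOf_pos x).ne' (by rw [hn, e])
  refine ⟨x ^ n, pow_mem (mem_zpowers x) n, ?_⟩
  refine (uniq_zpowers (mul_mem (pow_mem (mem_zpowers x) n) (pow_mem (mem_zpowers x) n)) ht ho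
    ?_).resolve_left fun e => ?_
  · rw [← pow_add, ← pow_add, ← pow_orderOf_eq_one x, hn]
    congr 1
    ring
  · rw [← pow_add, ← orderOf_dvd_iff_pow_eq_one, hn] at e
    have := Nat.le_of_dvd (by omega) e
    omega

end DT

theorem conj_eq_of_sqrt {e s t : G} (h1 : e * e = t) (h2 : s * e * s⁻¹ = e⁻¹) :
    e * s * e⁻¹ = t * s := by
  rw [← h1, show e * s * e⁻¹ = e * (s * e * s⁻¹)⁻¹ * s by group, h2, inv_inv]

namespace Dih

variable (hG : Dih G) {t s : G}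
include hG

theorem le_V (h : Four t s) {Q : Subgroup G} (hQ : IsPGroup 2 Q) (hc : Q ≤ 𝐂(V t s)) :
    Q ≤ V t s := by
  have hT := H1.isPGroup_sup_of_le_normalizer hQ h.isPGroup_V (hc.trans (cent_le_norm _))
  obtain ⟨x, hx⟩ := hG.exists_dt hT
  obtain ⟨z, a, h4, e, hz, ha⟩ := hx.split h le_sup_right
  have haV : a ∈ V t s := e ▸ s_mem_V z a
  have key : ∀ q ∈ zpowers x, q ∈ 𝐂(V t s) → q ∈ V t s := fun q hq hq' => by
    rcases uniq_zpowers hq hz h4.ot (hx.sq_of_comm (mem_sup_right haV) ha hq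
      (cent_le_cent1 haV hq')) with rfl | rfl
    exacts [one_mem _, e ▸ t_mem_V q a]
  intro q hq
  by_cases hqx : q ∈ zpowers x
  · exact key q hqx (hc hq)
  · simpa using mul_mem (key _ (hx.mul (mem_sup_left hq) hqx (mem_sup_right haV) ha)
      (mul_mem (hc hq) (h.V_le_cent haV))) (inv_mem haV)

theorem mem_V (h : Four t s) {v : G} (hv : v * v = 1) (h1 : v ∈ 𝐂[t]) (h2 : v ∈ 𝐂[s]) :
    v = 1 ∨ v = t ∨ v = s ∨ v = t * s := by
  exact h.mem_V.1 (hG.le_V h (isPGroup_of_mul_self hv) (zpowers_le.2 (cent_V t s ▸ ⟨h1, h2⟩))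
    (mem_zpowers v))

/-- An element of odd order normalizing a `2`-group `T` and centralizing an involution that
normalizes `T` centralizes `T`. -/
theorem mem_cent {T : Subgroup G} (hT : IsPGroup 2 T) {g v : G} (hg : g ∈ 𝐍(T))
    (ho : Odd (orderOf g)) (hv : orderOf v = 2) (hvT : v ∈ 𝐍(T)) (hc : g ∈ 𝐂[v]) : g ∈ 𝐂(T) := by
  have hT' := H1.isPGroup_sup_of_le_normalizer (isPGroup_zpowers_inv hv) hT (zpowers_le.2 hvT)
  have hgv : g ∈ 𝐍(zpowers v) := cent_le_norm _ (cent_zpowers v ▸ hc)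
  have hn : g ∈ 𝐍(zpowers v ⊔ T) :=
    H1.le_normalizer_sup (zpowers_le.2 hgv) (zpowers_le.2 hg) (mem_zpowers g)
  have hvm : v ∈ zpowers v ⊔ T := mem_sup_left (mem_zpowers v)
  obtain ⟨x, hx⟩ := hG.exists_dt hT'
  have hidx : ∀ a ∈ zpowers v ⊔ T, a ∉ zpowers x → ∀ b ∈ zpowers v ⊔ T, b ∉ zpowers x →
      a * b⁻¹ ∈ zpowers x := fun a ha ha' b hb hb' =>
    hx.mul ha ha' (inv_mem hb) fun e => hb' (inv_mem_iff.1 e)
  refine centralizer_le (show (T : Set G) ⊆ (zpowers v ⊔ T :) from le_sup_right (a := zpowers v)) ?_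
  by_cases h1 : x * x = 1
  swap
  · refine SW.mem_cent_of_index_two hT' inferInstance hx.le hidx hn ?_ ho
    refine SW.Fr.mem_norm_of_conj (mem_zpowers x) (hx.mem_of_sq
      (conj_mem_of_mem_normalizer hn hx.mem) ?_)
    rwa [_root_.conj_mul, Ne, conj_eq_one_iff]
  by_cases h2 : v ∈ zpowers x
  · have h3 : zpowers x = zpowers v := le_antisymm (zpowers_le.2 ((mem_zpowers_inv hv).2
      (uniq_zpowers (mem_zpowers x) h2 hv h1))) (zpowers_le.2 h2)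
    exact SW.mem_cent_of_index_two hT' inferInstance hx.le hidx hn (h3 ▸ hgv) ho
  have hxi : x⁻¹ = x := inv_eq_of_mul_eq_one_right h1
  have h3 : v * x = x * v := by
    have := (hx.out v hvm h2).2.1
    rwa [hxi, mul_inv_eq_iff_eq_mul] at this
  have key : ∀ a ∈ zpowers x, a ≠ 1 → a = x := fun a ha a1 =>
    ((mem_zpowers_inv (inv_of_mul_self h1 fun e => a1 (by simpa [e] using ha))).1 ha).resolve_left a1
  have key2 : ∀ a ∈ zpowers v ⊔ T, a ∉ zpowers v → x⁻¹ * a ∈ zpowers v := fun a ha ha' => by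
    by_cases e : a ∈ zpowers x
    · rw [key a e fun e => ha' (e ▸ one_mem _), inv_mul_cancel]
      exact one_mem _
    · have h4 := key _ (hx.mul ha e hvm h2) fun e => ha' (by
        rw [eq_inv_of_mul_eq_one_left e]; exact inv_mem (mem_zpowers v))
      rw [eq_mul_inv_of_mul_eq h4, inv_mul_cancel_left]
      exact inv_mem (mem_zpowers v)
  refine SW.mem_cent_of_index_two hT' inferInstance le_sup_left (fun a ha ha' b hb hb' => ?_) hn
    hgv ho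
  have h5 := conj_mem_of_mem_normalizer (cent_le_norm _ (cent_zpowers v ▸ mem_cent1'.2 h3 :
    x ∈ 𝐂(zpowers v))) (mul_mem (key2 a ha ha') (inv_mem (key2 b hb hb')))
  simpa [mul_assoc] using h5

theorem nilp2_cent (ht : orderOf t = 2) : Nilp2 𝐂[t] := by
  obtain ⟨S, hS⟩ := IsSylowIn.exists_in (p := 2) 𝐂[t]
  refine SW.nilp2_of_cent hS fun P hP g hg hn ho => hG.mem_cent (hS.isPGroup.to_le hP) hn ho ht
    (cent_le_norm _ ?_) hg
  exact le_centralizer_iff.1 ((hP.trans hS.le).trans (cent_zpowers t).ge) (mem_zpowers t)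

theorem solvable_cent (ht : orderOf t = 2) : Group.IsSolvable 𝐂[t] :=
  solvable_of_nilp2 (hG.nilp2_cent ht)

theorem mem_Ut (ht : orderOf t = 2) {x : G} : x ∈ Ut t ↔ x ∈ 𝐂[t] ∧ Odd (orderOf x) :=
  ⟨fun h => ⟨Ut_le t h, odd_of_mem_Ut h⟩, fun h => hG.nilp2_cent ht x h.1 h.2⟩

theorem le_Ut (ht : orderOf t = 2) {A : Subgroup G} (hA : A ≤ 𝐂[t]) (ho : Odd (Nat.card A)) :
    A ≤ Ut t := (hG.nilp2_cent ht).le_Od hA ho

theorem B_symm (h : Four t s) : Ut t ⊓ 𝐂[s] = Ut s ⊓ 𝐂[t] := by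
  ext x
  simp only [mem_inf, hG.mem_Ut h.ot, hG.mem_Ut h.os]
  tauto

theorem mem_B (h : Four t s) {x : G} : x ∈ Ut t ⊓ 𝐂[s] ↔ x ∈ 𝐂(V t s) ∧ Odd (orderOf x) := by
  simp only [mem_inf, hG.mem_Ut h.ot, cent_V]
  tauto

theorem norm_le_norm_B (h : Four t s) : 𝐍(V t s) ≤ 𝐍(Ut t ⊓ 𝐂[s]) :=
  fun n hn => mem_normalizer_of_conj_mem fun x hx => by
    rw [hG.mem_B h] at hx ⊢
    exact ⟨conj_mem_of_mem_normalizer (norm_le_norm_cent _ hn) hx.1, by rw [orderOf_conj]; exact hx.2⟩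

theorem exists_mul_B (h : Four t s) {x : G} (hx : x ∈ 𝐂(V t s)) :
    ∃ b ∈ Ut t ⊓ 𝐂[s], ∃ v ∈ V t s, b * v = x := by
  have h1 : Nilp2 𝐂(V t s) := (hG.nilp2_cent h.ot).mono (cent_le_cent1 (t_mem_V t s))
  obtain ⟨b, hb, v, hv, e⟩ := (h1.isComplIn (IsSylowIn.of_maximal h.V_le_cent h.isPGroup_V
    fun T hT _ h2 => hG.le_V h hT h2)).2.2.2 x hx
  exact ⟨b, (hG.mem_B h).2 ⟨Od_le _ hb, odd_of_mem_Od hb⟩, v, hv, e.symm⟩

/-- A four-group meets every subgroup of order divisible by `4` that it normalizes. -/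
theorem exists_mem_V (h : Four t s) {L : Subgroup G} (hn : V t s ≤ 𝐍(L)) (h4 : 4 ∣ Nat.card L) :
    t ∈ L ∨ s ∈ L ∨ t * s ∈ L := by
  obtain ⟨T, h1, hT⟩ := IsSylowIn.exists_ge h.isPGroup_V (le_sup_left : V t s ≤ V t s ⊔ L)
  have h2 := pow_dvd_card_sylow (k := 2) (hT.inf_of_le_normalizer le_sup_right
    (hT.le.trans (sup_le hn le_normalizer))) h4
  obtain ⟨x, hx⟩ := hG.exists_dt hT.isPGroup
  obtain ⟨z, a, h5, e, hz, ha⟩ := hx.split h h1
  have h6 : z ∈ L := by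
    by_contra hzL
    have key : ∀ q ∈ zpowers x, q ∈ L → q = 1 := fun q hq hqL => by_contra fun q1 => by
      obtain ⟨v, hv, ho⟩ := exists_inv_mem hT.isPGroup (hx.le hq) q1
      rcases uniq_zpowers (zpowers_le.2 hq hv) hz h5.ot (mul_self_of_inv ho) with e | e
      exacts [ne_one_of_inv ho e, hzL (e ▸ zpowers_le.2 hqL hv)]
    obtain ⟨y, hy, y1⟩ := exists_ne_one (H := T ⊓ L) (by
      intro e; rw [e, card_bot] at h2; omega)
    have hy' : y ∉ zpowers x := fun e => y1 (key y e hy.2)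
    have h7 : T ⊓ L ≤ zpowers y := fun w hw => by
      by_cases e : w ∈ zpowers x
      · rw [key w e hw.2]; exact one_mem _
      · rw [eq_inv_of_mul_eq_one_left (key _ (hx.mul hw.1 e hy.1 hy') (mul_mem hw.2 hy.2))]
        exact inv_mem (mem_zpowers y)
    have h8 := Nat.le_of_dvd two_pos (h2.trans (card_zpowers_inv (hx.ord hy.1 hy') ▸
      card_dvd_of_le h7))
    omega
  rcases h.mem_V.1 (e ▸ t_mem_V z a) with rfl | rfl | rfl | rfl
  exacts [absurd rfl h5.t1, Or.inl h6, Or.inr (Or.inl h6), Or.inr (Or.inr h6)]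

theorem exists_dt_cent (h : Four t s) {M : Subgroup G} (hV : V t s ≤ M)
    (h8 : 8 ∣ Nat.card ↥(M ⊓ 𝐂[t])) : ∃ T x, V t s ≤ T ∧ IsSylowIn 2 T (M ⊓ 𝐂[t]) ∧ DT T x ∧
      s ∉ zpowers x ∧ ∃ e ∈ zpowers x, e * e = t := by
  obtain ⟨T, h1, hT⟩ := IsSylowIn.exists_ge h.isPGroup_V (le_inf hV h.V_le_cent1)
  obtain ⟨x, hx⟩ := hG.exists_dt hT.isPGroup
  have h2 : 4 ∣ orderOf x := Nat.dvd_of_mul_dvd_mul_left two_pos
    ((pow_dvd_card_sylow (k := 3) hT h8).trans hx.card_dvd)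
  have h3 := hx.mem_of_cent h2 (h1 (t_mem_V t s)) (hT.le hx.mem).2
  exact ⟨T, x, h1, hT, hx, fun e => (uniq_zpowers e h3 h.ot h.ss).elim h.s1 h.ne.symm,
    DT.exists_sqrt h2 h3 h.ot⟩

/-- An element of order `4` in a dihedral group of order `8` containing `⟨t, s⟩`. -/
theorem exists_e (h : Four t s) {M : Subgroup G} (hV : V t s ≤ M) (h8 : 8 ∣ Nat.card ↥(M ⊓ 𝐂[t])) :
    ∃ e ∈ M ⊓ 𝐂[t], e * e = t ∧ e * s * e⁻¹ = t * s ∧ s * e * s⁻¹ = e⁻¹ := by
  obtain ⟨T, x, h1, hT, hx, hs, e, he, e1⟩ := hG.exists_dt_cent h hV h8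
  have h2 := hx.inv (h1 (s_mem_V t s)) hs e he
  exact ⟨e, hT.le (hx.le he), e1, conj_eq_of_sqrt e1 h2, h2⟩

theorem exists_norm_conj (h : Four t s) {L : Subgroup G} (h1 : OneCl L) (hV : V t s ≤ L) :
    ∃ d ∈ L ⊓ 𝐍(V t s), d * t * d⁻¹ = s := by
  have hc : ∀ u ∈ L, orderOf u = 2 → Nat.card ↥(L ⊓ 𝐂[u]) = Nat.card ↥(L ⊓ 𝐂[t]) :=
    fun u hu ho => by
      obtain ⟨g, hg, rfl⟩ := h1 t (hV (t_mem_V t s)) u hu h.ot ho
      rw [cent1_conj, ← card_map_conj g (L ⊓ 𝐂[t]), map_conj_inf, conj_eq_of_mem hg]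
  by_cases h8 : 8 ∣ Nat.card ↥(L ⊓ 𝐂[t])
  · have hV' : V (t * s) t = V t s := by rw [V_comm, h.V_mul]
    obtain ⟨e, he, -, e1, -⟩ := hG.exists_e h.mul.symm (hV' ▸ hV)
      (by rwa [hc _ (hV (hV' ▸ t_mem_V _ _)) h.ots])
    rw [h.comm, mul_assoc s, h.tt, mul_one] at e1
    refine ⟨e, ⟨he.1, mem_normalizer_of_map_conj_eq ?_⟩, e1⟩
    rw [← hV', ← V_conj, conj_eq_of_mem_cent1 he.2, e1, hV', V_comm, h.comm, h.symm.V_mul, V_comm]
  obtain ⟨g, hg, e⟩ := h1 t (hV (t_mem_V t s)) s (hV (s_mem_V t s)) h.ot h.os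
  have key : ∀ a b : G, Four a b → V a b ≤ L ⊓ 𝐂[s] → IsSylowIn 2 (V a b) (L ⊓ 𝐂[s]) :=
    fun a b hab hle => ⟨hle, hab.isPGroup_V, fun ⟨m, hm⟩ => h8 ⟨m, by
      rw [← hc s (hV (s_mem_V t s)) h.os, ← card_mul_relIndex hle, hab.card_V, hm]; ring⟩⟩
  have h2 : V (g * t * g⁻¹) (g * s * g⁻¹) ≤ L ⊓ 𝐂[s] := by
    rw [V_conj]
    refine le_inf (by rw [← conj_eq_of_mem hg]; exact map_mono hV) ?_
    nth_rewrite 2 [← e]
    rw [cent1_conj]
    exact map_mono h.V_le_cent1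
  obtain ⟨c, hc, e2⟩ := (key t s h (le_inf hV (V_comm t s ▸ h.symm.V_le_cent1))).exists_conj_eq
    (key _ _ (h.conj g) h2)
  refine ⟨c * g, ⟨mul_mem hc.1 hg, mem_normalizer_of_map_conj_eq ?_⟩, ?_⟩
  · rw [map_conj_mul, ← V_conj, e2]
  · rw [show c * g * t * (c * g)⁻¹ = c * (g * t * g⁻¹) * c⁻¹ by group, e, conj_eq_of_mem_cent1 hc.2]

theorem oneCl_of_perf {L : Subgroup G} (h : ⁅L, L⁆ = L) : OneCl L := by
  obtain ⟨S, hS⟩ := IsSylowIn.exists_in (p := 2) L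
  obtain ⟨x, hx⟩ := hG.exists_dt hS.isPGroup
  have key : ∀ u ∈ L, orderOf u = 2 → ∃ g ∈ L, g * u * g⁻¹ ∈ zpowers x := fun u hu ho => by
    by_cases e : S ≤ zpowers x
    · obtain ⟨g, hg, h1⟩ := hS.exists_conj_le (isPGroup_zpowers_inv ho) (zpowers_le.2 hu)
      exact ⟨g, hg, e (h1 (conj_mem_map_conj (mem_zpowers u)))⟩
    obtain ⟨y, hy, hy'⟩ := SetLike.not_le_iff_exists.1 e
    obtain ⟨g, hg⟩ := H5.exists_conj_mem_of_index_mod_four (M := (zpowers x).subgroupOf L)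
      (t := ⟨u, hu⟩) (by
        have h1 := hx.card hy hy'
        rw [← card_mul_relIndex hx.le, Nat.card_zpowers, mul_comm,
          Nat.mul_left_inj (orderOf_pos x).ne'] at h1
        obtain ⟨k, hk⟩ := odd_of_not_two_dvd hS.not_dvd
        change (zpowers x).relIndex L % 4 = 2
        rw [← relIndex_mul_relIndex _ _ _ hx.le hS.le, h1, hk]
        omega) (Subtype.ext (by rw [coe_pow, _root_.sq]; exact mul_self_of_inv ho))
      (commutator_eq_top_of_perf h ▸ mem_top _)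
    exact ⟨(g : G)⁻¹, inv_mem g.2, by simpa [mem_subgroupOf] using hg⟩
  intro u hu v hv hu2 hv2
  obtain ⟨a, ha, h1⟩ := key u hu hu2
  obtain ⟨b, hb, h2⟩ := key v hv hv2
  have h3 := (uniq_zpowers h1 h2 (by rwa [orderOf_conj]) (by
    rw [_root_.conj_mul, mul_self_of_inv hu2]; simp)).resolve_left (conj_ne_one_iff.2 (ne_one_of_inv hu2))
  refine ⟨b⁻¹ * a, mul_mem (inv_mem hb) ha, ?_⟩
  rw [show b⁻¹ * a * u * (b⁻¹ * a)⁻¹ = b⁻¹ * (a * u * a⁻¹) * b by group, h3]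
  group

theorem not_cyclic_of_perf {L S : Subgroup G} (h : ⁅L, L⁆ = L) (h0 : L ≠ ⊥) (hS : IsSylowIn 2 S L) :
    ¬ IsCyclic S := fun hc =>
  h0 (eq_bot_of_perf h (solvable_of_nilp2 (SW.nilp2_of_cent hS fun P hP _ _ hn ho =>
    SW.mem_cent_of_cyclic_two (hS.isPGroup.to_le hP) (isCyclic_of_le' hc hP) hn ho)))

theorem exists_four_of_perf {L : Subgroup G} (h : ⁅L, L⁆ = L) (h0 : L ≠ ⊥) :
    ∃ t ∈ L, ∃ s ∈ L, Four t s := by
  obtain ⟨S, hS⟩ := IsSylowIn.exists_in (p := 2) L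
  obtain ⟨x, hx⟩ := hG.exists_dt hS.isPGroup
  have hc := hG.not_cyclic_of_perf h h0 hS
  obtain ⟨y, hy, hy'⟩ := SetLike.not_le_iff_exists.1 fun e : S ≤ zpowers x =>
    hc (isCyclic_of_le' inferInstance e)
  have x1 : x ≠ 1 := fun e => hc (isCyclic_of_prime_card (p := 2) (by
    rw [hx.card hy hy', e, orderOf_one]))
  obtain ⟨z, hz, ho⟩ := exists_inv_mem hS.isPGroup hx.mem x1
  refine ⟨z, hS.le (hx.le hz), y, hS.le hy, ho, hx.ord hy hy', ?_, fun e => hy' (e ▸ hz)⟩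
  have := hx.inv hy hy' z hz
  rwa [inv_of_inv ho, mul_inv_eq_iff_eq_mul, eq_comm] at this

theorem Jv_of_perf {L : Subgroup G} (h : ⁅L, L⁆ = L) : Jv L = L := by
  by_cases h0 : L = ⊥
  · exact le_antisymm (Jv_le L) (by rw [h0]; exact bot_le)
  obtain ⟨S, hS⟩ := IsSylowIn.exists_in (p := 2) L
  obtain ⟨x, hx⟩ := hG.exists_dt hS.isPGroup
  obtain ⟨y, hy, hy'⟩ := SetLike.not_le_iff_exists.1 fun e : S ≤ zpowers x =>
    hG.not_cyclic_of_perf h h0 hS (isCyclic_of_le' inferInstance e)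
  have key : ∀ a ∈ S, a ∉ zpowers x → a ∈ Jv L := fun a ha ha' => mem_Jv (hS.le ha) (hx.ord ha ha')
  have h1 : S ≤ Jv L := fun a ha => by
    by_cases e : a ∈ zpowers x
    · simpa using mul_mem (key _ (mul_mem ha hy) fun e' => hy' (by
        simpa using mul_mem (inv_mem e) e')) (inv_mem (key y hy hy'))
    · exact key a ha e
  exact eq_of_perf_of_odd h (Jv_le L) (le_norm_Jv L) ((odd_of_not_two_dvd hS.not_dvd).of_dvd_nat
    (relIndex_dvd_of_le_left L h1))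

theorem exists_refl (h : Four t s) {L T : Subgroup G} (hV : V t s ≤ L) (hT : IsPGroup 2 T)
    (hn : T ≤ 𝐍(L)) : ∃ Q x, T ≤ Q ∧ Q ≤ 𝐍(L) ∧ DT Q x ∧ ∃ r ∈ Q ⊓ L, r ∉ zpowers x := by
  obtain ⟨Q, h1, hQ⟩ := IsSylowIn.exists_ge hT (le_sup_left : T ≤ T ⊔ L)
  have h2 : Q ≤ 𝐍(L) := hQ.le.trans (sup_le hn le_normalizer)
  obtain ⟨g, -, h3⟩ := (hQ.inf_of_le_normalizer le_sup_right h2).exists_conj_le h.isPGroup_V hV
  rw [← V_conj] at h3
  obtain ⟨x, hx⟩ := hG.exists_dt hQ.isPGroup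
  obtain ⟨z, a, -, e, -, ha⟩ := hx.split (h.conj g) (h3.trans inf_le_left)
  exact ⟨Q, x, h1, h2, hx, a, h3 (e ▸ s_mem_V z a), ha⟩

omit [Finite G] hG in
theorem sq_mem_of_inverted {L : Subgroup G} {g r : G} (hg : g ∈ 𝐍(L)) (hr : r ∈ L)
    (e : r * g * r⁻¹ = g⁻¹) : g * g ∈ L := by
  rw [show g * g = g * r * g⁻¹ * r⁻¹ by
    rw [show g * r * g⁻¹ * r⁻¹ = g * (r * g * r⁻¹)⁻¹ by group, e, inv_inv]]
  exact mul_mem ((mem_normalizer_iff.1 hg r).1 hr) (inv_mem hr)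

/-- Squares of `2`-elements lie in a normalized subgroup containing a four-group. -/
theorem mul_self_mem (h : Four t s) {L : Subgroup G} (hV : V t s ≤ L) {g : G} (hg : g ∈ 𝐍(L))
    (h2 : IsPGroup 2 (zpowers g)) : g * g ∈ L := by
  obtain ⟨Q, x, h1, -, hx, r, hr, hr'⟩ := hG.exists_refl h hV h2 (zpowers_le.2 hg)
  by_cases e : g ∈ zpowers x
  · exact sq_mem_of_inverted hg hr.2 (hx.inv hr.1 hr' g e)
  · rw [hx.sq (h1 (mem_zpowers g)) e]
    exact one_mem _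

/-- The product of two `2`-elements outside `L` in a common `2`-group lies in `L`. -/
theorem mul_mem_of_notMem (h : Four t s) {L T : Subgroup G} (hV : V t s ≤ L) (hT : IsPGroup 2 T)
    (hn : T ≤ 𝐍(L)) {a b : G} (ha : a ∈ T) (hb : b ∈ T) (ha' : a ∉ L) (hb' : b ∉ L) :
    a * b ∈ L := by
  obtain ⟨Q, x, h1, h2, hx, r, hr, hr'⟩ := hG.exists_refl h hV hT hn
  have hxx : x * x ∈ L := sq_mem_of_inverted (h2 hx.mem) hr.2 (hx.inv hr.1 hr' x (mem_zpowers x))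
  have key : ∀ c ∈ zpowers x, c ∉ L → x⁻¹ * c ∈ L := by
    rintro _ ⟨i, rfl⟩ hc
    obtain ⟨j, rfl | rfl⟩ := Int.even_or_odd' i
    · exact absurd (by simpa only [zpow_mul, zpow_two] using zpow_mem hxx j) hc
    · rw [show x⁻¹ * (fun i : ℤ => x ^ i) (2 * j + 1) = (x * x) ^ j by
        simp only [← zpow_two, ← zpow_mul]; group]
      exact zpow_mem hxx j
  have key2 : ∀ c ∈ T, c ∉ L → x⁻¹ * c ∈ L := fun c hc hc' => by
    by_cases e : c ∈ zpowers x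
    · exact key c e hc'
    · simpa [mul_assoc] using mul_mem (key _ (hx.mul (h1 hc) e hr.1 hr') fun e => hc' (by
        simpa using mul_mem e (inv_mem hr.2))) (inv_mem hr.2)
  rw [show a * b = x * (x⁻¹ * a) * x⁻¹ * (x * x) * (x⁻¹ * b) by group]
  exact mul_mem (mul_mem (conj_mem_of_mem_normalizer (h2 hx.mem) (key2 a ha ha')) hxx) (key2 b hb hb')

theorem exists_frame (h : Four t s) {L : Subgroup G} (hV : V t s ≤ L)
    (h8 : 8 ∣ Nat.card ↥(L ⊓ 𝐂[t])) (hi : Odd ((𝐂[t]).relIndex L)) : ∃ S x, DF L S x s t := by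
  obtain ⟨T, x, h1, hT, hx, hs, e, ⟨i, rfl⟩, e1⟩ := hG.exists_dt_cent h hV h8
  have hsT := h1 (s_mem_V t s)
  refine ⟨T, x, ⟨⟨hT.le.trans inf_le_left, hT.isPGroup, ?_⟩, hx.mem, hsT, hs, fun b hb => ?_,
    ⟨i, by rw [← e1]; exact (Commute.refl x).mul_zpow i⟩, h.t1, ?_, ?_⟩, h.ot⟩
  · rw [← relIndex_mul_relIndex _ _ _ hT.le inf_le_left, inf_relIndex_left]
    exact fun e => ((Nat.Prime.dvd_mul Nat.prime_two).1 e).elim hT.not_dvd
      hi.not_two_dvd_nat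
  · exact or_iff_not_imp_left.2 fun e => h.si.symm ▸ hx.mul hb e hsT hs
  · rw [(hx.out s hsT hs).2.1, inv_mul_cancel]
    exact one_mem _
  · rw [h.ss]
    exact one_mem _

end Dih

namespace TE

variable {M L : Subgroup G} (h : TE M L) (hG : Dih G)
include h hG

theorem one : OneCl L := hG.oneCl_of_perf h.perf

theorem four : ∃ t ∈ L, ∃ s ∈ L, Four t s := hG.exists_four_of_perf h.perf h.ne

theorem four_dvd : 4 ∣ Nat.card L :=
  let ⟨_, ht, _, hs, h4⟩ := h.four hG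
  h4.four_dvd ht hs

theorem mul_self_mem {g : G} (hg : g ∈ M) (h2 : IsPGroup 2 (zpowers g)) : g * g ∈ L :=
  let ⟨_, ht, _, hs, h4⟩ := h.four hG
  hG.mul_self_mem h4 (V_le ht hs) (h.norm hg) h2

theorem exists_mem_V {t s : G} (h4 : Four t s) (hV : V t s ≤ M) : t ∈ L ∨ s ∈ L ∨ t * s ∈ L :=
  hG.exists_mem_V h4 (hV.trans h.norm) (h.four_dvd hG)

/-- Every perfect subgroup of `M` lies in `L`. -/
theorem le_of_perf {K : Subgroup G} (hK : K ≤ M) (hp : ⁅K, K⁆ = K) : K ≤ L := by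
  by_cases h0 : K = ⊥
  · exact h0 ▸ bot_le
  obtain ⟨t, ht, s, hs, h4⟩ := hG.exists_four_of_perf hp h0
  obtain ⟨v, hv, hvK, ho⟩ : ∃ v ∈ L, v ∈ K ∧ orderOf v = 2 := by
    rcases h.exists_mem_V hG h4 ((V_le ht hs).trans hK) with e | e | e
    exacts [⟨t, e, ht, h4.ot⟩, ⟨s, e, hs, h4.os⟩, ⟨_, e, mul_mem ht hs, h4.ots⟩]
  rw [← hG.Jv_of_perf hp]
  refine Jv_le_of fun u hu hu2 => ?_
  obtain ⟨g, hg, rfl⟩ := hG.oneCl_of_perf hp v hvK u hu ho hu2
  exact conj_mem_of_mem_normalizer (h.norm (hK hg)) hv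

theorem unique {L' : Subgroup G} (h' : TE M L') : L = L' :=
  le_antisymm (h'.le_of_perf hG h.le h.perf) (h.le_of_perf hG h'.le h'.perf)

theorem not_le_cent {t : G} (ht : orderOf t = 2) : ¬ L ≤ 𝐂[t] := by
  intro e
  have := hG.solvable_cent ht
  exact h.ne (eq_bot_of_perf h.perf (Group.isSolvable_of_isSolvable_injective (inclusion_injective e)))

theorem exists_mul {t : G} (ht : orderOf t = 2) (htL : t ∈ L) {g : G} (hg : g ∈ M) :
    ∃ l ∈ L, ∃ c ∈ M ⊓ 𝐂[t], g = l * c := by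
  obtain ⟨l, hl, e⟩ := h.one hG t htL _ (conj_mem_of_mem_normalizer (h.norm hg) htL) ht
    (by rwa [orderOf_conj])
  refine ⟨l, hl, l⁻¹ * g, ⟨M.mul_mem (inv_mem (h.le hl)) hg, mem_cent1_of_conj_eq ?_⟩, by group⟩
  rw [show l⁻¹ * g * t * (l⁻¹ * g)⁻¹ = l⁻¹ * (g * t * g⁻¹) * l by group, ← e]
  group

/-- `M = L C_M(t)`. -/
theorem relIndex_cent {t : G} (ht : orderOf t = 2) (htL : t ∈ L) :
    (𝐂[t]).relIndex M = (𝐂[t]).relIndex L := by
  rw [← Frob.ncard_conj_subgroup, ← Frob.ncard_conj_subgroup]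
  congr 1
  ext y
  refine ⟨fun ⟨g, hg, e⟩ => ?_, fun ⟨g, hg, e⟩ => ⟨g, h.le hg, e⟩⟩
  obtain ⟨l, hl, c, hc, rfl⟩ := h.exists_mul hG ht htL hg
  exact ⟨l, hl, by rw [← e, show l * c * t * (l * c)⁻¹ = l * (c * t * c⁻¹) * l⁻¹ by group,
    conj_eq_of_mem_cent1 hc.2]⟩

end TE

namespace DF

variable {L S : Subgroup G} {x y t a s : G} (h : DF L S x y t)
include h

omit [Finite G] in
theorem tA : t ∈ zpowers x := h.zA

omit [Finite G] in
theorem tS : t ∈ S := h.AS h.tA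

omit [Finite G] in
theorem tt : t * t = 1 := mul_self_of_inv h.ot

omit [Finite G] in
theorem xyS : x * y ∈ S := mul_mem h.xS h.yS

omit [Finite G] in
theorem xyA : x * y ∉ zpowers x := h.mul_y_notMem (mem_zpowers x)

omit [Finite G] in
theorem A0_iff : a ∈ zpowers (t * t) ↔ a = 1 := by simp [h.tt]

omit [Finite G] in
theorem refl_ord (hs : s ∈ S) (hsA : s ∉ zpowers x) : orderOf s = 2 := by
  exact inv_of_mul_self (h.A0_iff.1 (h.sq_mem hs hsA)) fun e => hsA (e ▸ one_mem _)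

omit [Finite G] in
theorem refl_inv (hs : s ∈ S) (hsA : s ∉ zpowers x) : Inverts s (zpowers x) := by
  intro a ha
  rw [h.conj_eq hs hsA ha]
  exact eq_inv_of_mul_eq_one_left (h.A0_iff.1 (h.inv' ha))

theorem uniq (ha : a ∈ zpowers x) (e : a * a = 1) : a = 1 ∨ a = t := by
  exact uniq_zpowers ha h.tA h.ot e

theorem S_le : S ≤ 𝐂[t] := by
  exact h.normA.trans (SW.norm_le_cent_inv inferInstance h.tA h.ot)

theorem refl_four (hs : s ∈ S) (hsA : s ∉ zpowers x) : Four t s := by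
  exact ⟨h.ot, h.refl_ord hs hsA, mem_cent1'.1 (h.S_le hs), fun e => hsA (e ▸ h.tA)⟩

theorem four : Four t y := h.refl_four h.yS h.yA

theorem four' : Four t (x * y) := h.refl_four h.xyS h.xyA

theorem notMem_A (h4 : Four t s) : s ∉ zpowers x := by
  exact fun e => (h.uniq e h4.ss).elim h4.s1 h4.ne.symm

theorem four_dvd : 4 ∣ orderOf x := by
  obtain ⟨k, hk⟩ := orderOf_eq_pow_of_mem_isPGroup h.syl.isPGroup h.xS
  rw [hk]
  rcases k with _ | _ | k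
  · exact absurd (by simp [orderOf_eq_one_iff.1 hk]) h.xxA0
  · exact absurd (by simp [mul_self_of_inv hk]) h.xxA0
  · exact ⟨2 ^ k, by ring⟩

theorem card_S' : Nat.card S = 2 * orderOf x := by
  rw [h.card_S, Nat.card_zpowers]

theorem S_eq : zpowers x ⊔ zpowers y = S := by
  refine le_antisymm (sup_le h.AS (zpowers_le.2 h.yS)) fun b hb => ?_
  by_cases e : b ∈ zpowers x
  · exact mem_sup_left e
  · obtain ⟨c, hc, rfl⟩ := h.exists_mul hb e
    exact mul_mem (mem_sup_left hc) (mem_sup_right (mem_zpowers y))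

theorem swap : DF L S x⁻¹ (x * y) t := by
  refine ⟨⟨h.syl, inv_mem h.xS, h.xyS, by rw [zpowers_inv]; exact h.xyA, fun b hb => ?_, ?_, h.z1,
    ?_, ?_⟩, h.ot⟩
  · rw [zpowers_inv]
    refine (h.cov b hb).imp_right fun e => ?_
    simpa [mul_assoc] using mul_mem e (inv_mem (mem_zpowers x))
  · rw [← mul_inv_rev, zpowers_inv]
    exact h.zx
  · rw [h.refl_inv h.xyS h.xyA _ (inv_mem (mem_zpowers x)), inv_mul_cancel]
    exact one_mem _
  · exact h.sq_mem h.xyS h.xyA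

omit [Finite G] in
theorem mono {H : Subgroup G} (h1 : S ≤ H) (h2 : H ≤ L) : DF H S x y t := by
  exact ⟨⟨h.syl.mono h1 h2, h.xS, h.yS, h.yA, h.cov, h.zx, h.z1, h.inv, h.yy⟩, h.ot⟩

theorem exists_e : ∃ e ∈ zpowers x, e * e = t ∧ e * y * e⁻¹ = t * y := by
  obtain ⟨e, he, e1⟩ := DT.exists_sqrt h.four_dvd h.tA h.ot
  exact ⟨e, he, e1, conj_eq_of_sqrt e1 (h.refl_inv h.yS h.yA e he)⟩

theorem N0_eq (hL : 𝐂[t] ≤ L) : SW.N0 L t = 𝐂[t] :=
  le_antisymm (inf_le_right.trans (SW.norm_le_cent_inv inferInstance (mem_zpowers t) h.ot))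
    (le_inf hL ((cent_zpowers t).ge.trans (cent_le_norm _)))

theorem compl (hL : 𝐂[t] ≤ L) : IsComplIn (Ut t) S 𝐂[t] := by
  have := h.toFr.compl
  rwa [h.N0_eq hL] at this

theorem exists_mul (hL : 𝐂[t] ≤ L) {g : G} (hg : g ∈ 𝐂[t]) : ∃ u ∈ Ut t, ∃ b ∈ S, g = u * b := by
  exact (h.compl hL).2.2.2 g hg

theorem le_of (hL : 𝐂[t] ≤ L) {K : Subgroup G} (h1 : Ut t ≤ K) (h2 : x ∈ K) (h3 : y ∈ K) :
    𝐂[t] ≤ K := by
  intro g hg
  obtain ⟨u, hu, b, hb, rfl⟩ := h.exists_mul hL hg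
  exact mul_mem (h1 hu) (sup_le (zpowers_le.2 h2) (zpowers_le.2 h3) (h.S_eq ▸ hb))

/-- Reflections of `S` differing by a square are conjugate under `⟨x⟩`. -/
theorem exists_conj_sq (hs : s ∈ S) (hsA : s ∉ zpowers x) (ha : a ∈ zpowers (x * x)) :
    ∃ b ∈ zpowers x, b * s * b⁻¹ = a * s := by
  obtain ⟨i, rfl⟩ := ha
  refine ⟨x ^ i, zpow_mem (mem_zpowers x) i, ?_⟩
  rw [conj_eq_of_sqrt rfl (h.refl_inv hs hsA _ (zpow_mem (mem_zpowers x) i))]
  simp only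
  rw [(Commute.refl x).mul_zpow]

theorem refl_cases (hs : s ∈ S) (hsA : s ∉ zpowers x) :
    ∃ b ∈ zpowers x, b * y * b⁻¹ = s ∨ b * (x * y) * b⁻¹ = s := by
  obtain ⟨_, ⟨i, rfl⟩, rfl⟩ := h.toFr.exists_mul hs hsA
  obtain ⟨j, rfl | rfl⟩ := Int.even_or_odd' i
  · obtain ⟨b, hb, e⟩ := h.exists_conj_sq h.yS h.yA (zpow_mem (mem_zpowers (x * x)) j)
    exact ⟨b, hb, Or.inl (by simp only [e, zpow_mul, zpow_two])⟩
  · obtain ⟨b, hb, e⟩ := h.exists_conj_sq h.xyS h.xyA (zpow_mem (mem_zpowers (x * x)) j)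
    exact ⟨b, hb, Or.inr (by simp only [e, zpow_add, zpow_mul, zpow_two, zpow_one, mul_assoc])⟩

theorem exists_conj_mem (hL : 𝐂[t] ≤ L) (h4 : Four t s) :
    ∃ c ∈ 𝐂[t], c * s * c⁻¹ ∈ S ∧ c * s * c⁻¹ ∉ zpowers x := by
  obtain ⟨c, hc, h1⟩ := (h.syl.mono h.S_le hL).exists_conj_le (isPGroup_zpowers_inv h4.os)
    (zpowers_le.2 h4.s_cent)
  refine ⟨c, hc, h1 (conj_mem_map_conj (mem_zpowers s)), h.notMem_A ?_⟩
  simpa only [conj_eq_of_mem_cent1 hc] using h4.conj c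

theorem exists_conj_cases (hL : 𝐂[t] ≤ L) (h4 : Four t s) :
    ∃ n ∈ 𝐂[t], n * y * n⁻¹ = s ∨ n * (x * y) * n⁻¹ = s := by
  obtain ⟨c, hc, h1, h2⟩ := h.exists_conj_mem hL h4
  obtain ⟨b, hb, e⟩ := h.refl_cases h1 h2
  refine ⟨c⁻¹ * b, mul_mem (inv_mem hc) (h.S_le (h.AS hb)), e.imp (fun e => ?_) fun e => ?_⟩
  · rw [show c⁻¹ * b * y * (c⁻¹ * b)⁻¹ = c⁻¹ * (b * y * b⁻¹) * c by group, e]; group
  · rw [show c⁻¹ * b * (x * y) * (c⁻¹ * b)⁻¹ = c⁻¹ * (b * (x * y) * b⁻¹) * c by group, e]; group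

theorem not_conj (hL : 𝐂[t] ≤ L) {g : G} (hg : g ∈ 𝐂[t]) : g * y * g⁻¹ ≠ x * y := fun e => by
  obtain ⟨b, hb, e1⟩ := h.fusN h.yS (h.N0_eq hL ▸ hg) (e ▸ h.xyS)
  rw [e] at e1
  have key : ∀ c ∈ zpowers x, c * y * c⁻¹ ≠ x * y := by
    rintro _ ⟨i, rfl⟩ e
    rw [conj_eq_of_sqrt rfl (h.refl_inv h.yS h.yA _ (zpow_mem (mem_zpowers x) i)),
      mul_left_inj] at e
    exact h.xA ⟨i, ((Commute.refl x).mul_zpow i).trans e⟩
  by_cases hb' : b ∈ zpowers x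
  · exact key b hb' e1.symm
  · obtain ⟨c, hc, rfl⟩ := h.toFr.exists_mul hb hb'
    exact key c hc (by rw [e1]; group)

theorem mI_eq (hL : 𝐂[t] ≤ L) :
    mI t = (𝐂[y]).relIndex 𝐂[t] + (𝐂[x * y]).relIndex 𝐂[t] := by
  rw [mI, ← Frob.ncard_conj_subgroup, ← Frob.ncard_conj_subgroup, ← Set.ncard_union_eq]
  · congr 1
    ext a
    refine ⟨fun ha => ?_, ?_⟩
    · obtain ⟨n, hn, e | e⟩ := h.exists_conj_cases hL ha
      exacts [Or.inl ⟨n, hn, e⟩, Or.inr ⟨n, hn, e⟩]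
    · rintro (⟨n, hn, rfl⟩ | ⟨n, hn, rfl⟩)
      · simpa only [conj_eq_of_mem_cent1 hn, Set.mem_setOf_eq] using h.four.conj n
      · simpa only [conj_eq_of_mem_cent1 hn, Set.mem_setOf_eq] using h.four'.conj n
  · rw [Set.disjoint_left]
    rintro _ ⟨n, hn, rfl⟩ ⟨m, hm, e⟩
    exact h.not_conj hL (mul_mem (inv_mem hm) hn) (by
      rw [show m⁻¹ * n * y * (m⁻¹ * n)⁻¹ = m⁻¹ * (n * y * n⁻¹) * m by group, ← e]; group)

theorem cent_refl (hs : s ∈ S) (hsA : s ∉ zpowers x) : S ⊓ 𝐂[s] = V t s := by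
  have h4 := h.refl_four hs hsA
  have key : ∀ c ∈ zpowers x, c ∈ 𝐂[s] → c ∈ V t s := fun c hc e => by
    have h1 := h.refl_inv hs hsA c hc
    rw [conj_eq_of_mem_cent1 (mem_cent1_comm.1 e)] at h1
    rcases h.uniq hc (by nth_rewrite 1 [h1]; exact inv_mul_cancel c) with rfl | rfl
    exacts [one_mem _, t_mem_V _ _]
  refine le_antisymm (fun a ha => ?_) (V_le ⟨h.tS, h4.symm.s_cent⟩ ⟨hs, self_mem_cent1 s⟩)
  by_cases e : a ∈ zpowers x
  · exact key a e ha.2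
  · simpa using mul_mem (key _ (h.mul_mem_A ha.1 e hs hsA) (mul_mem ha.2 (self_mem_cent1 s)))
      (inv_mem (s_mem_V t s))

omit h in
theorem relIndex_conj {H : Subgroup G} {n : G} (hn : n ∈ 𝐍(H)) :
    (𝐂[n * s * n⁻¹]).relIndex H = (𝐂[s]).relIndex H := by
  nth_rewrite 1 [← map_conj_eq_of_mem_normalizer hn]
  rw [cent1_conj, relIndex_map_map_of_injective _ _ (MulAut.conj n).injective]

theorem relIndex_cent (hL : 𝐂[t] ≤ L) (h4 : Four t s) :
    2 * (𝐂[s]).relIndex 𝐂[t] = (𝐂[s]).relIndex (Ut t) * orderOf x := by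
  have := Fintype.ofFinite G
  obtain ⟨c, hc, hs, hsA⟩ := h.exists_conj_mem hL h4
  rw [← relIndex_conj (le_normalizer hc), ← relIndex_conj (cent_le_norm_Ut t hc)]
  generalize c * s * c⁻¹ = s at hs hsA
  have h1 := IsComplIn.card_mul (IsComplIn.cent1 (h.compl hL) (h.S_le.trans (cent_le_norm_Ut t)) hs)
  have h2 := IsComplIn.card_mul (h.compl hL)
  rw [FT.card_eq_relIndex_mul (inf_le_left : 𝐂[t] ⊓ 𝐂[s] ≤ _), ← h1, h.cent_refl hs hsA,
    (h.refl_four hs hsA).card_V, h.card_S',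
    FT.card_eq_relIndex_mul (inf_le_left : Ut t ⊓ 𝐂[s] ≤ _), inf_relIndex_left,
    inf_relIndex_left] at h2
  refine Nat.eq_of_mul_eq_mul_left (Nat.card_pos (α := ↥(Ut t ⊓ 𝐂[s]))) ?_
  linarith

end DF

namespace Simp

variable (hG : Simp G) {t s : G}
include hG

theorem norm_ne_top {X : Subgroup G} (h1 : X ≠ ⊥) (h2 : X ≠ ⊤) : 𝐍(X) ≠ ⊤ := by
  intro h
  have := hG.simple
  exact ((normal_of_le_normalizer_top h.ge).eq_bot_or_eq_top).elim h1 h2

theorem not_solvable : ¬ Group.IsSolvable G := by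
  intro hs
  have := hG.simple
  have h1 := IsSimpleGroup.comm_iff_isSolvable.2 hs
  let _ : CommGroup G := { (inferInstance : Group G) with mul_comm := h1 }
  have h2 : (Nat.card G).Prime := IsSimpleGroup.prime_card
  have h3 := (Nat.prime_dvd_prime_iff_eq Nat.prime_two h2).1 ((by decide : 2 ∣ 8).trans hG.eight)
  have := hG.eight
  omega

theorem ne_top_of_solvable {X : Subgroup G} (hX : Group.IsSolvable X) : X ≠ ⊤ := by
  rintro rfl
  exact hG.not_solvable (Group.isSolvable_of_surjective (f := (⊤ : Subgroup G).subtype)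
    fun x => ⟨⟨x, trivial⟩, rfl⟩)

theorem norm_ne_top' {X : Subgroup G} (h1 : X ≠ ⊥) (h2 : Group.IsSolvable X) : 𝐍(X) ≠ ⊤ :=
  hG.norm_ne_top h1 (hG.ne_top_of_solvable h2)

theorem norm_eq {M X : Subgroup G} (hM : IsCoatom M) (h1 : X ≠ ⊥) (h2 : X ≤ M) (h3 : M ≤ 𝐍(X)) :
    𝐍(X) = M :=
  (hM.le_iff.1 h3).resolve_left (hG.norm_ne_top h1 fun e => hM.1 (top_le_iff.1 (e ▸ h2)))

omit [Finite G] in
theorem exists_conj {u v : G} (hu : orderOf u = 2) (hv : orderOf v = 2) :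
    ∃ g, g * u * g⁻¹ = v :=
  let ⟨g, _, e⟩ := hG.one u trivial v trivial hu hv
  ⟨g, e⟩

theorem perf : ⁅(⊤ : Subgroup G), (⊤ : Subgroup G)⁆ = ⊤ :=
  haveI := hG.simple
  BSW.commutator_eq_top_of_simple fun e => hG.not_solvable (Group.isSolvable_of_comm e.is_comm.comm)

theorem exists_four (ht : orderOf t = 2) : ∃ s, Four t s := by
  have := hG.simple
  obtain ⟨a, -, b, -, h⟩ := hG.dih.exists_four_of_perf hG.perf top_ne_bot
  obtain ⟨g, rfl⟩ := hG.exists_conj h.ot ht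
  exact ⟨_, h.conj g⟩

theorem odd_index (ht : orderOf t = 2) : Odd (𝐂[t]).index := by
  obtain ⟨S, hS⟩ := IsSylowIn.exists_in (p := 2) (⊤ : Subgroup G)
  obtain ⟨z, -, ho, hz⟩ := exists_inv_cent hS.isPGroup (K := ⊤) (le_top.trans le_normalizer) (by
    rw [card_top, Nat.not_odd_iff_even, even_iff_two_dvd]
    exact (by decide : 2 ∣ 8).trans hG.eight)
  obtain ⟨g, rfl⟩ := hG.exists_conj ho ht
  have h1 := odd_of_not_two_dvd hS.not_dvd
  rw [relIndex_top_right] at h1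
  rw [cent1_conj, index_map_of_injective _ (MulAut.conj g).injective,
    MonoidHom.range_eq_top.2 (MulAut.conj g).surjective, index_top, mul_one]
  exact h1.of_dvd_nat (index_dvd_of_le fun a ha => mem_cent1.2 (mem_cent.1 hz a ha))

theorem eight_dvd (ht : orderOf t = 2) : 8 ∣ Nat.card 𝐂[t] :=
  (Nat.Coprime.pow_left 3 (Nat.coprime_two_left.2 (hG.odd_index ht))).dvd_of_dvd_mul_left
    (by rw [index_mul_card]; exact hG.eight)

theorem exists_frame (h : Four t s) : ∃ S x, DF ⊤ S x s t := by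
  exact hG.dih.exists_frame h le_top (by rw [top_inf_eq]; exact hG.eight_dvd h.ot)
    (by rw [relIndex_top_right]; exact hG.odd_index h.ot)

theorem exists_e (h : Four t s) :
    ∃ e ∈ 𝐂[t], e * e = t ∧ e * s * e⁻¹ = t * s ∧ s * e * s⁻¹ = e⁻¹ := by
  simpa only [top_inf_eq] using hG.dih.exists_e h le_top
    (by rw [top_inf_eq]; exact hG.eight_dvd h.ot)

/-- An element of `N(⟨t, s⟩)` interchanging `t` and `s`. -/
theorem exists_swap (h : Four t s) :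
    ∃ d ∈ 𝐍(V t s), d * t * d⁻¹ = s ∧ d * s * d⁻¹ = t := by
  obtain ⟨e, he, -, e1, -⟩ := hG.exists_e h.mul.symm
  rw [h.comm, mul_assoc s, h.tt, mul_one] at e1
  have e2 : e * s * e⁻¹ = t := by
    have := conj_eq_of_mem_cent1 he
    rw [← _root_.conj_mul, e1, h.comm] at this
    exact mul_left_cancel this
  exact ⟨e, mem_normalizer_of_map_conj_eq (by rw [← V_conj, e1, e2, V_comm]), e1, e2⟩

end Simp

end CfsgLib.GD
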