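import Cfsg.Agent.Lib.GD.C1B

/-!
# `U = [U, S]` under a fusion hypothesis

Let `R = ⨆ [U, s]` (`s` over all involutions `≠ t` of `N = C(t)`), normal in `N`, and suppose
`R < U`.  Then `N` has a linear character `λ` of odd order, `λ|_U ≠ 1`, trivial on `R` and on all
`2`-elements (`exists_lin_ne_one`, `exists_lin_extend_ker`; `N / R = U / R × S`).  `U = R C_U(S)`,
so some `v ≠ 1` of odd order centralizes `S` and (C2) gives `|a| ≥ 16`, `a ≥ 17` or `a ≤ -23`.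

For `ν ∈ Irr ⟨x⟩` put `Θ ν = Ind_N^G (λ · Th N ν)`; `Th N ν` is supported on the TI set
`A = {g | t ∈ ⟨g⟩}` with normalizer `N`; so `(Θ ν, Θ ν') = (Th N ν, Th N ν') = 2 + δ + δ'`
(`Fr.cfdot_Th_Th` for `L = N`), `Θ ν 1 = 0`, `(Θ ν, 1) = 0`, `Θ ν t = 2 (1 - ν t)`.
A product `g = a b ∈ A` of two involutions is inverted by `a ∈ N`, so `λ g = 1`; hence
`∑ Θ ν (a b) = ∑ (Th ⊤ ν) (a b)` (`Th ⊤ ν = Ind (Th N ν)`: same support and values), i.e. for
generic `μ`: `σ(Θ μ) := ∑_χ (Θ μ, χ) χ(t)² / χ(1) = 1 + 1/a - 4/(a+1) = (a-1)²/(a(a+1))`, which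
lies in `[0.836, 1.139]` (`sum_sum_dirr`, `Dec.formula_gen`, `Simp.num`).

Fusion: `λ (g u g⁻¹) = λ u` if `u, g u g⁻¹ ∈ U` (for `w ∈ U` and an involution `r = h t h⁻¹` of
`C(w)` put `φ r = λ (h⁻¹ w h)`; `φ` is `C(w)`-invariant, agrees on commuting involutions by the
hypothesis, and any two involutions of a Sylow `2`-subgroup are joined through a central one).
As in `GW.exists_ext`, `GW.exists_lift_U`: for `χ = ±`irreducible, `c_χ := (tr t χ, λ)_U` is `0`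
or equals `χ t`; and `c_χ = - ∑_ν ν(t) (χ, Θ ν)` (project `λ̄ χ|_N` to `B0(N) = Irr (N / U)`).
`Θ l = f₁ + f₂ + f₃ + f₄`, `Θ μ = (two of the fᵢ) - ε μ`; `c_{fᵢ}` is odd, so `fᵢ t = c_{fᵢ}`.
If `μ t ≠ μ' t` then the pairs of `fᵢ` agree (otherwise `ε μ = ε μ'`, `Θ μ - Θ μ' = f₂ - f₃`,
`f₂ 1 = f₃ 1`, `f₂ t - f₃ t = ±4`, and `σ(Θ μ) = σ(Θ μ')` gives `(f₂ t)² = (f₃ t)²`, so
`f₂ t = ±2`); hence they all agree, `f₁ t = f₂ t = 1`, `(ε μ t)² = 4`, and
`σ = 1/d₁ + 1/d₂ - 4/(d₁ + d₂)` with `dᵢ ≡ 1 (mod 4)` (`exists_mod_four`), `dᵢ ≠ 1`; this is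
`≤ 0.78` or `≥ 2`.
-/

set_option autoImplicit false

namespace CfsgLib.GD

open Subgroup Cfsg CfsgLib.FT CfsgLib.FT.BGN CfsgLib.Blk CfsgLib.GW CfsgLib.SW
open scoped commutatorElement

variable {G : Type*} [Group G]

namespace DF

variable [Fintype G] {t : G} {S : Subgroup G} {x y : G} {lam f : G → ℂ}
  {l μ ν : Irr (zpowers x)} (h : DF ⊤ S x y t)
include h

theorem sg_t (ν : Irr (zpowers x)) : h.sg ν t = ν t := by
  rw [h.sg_apply, U4.conj_eq_of_mem_cent1 (h.S_le h.yS)]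

theorem gen_cases (hμ : Gen t μ) (hν : Gen t ν) (hn : ∀ ρ : Irr (zpowers x), Gen t ρ → ρ t ≠ 1) :
    ν = μ ∨ ν = h.sg μ := by
  have key : ∀ ρ : Irr (zpowers x), Gen t ρ → ρ x * ρ x = -1 := fun ρ hρ =>
    (mul_self_eq_one_iff.1 (by_contra fun e =>
      hn ⟨_, ((lin ρ).mul (lin ρ)).isIrr⟩ ⟨h.ev _, e⟩ (h.sq_t ρ))).resolve_left hρ.2
  refine (mul_self_eq_mul_self_iff.1 ((key ν hν).trans (key μ hμ).symm)).imp irr_ext fun e =>
    irr_ext (mul_right_cancel₀ ((lin μ).apply_ne_zero (mem_zpowers x)) ?_)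
  rw [h.sg_mul hμ.1 (mem_zpowers x), e, neg_mul, key μ hμ, neg_neg]

variable (hl : Twist t lam)
include hl

theorem sum_odd (hlx : l x = -1) (hf : IsDirr ⊤ f) (h1 : cfdot ⊤ f (TwTh t lam l) = 1) :
    ∃ k : ℤ, ∑ ν : Irr (zpowers x), ν t * cfdot ⊤ f (TwTh t lam ν) = 2 * k + 1 := by
  have hls : h.sg l = l := (h.sg_eq_iff (h.ev l)).2 (by rw [hlx]; norm_num)
  have hl1 : 1 ≠ l := fun e => by rw [← e, one_x] at hlx; norm_num at hlx
  have hlt : l t = 1 := by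
    obtain ⟨n, e⟩ := mem_powers_iff_mem_zpowers.2 h.zx
    have hx := mem_zpowers x
    rw [← e, (lin l).map_pow (mul_mem hx hx), (lin l).map_mul hx hx, hlx]
    simp
  have key : ∀ ν : Irr (zpowers x), ∃ m : ℤ,
      ν t * cfdot ⊤ f (TwTh t lam ν) - (if ν = l then 1 else 0) = m := fun ν => by
    obtain ⟨n, hn⟩ := ZIrr_cfdot_int hf.mem_ZIrr (h.TwTh_ZIrr hl (ν := ν))
    rcases mul_self_eq_one_iff.1 (h.sq_t ν) with e | e
    · exact ⟨n - if ν = l then 1 else 0, by rw [hn, e]; simp⟩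
    · exact ⟨-n - if ν = l then 1 else 0, by rw [hn, e]; simp⟩
  choose m hm using key
  have h2 : ∑ ν, (m ν : ZMod 2) = 0 := Finset.sum_involution (fun ν _ => h.sg ν) (fun ν _ => by
      rw [show m (h.sg ν) = m ν from Int.cast_injective (α := ℂ) (by
        rw [← hm, ← hm, h.sg_t, h.TwTh_sg, if_congr (show h.sg ν = l ↔ ν = l from
          ⟨fun e => by rw [← h.sg_sg ν, e, hls], fun e => e ▸ hls⟩) rfl rfl])]
      exact CharTwo.add_self_eq_zero _)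
    (fun ν _ e e' => e (by
      rw [show m ν = 0 from Int.cast_injective (α := ℂ) ?_, Int.cast_zero]
      rw [← hm]
      rcases Fr.ev_cases hlx (h.ev ν) with rfl | rfl | e
      · simp [TwTh_triv, hl1]
      · simp [h1, hlt]
      · exact absurd ((h.sg_eq_iff e.1).1 e') e.2))
    (fun _ _ => Finset.mem_univ _) fun ν _ => h.sg_sg ν
  rw [← Int.cast_sum, ZMod.intCast_zmod_eq_zero_iff_dvd] at h2
  obtain ⟨k, hk⟩ := h2
  refine ⟨k, ?_⟩
  have h3 : ((∑ ν, m ν : ℤ) : ℂ) = 2 * k := by rw [hk]; push_cast; rfl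
  rw [Int.cast_sum, ← Finset.sum_congr rfl fun ν _ => hm ν, Finset.sum_sub_distrib,
    Finset.sum_ite_eq', if_pos (Finset.mem_univ _)] at h3
  linear_combination h3

theorem dot_eq (h1 : OneCl (⊤ : Subgroup G)) (hμ : Gen t μ) (hν : Gen t ν) (e : μ t ≠ ν t)
    (hf : IsDirr ⊤ f) (h4 : f t ^ 2 ≠ 4) :
    cfdot ⊤ f (TwTh t lam μ) = cfdot ⊤ f (TwTh t lam ν) := by
  have hsg : ∀ μ, Gen t μ → μ ≠ h.sg μ := fun μ hμ e => hμ.2 ((h.sg_eq_iff hμ.1).1 e.symm)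
  have n1 : μ ≠ ν := fun e' => e (e' ▸ rfl)
  have n2 : μ ≠ h.sg ν := fun e' => e (by rw [e', h.sg_t])
  have n3 : ν ≠ h.sg μ := fun e' => e (by rw [e', h.sg_t])
  obtain ⟨χ, ψ, hχ, hψ, -, e1⟩ := vchar_norm2 (sub_mem (h.TwTh_ZIrr hl (ν := μ))
    (h.TwTh_ZIrr hl (ν := ν))) (by rw [Pi.sub_apply, h.TwTh_one hl, h.TwTh_one hl, sub_self])
    (cfnorm_eq_of_cfdot_eq (by
      simp only [cfdot_sub_left, cfdot_sub_right, h.TwTh_dot hl, hμ.ne_one, hν.ne_one, ne_eq,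
        not_false_eq_true, n1, n1.symm, n2, n3, hsg μ hμ, hsg ν hν, if_true, if_false]
      norm_num))
  have e2 := congrFun e1 1
  have e3 := congrFun e1 t
  rw [Pi.sub_apply, Pi.sub_apply, h.TwTh_one hl, h.TwTh_one hl, sub_self, eq_comm, sub_eq_zero] at e2
  rw [Pi.sub_apply, Pi.sub_apply, h.TwTh_t hl, h.TwTh_t hl] at e3
  have e4 := h.sum_TwTh hl h1 hμ
  rw [← h.sum_TwTh hl h1 hν, ← sub_eq_zero, sub_eq_iff_eq_add.1 e1] at e4
  simp only [Pi.add_apply, Pi.sub_apply, Finset.sum_add_distrib, Finset.sum_sub_distrib,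
    sum_sum_dirr hχ.isDirr (mem_top t), sum_sum_dirr hψ.isDirr (mem_top t), e2] at e4
  have e5 := hψ.one_ne_zero
  have e6 := card_ne_zero (⊤ : Subgroup G)
  have e7 : χ t = -ψ t := by
    refine eq_neg_of_add_eq_zero_left (mul_left_cancel₀ (sub_ne_zero.2 e) ?_)
    have e8 : χ t ^ 2 = ψ t ^ 2 := (div_left_inj' e5).1 (mul_left_cancel₀ (pow_ne_zero 2 e6)
      (by linear_combination e4))
    linear_combination -(χ t + ψ t) / 2 * e3 - e8 / 2
  have e8 : ν t = -μ t :=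
    (mul_self_eq_mul_self_iff.1 ((h.sq_t ν).trans (h.sq_t μ).symm)).resolve_left e.symm
  have key : ∀ ρ, IsIrr ⊤ ρ → ρ t ^ 2 = 4 → cfdot ⊤ f ρ = 0 := fun ρ hρ e => by_contra fun e' => by
    rcases hf.eq_or_neg_of_cfdot_ne hρ.isDirr e' with rfl | rfl
    exacts [h4 e, h4 (by simpa using e)]
  have e9 : ψ t ^ 2 = 4 := by
    rw [show ψ t = 2 * μ t by rw [e7, e8] at e3; linear_combination e3 / 2]
    linear_combination 4 * h.sq_t μ
  rw [← sub_eq_zero, ← cfdot_sub_right, e1, cfdot_sub_right, key χ hχ (by rw [e7, neg_sq, e9]),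
    key ψ hψ e9, sub_self]

variable (h1 : OneCl (⊤ : Subgroup G)) (hlift : ∀ α, IsDirr ⊤ α →
  (∀ u ∈ Ut t, α (t * u) = cfdot (Ut t) (tr t α) (cfRes (Ut t) lam) * cfRes (Ut t) lam u) ∨
    cfdot (Ut t) (tr t α) (cfRes (Ut t) lam) = 0)
include h1 hlift

theorem val_eq (hlx : l x = -1) (hμ : Gen t μ) (hμt : μ t = -1) (hf : IsDirr ⊤ f)
    (h2 : cfdot ⊤ f (TwTh t lam l) = 1) (h3 : cfdot ⊤ f (TwTh t lam μ) = 1) {u : G}
    (hu : u ∈ Ut t) : f (t * u) = lam u := by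
  obtain ⟨k, hk⟩ := h.sum_odd hl hlx hf h2
  have h4 := h.dot_tr hl hf.mem_CF
  have h5 := (hlift f hf).resolve_right (by
    rw [h4, hk, neg_eq_zero]
    exact_mod_cast (by omega : 2 * k + 1 ≠ 0))
  have h6 : f t ^ 2 ≠ 4 := by
    have := h5 1 (one_mem _)
    rw [mul_one, h4, hk, cfRes_one, hl.lin.one, mul_one] at this
    rw [this, neg_sq]
    exact_mod_cast (fun e => by
      have : 4 * (k ^ 2 + k) = 3 := by linear_combination e
      omega : (2 * k + 1) ^ 2 ≠ 4)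
  have h7 : ∀ ν, Gen t ν → ν t = 1 → cfdot ⊤ f (TwTh t lam ν) = 1 := fun ν hν e =>
    (h.dot_eq hl h1 hν hμ (by rw [e, hμt]; norm_num) hf h6).trans h3
  have h8 : ∀ ν : Irr (zpowers x), ν t * cfdot ⊤ f (TwTh t lam ν) =
      ν t - if ν = 1 then 1 else 0 := fun ν => by
    rcases Fr.ev_cases hlx (h.ev ν) with rfl | rfl | hν
    · simp [TwTh_triv, Irr.coe_one, cf1_apply h.tA]
    · rw [h2, if_neg fun e => by rw [e, one_x] at hlx; norm_num at hlx, mul_one, sub_zero]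
    rw [if_neg hν.ne_one, sub_zero, show cfdot ⊤ f (TwTh t lam ν) = 1 from ?_, mul_one]
    rcases mul_self_eq_one_iff.1 (h.sq_t ν) with e | e
    · exact h7 ν hν e
    by_cases hn : ∀ ρ : Irr (zpowers x), Gen t ρ → ρ t ≠ 1
    · rcases h.gen_cases hμ hν hn with rfl | rfl
      exacts [h3, by rw [h.TwTh_sg, h3]]
    · push Not at hn
      obtain ⟨ρ, hρ, e'⟩ := hn
      exact (h.dot_eq hl h1 hν hρ (by rw [e, e']; norm_num) hf h6).trans (h7 ρ hρ e')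
  rw [h5 u hu, h4, Finset.sum_congr rfl fun ν _ => h8 ν, Finset.sum_sub_distrib, h.sum_t,
    Finset.sum_ite_eq', if_pos (Finset.mem_univ _), cfRes_apply hu]
  ring

omit h1 in
theorem twist_eq_one (hG : Simp G) {v : G} (hv : v ∈ 𝐂(S)) (v1 : v ≠ 1) (ho : Odd (orderOf v)) :
    ∀ u ∈ Ut t, lam u = 1 := by
  classical
  by_contra hne
  obtain ⟨l, -, hlx⟩ := h.exists_l
  have hl1 : l ≠ 1 := fun e => by rw [e, one_x] at hlx; norm_num at hlx
  have hls : h.sg l = l := (h.sg_eq_iff (h.ev l)).2 (by rw [hlx]; norm_num)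
  obtain ⟨μ, hμ, hμt⟩ : ∃ μ : Irr (zpowers x), Gen t μ ∧ μ t = -1 := by
    obtain ⟨μ, hμ, -, e⟩ := exists_lin_ker_not_mem (bot_le (a := zpowers x))
      (commutator_eq_bot_of_comm fun _ ha _ hb => comm_A ha hb).le h.tA h.z1
    refine ⟨⟨μ, hμ.isIrr⟩, ⟨h.ev _, fun e' => e ?_⟩,
      (mul_self_eq_one_iff.1 (h.sq_t ⟨μ, hμ.isIrr⟩)).resolve_left e⟩
    obtain ⟨n, e⟩ := mem_powers_iff_mem_zpowers.2 h.zx
    have hx := mem_zpowers x
    rw [← e, hμ.map_pow (mul_mem hx hx), hμ.map_mul hx hx, show μ x * μ x = 1 from e', one_pow]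
  have hμl : μ ≠ l := fun e => hμ.2 (by rw [e, hlx]; norm_num)
  have hdeg : ∀ f, IsDirr ⊤ f → cfdot ⊤ f (TwTh t lam l) = 1 → cfdot ⊤ f (TwTh t lam μ) = 1 →
      f t = 1 ∧ ∃ d : ℤ, f 1 = d ∧ d % 4 = 1 ∧ d ≠ 1 := fun f hf h2 h3 => by
    have h4 := fun u => h.val_eq hl hG.one hlift hlx hμ hμt hf h2 h3 (u := u)
    have h5 : f t = 1 := by simpa [hl.lin.one] using h4 1 (one_mem _)
    obtain ⟨d, h6, h7⟩ := exists_deg h.four le_top hG.one hf h5
    refine ⟨h5, d, h6, h7, ?_⟩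
    rintro rfl
    rw [Int.cast_one] at h6
    have hχ : IsIrr ⊤ f := hf.resolve_right fun h' => by
      have := h'.one_re_pos
      rw [Pi.neg_apply, h6] at this
      norm_num at this
    exact hne fun u hu => by
      rw [← h4 u hu, cfker_apply ((hχ.isLin h6).commutator_le_cfker (hG.perf.ge trivial)), h6]
  have key : ∀ f₁ f₂ g, IsDirr ⊤ f₁ → IsDirr ⊤ f₂ → IsDirr ⊤ g → TwTh t lam μ = f₁ + f₂ + g →
      cfdot ⊤ f₁ (TwTh t lam l) = 1 → cfdot ⊤ f₁ (TwTh t lam μ) = 1 →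
      cfdot ⊤ f₂ (TwTh t lam l) = 1 → cfdot ⊤ f₂ (TwTh t lam μ) = 1 → False :=
    fun f₁ f₂ g k1 k2 k3 e a1 a2 a3 a4 => by
      obtain ⟨t1, d, e1, d1, d2⟩ := hdeg f₁ k1 a1 a2
      obtain ⟨t2, d', e2, d3, d4⟩ := hdeg f₂ k2 a3 a4
      obtain ⟨a, -, -, c1, -, -, -, -, c2, -, c3⟩ := hG.num h
      have c4 := c3 S h.syl.isPGroup v hv v1 ho
      have c5 := Int.le_of_dvd (by exact_mod_cast Nat.card_pos) h.eight_dvd
      have c6 := h.eight_dvd.trans c1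
      refine c1_arith d1 d3 d2 d4 (a := a) (by rcases abs_cases a with e | e <;> omega) ?_
      have e3 := congrFun e 1
      have e4 := congrFun e t
      have e5 := h.sum_TwTh hl hG.one hμ
      rw [h.TwTh_one hl, Pi.add_apply, Pi.add_apply, e1, e2] at e3
      rw [h.TwTh_t hl, Pi.add_apply, Pi.add_apply, t1, t2, hμt] at e4
      simp only [e, Pi.add_apply, Finset.sum_add_distrib, sum_sum_dirr k1 (mem_top t),
        sum_sum_dirr k2 (mem_top t), sum_sum_dirr k3 (mem_top t), t1, t2, e1, e2, ← mul_add,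
        mul_right_inj' (pow_ne_zero 2 (card_ne_zero (⊤ : Subgroup G))),
        show g t = 2 by linear_combination -e4,
        show g 1 = -(d + d') by linear_combination -e3] at e5
      have n1 : (d : ℂ) ≠ 0 := by exact_mod_cast (by omega : d ≠ 0)
      have n2 : (d' : ℂ) ≠ 0 := by exact_mod_cast (by omega : d' ≠ 0)
      have n3 : (d : ℂ) + d' ≠ 0 := by exact_mod_cast (by omega : d + d' ≠ 0)
      have n4 : ((𝐂[t]).index : ℂ) ≠ 0 := Nat.cast_ne_zero.2 index_ne_zero_of_finite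
      have c7 : ((𝐂[t]).index : ℂ) * (a - 1) ^ 2 = 2 * (mI t : ℂ) ^ 2 * a * (a + 1) := by
        exact_mod_cast c2
      field_simp at e5
      refine Int.cast_injective (α := ℂ) (mul_left_cancel₀ n4 ?_)
      push_cast
      linear_combination (a * (a + 1)) * e5 - d * d' * (d + d') * c7
  obtain ⟨E, hE3, hE, hE', e⟩ := zchar_small_norm (h.TwTh_ZIrr hl (ν := μ)) (n := 3)
    (cfnorm_eq_of_cfdot_eq (by
      rw [h.TwTh_dot hl hμ.ne_one hμ.ne_one, if_pos rfl,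
        if_neg fun e => hμ.2 ((h.sg_eq_iff hμ.1).1 e.symm)]
      norm_num)) (by norm_num)
  have h2 : ∀ f ∈ E, cfdot ⊤ f (TwTh t lam μ) = 1 := fun f hf => e ▸ cfdot_of_mem_decomp hE' hf
  have h3 := fun f hf => dot_cases_of_four (h.TwTh_ZIrr hl (ν := l)) (by
    rw [h.TwTh_dot hl hl1 hl1, hls, if_pos rfl]; norm_num) (h.TwTh_one hl) (hE f hf)
  have h4 := h.TwTh_dot hl hμ.ne_one hl1
  obtain ⟨a, b, c, n1, n2, n3, rfl⟩ := Finset.card_eq_three.1 hE3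
  rw [Finset.sum_insert (by simp [n1, n2]), Finset.sum_pair n3, ← add_assoc] at e
  rw [hls, if_neg hμl] at h4
  nth_rewrite 1 [e] at h4
  rw [cfdot_add_left, cfdot_add_left] at h4
  have ha : a ∈ ({a, b, c} : Finset _) := by simp
  have hb : b ∈ ({a, b, c} : Finset _) := by simp
  have hc : c ∈ ({a, b, c} : Finset _) := by simp
  rcases h3 a ha with e1 | e1 | e1 <;> rcases h3 b hb with e2 | e2 | e2 <;>
    rcases h3 c hc with e3 | e3 | e3 <;> rw [e1, e2, e3] at h4 <;> norm_num at h4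
  · exact key a b c (hE a ha) (hE b hb) (hE c hc) e e1 (h2 a ha) e2 (h2 b hb)
  · exact key a c b (hE a ha) (hE c hc) (hE b hb) (e.trans (by abel)) e1 (h2 a ha) e3 (h2 c hc)
  · exact key b c a (hE b hb) (hE c hc) (hE a ha) (e.trans (by abel)) e2 (h2 b hb) e3 (h2 c hc)

end DF

variable [Finite G] {t : G}

theorem Simp.Ut_le_of_fusion (hG : Simp G) (ht : orderOf t = 2)
    (hf : ∀ s, Four t s → ∃ d ∈ 𝐂(Ut t ⊓ 𝐂[s]), d * t * d⁻¹ = s) {K : Subgroup G}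
    (hK : ∀ s, Four t s → ⁅Ut t, zpowers s⁆ ≤ K) : Ut t ≤ K := by
  have := Fintype.ofFinite G
  obtain ⟨y, hy⟩ := hG.exists_four ht
  obtain ⟨S, x, h⟩ := hG.exists_frame hy
  set R := ⨆ s : {s // Four t s}, ⁅Ut t, zpowers s.1⁆ with hR
  suffices Ut t ≤ R from this.trans (iSup_le fun s => hK s.1 s.2)
  by_contra hne
  have hn := cent_le_norm_Ut t
  have h1 : ∀ s, Four t s → ⁅Ut t, zpowers s⁆ ≤ R := fun s hs =>
    le_iSup (fun s : {s // Four t s} => ⁅Ut t, zpowers s.1⁆) ⟨s, hs⟩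
  have h2 : R ≤ Ut t := iSup_le fun s => U4.comm_le_left (zpowers_le.2 (hn s.2.s_cent))
  have h3 : 𝐂[t] ≤ 𝐍(R) := fun n hn' => mem_normalizer_of_conj_mem fun r hr => by
    refine (show n •ᶜ R ≤ R from ?_) (conj_mem_map_conj hr)
    rw [hR, Subgroup.map_iSup]
    refine iSup_le fun s => ?_
    rw [map_commutator, CfsgLib.map_conj_eq_of_mem_normalizer (hn hn'), ← U4.zpowers_conj]
    exact h1 _ (by simpa only [U4.conj_eq_of_mem_cent1 hn'] using s.2.conj n)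
  have h4 : ⁅Ut t, S⁆ ≤ R := commutator_le.2 fun u hu s hs => by
    have key : ∀ s ∈ S, s ∉ zpowers x → ⁅u, s⁆ ∈ R := fun s hs hsA =>
      h1 s (h.refl_four hs hsA) (commutator_mem_commutator hu (mem_zpowers s))
    by_cases e : s ∈ zpowers x
    swap
    · exact key s hs e
    rw [show ⁅u, s⁆ = ⁅u, s * y⁆ * (s * y * ⁅u, y⁻¹⁆ * (s * y)⁻¹) by
      simp only [commutatorElement_def]; group]
    exact mul_mem (key _ (mul_mem hs h.yS) (h.mul_y_notMem e)) (conj_mem_of_mem_normalizer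
      (h3 (h.S_le (mul_mem hs h.yS))) (key _ (inv_mem h.yS) fun e => h.yA (inv_mem_iff.1 e)))
  have h5 : 𝐂[t] ≤ 𝐍(R ⊔ S) := h.le_of le_top (fun u hu => mem_normalizer_of_conj_mem fun g hg => by
      obtain ⟨r, hr, s, hs, rfl⟩ := (mem_sup_iff_of_le_normalizer' (h.S_le.trans h3)).1 hg
      rw [show u * (r * s) * u⁻¹ = u * r * u⁻¹ * ⁅u, s⁆ * s by
        simp only [commutatorElement_def]; group]
      exact mul_mem (mem_sup_left (mul_mem (conj_mem_of_mem_normalizer (h3 (Ut_le t hu)) hr)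
        (h4 (commutator_mem_commutator hu hs)))) (mem_sup_right hs))
    (le_normalizer (mem_sup_right h.xS)) (le_normalizer (mem_sup_right h.yS))
  have h6 : R ⊔ S < 𝐂[t] := lt_of_le_of_ne (sup_le (h2.trans (Ut_le t)) h.S_le) fun e =>
    hne fun u hu => by
      obtain ⟨r, hr, s, hs, rfl⟩ := (mem_sup_iff_of_le_normalizer' (h.S_le.trans h3)).1
        (e.ge (Ut_le t hu))
      rw [mem_bot.1 ((h.compl le_top).2.2.1.le ⟨(mul_mem_cancel_left (h2 hr)).1 hu, hs⟩), mul_one]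
      exact hr
  obtain ⟨lam, k1, k2, k3⟩ := exists_lin_ne_one
    (commutator_sup_lt_of_solvable (hG.dih.solvable_cent ht) h6 h5) le_sup_left
  have k4 : S ≤ cfker 𝐂[t] lam := (le_sup_right.trans le_sup_right).trans k3
  have hl : Twist t lam := ⟨k1, fun a ha ho => by
    obtain ⟨c, hc, e⟩ := h.toN.syl.exists_conj_le (isPGroup_zpowers_inv ho) (zpowers_le.2 ha)
    rw [← k1.mem_CF.2 c hc, cfker_apply (k4 (e (conj_mem_map_conj (mem_zpowers a)))), k1.one]⟩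
  obtain ⟨v, hv, v1⟩ := U4.exists_ne_one (show Ut t ⊓ 𝐂(S) ≠ ⊥ from fun e => hne (by
    obtain ⟨k, hk⟩ := IsPGroup.iff_card.1 h.syl.isPGroup
    rw [← Cop.commutator_sup_centralizer (h.S_le.trans hn) (hk ▸ (Nat.coprime_two_left.2
      (odd_Ut t)).pow_left k) (Or.inr (solvable_Ut t)), e, sup_bot_eq]
    exact h4))
  have k5 := k1.cfRes (Ut_le t)
  obtain ⟨z, hz, k6, k7⟩ := exists_ext' ht (hG.dih.nilp2_cent ht) (φ := cfRes (Ut t) lam)
    (fun _ => cfRes_apply_of_notMem) fun g w hw hw' => by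
      rw [cfRes_apply hw, cfRes_apply hw', hG.fusion_U ht hf k1.mem_CF.2 hw hw']
  have k8 := h.twist_eq_one hl (fun α hα => exists_lift_lin ht (β := ⟨_, k5.isIrr⟩) k5.one hz
    (fun g => by
      obtain ⟨u, e⟩ := k6 g
      exact e ▸ k5.isChar.isIntegral u) k7 hα) hG hv.2 v1 (odd_of_mem_Ut hv.1)
  refine k2 (funext fun g => ?_)
  by_cases hg : g ∈ 𝐂[t]
  · obtain ⟨u, hu, s, hs, rfl⟩ := h.exists_mul le_top hg
    rw [cfker_mul_right k1.mem_CF (k4 hs), k8 u hu, cf1_apply hg]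
  · rw [k1.mem_CF.1 g hg, cf1_apply_of_notMem hg]

end CfsgLib.GD
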