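import Cfsg.Agent.Lib.GD.Num

/-!
# The twisted virtual characters `Θ ν = Ind (λ · Th N ν)`
-/

set_option autoImplicit false

namespace CfsgLib.GD

open Subgroup Cfsg CfsgLib.FT CfsgLib.FT.BGN CfsgLib.Blk CfsgLib.GW CfsgLib.SW
open scoped ComplexConjugate

variable {G : Type*} [Group G] [Fintype G] {t : G}

/-- A linear character of `C(t)` that is trivial on the involutions. -/
structure Twist (t : G) (lam : G → ℂ) : Prop where
  lin : IsLin 𝐂[t] lam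
  inv : ∀ a ∈ 𝐂[t], orderOf a = 2 → lam a = 1

/-- `Θ ν`. -/
noncomputable def TwTh (t : G) (lam : G → ℂ) {x : G} (ν : Irr (zpowers x)) : G → ℂ :=
  cfInd 𝐂[t] ⊤ (lam * Th 𝐂[t] ν)

theorem TwTh_triv (lam : G → ℂ) (x : G) : TwTh t lam (1 : Irr (zpowers x)) = 0 := by
  rw [TwTh, Th_triv, mul_zero, map_zero]

theorem normedTI_even (ht : orderOf t = 2) : NormedTI {g | t ∈ zpowers g} ⊤ 𝐂[t] :=
  ⟨⟨t, mem_zpowers t⟩, le_top, fun _ hk _ ha =>
    Fr.mem_zpowers_conj (U4.cent_le_norm _ (U4.cent_zpowers t ▸ hk)) ha, fun g _ a ha e =>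
      norm_le_cent_inv inferInstance (mem_zpowers t) ht (Fr.mem_norm_of_conj e (by
        rw [U4.zpowers_conj, U4.conj_mem_conj_iff]; exact ha))⟩

namespace DF

variable {L S : Subgroup G} {x y g : G} {lam : G → ℂ} {μ ν : Irr (zpowers x)}

theorem ev (h : DF L S x y t) (ν : Irr (zpowers x)) : Ev t ν :=
  h.ev_iff.2 fun a ha => by rw [h.A0_iff.1 ha, (lin ν).one]

theorem Th_sg (h : DF L S x y t) : Th L (h.sg ν) = Th L ν := by
  have hy := inv_mem (h.normA h.yS)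
  rw [Th, Th, T0, T0, ← cfInd_cfConjg (inv_mem (h.syl.le h.yS)) hy (φ := cf1 _ - (ν : G → ℂ)),
    map_sub (cfConjg y⁻¹), cfConjg_cf1 hy]
  rfl

theorem Th_val (h : DF L S x y t) {a : G} (ha : a ∈ zpowers x) (a1 : a ≠ 1) :
    Th L ν a = 2 - ν a - ν a⁻¹ := by
  rw [Th, h.T0_val ha (mt h.A0_iff.1 a1), h.refl_inv h.yS h.yA a ha, Pi.sub_apply, Pi.sub_apply,
    cf1_apply ha, cf1_apply (inv_mem ha)]
  ring

theorem sq_t (h : DF L S x y t) (ν : Irr (zpowers x)) : ν t * ν t = 1 := by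
  rw [← (lin ν).map_mul h.tA h.tA, h.tt, (lin ν).one]

variable (h : DF ⊤ S x y t)
include h

omit [Fintype G] in
theorem toN [Finite G] : DF 𝐂[t] S x y t := h.mono h.S_le le_top

theorem ThN_CFon : Th 𝐂[t] ν ∈ CFon 𝐂[t] {g | t ∈ zpowers g} :=
  ⟨T0_mem_CF, fun _ hg => h.toN.Th_zero (h.ev ν) fun k hk => by
    rwa [U4.conj_eq_of_mem_cent1 hk]⟩

theorem ThN_eq (hg : t ∈ zpowers g) : Th 𝐂[t] ν g = Th ⊤ ν g := by
  obtain ⟨π, hπ⟩ := h.exists_pi
  have hN := h.cent_le hg (mem_inf.2 ⟨trivial, U4.self_mem_cent1 g⟩)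
  have hz := (h.mem_iff_pi hπ hN).1 hg
  have h2 := (h.mem_iff (hπ.mem _ hN)).1 hz
  have e := (h.toN.N0_eq le_rfl).trans (h.N0_eq le_top).symm
  rw [Th, Th, h.val_pi hπ hN hz proj0_T0, h.toN.val_pi (e ▸ hπ) (e ▸ hN) hz proj0_T0,
    h.T0_val h2.1 h2.2, h.toN.T0_val h2.1 h2.2]

theorem ThN_mul {u : G} (hu : u ∈ Ut t) (g : G) : Th 𝐂[t] ν (u * g) = Th 𝐂[t] ν g := by
  have h1 : Nilp2 𝐂[t] := h.N0_eq le_top ▸ h.nilp
  rw [Th, T0, projB_apply, projB_apply]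
  exact Finset.sum_congr rfl fun χ hχ => by
    rw [cfker_mul_left ((mem_B0_iff_of_regSet_eq (le_norm_Od _) h1.regSet_eq).1 hχ hu)]

theorem sum_t : ∑ ν : Irr (zpowers x), ν t = 0 := by
  rw [← sum_irr_one_mul (L := zpowers x) h.z1]
  exact Finset.sum_congr rfl fun ν _ => by rw [(lin ν).one, one_mul]

theorem sum_ThN (hg : g ∈ 𝐂[t]) : ∑ ν : Irr (zpowers x), ν t * Th 𝐂[t] ν g =
    -(Nat.card S * cf1 (Ut t) (t * g)) := by
  classical
  obtain ⟨u, hu, s, hs, rfl⟩ := h.exists_mul le_top hg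
  have h1 : t * (u * s) ∈ Ut t ↔ s = t := by
    rw [← mul_assoc, ← U4.mem_cent1.1 (Ut_le t hu), mul_assoc, mul_mem_cancel_left hu]
    refine ⟨fun e => ?_, fun e => by rw [e, h.tt]; exact one_mem _⟩
    have := (h.compl le_top).2.2.1.le ⟨e, mul_mem h.tS hs⟩
    rw [mem_bot, mul_eq_one_iff_inv_eq, inv_of_inv h.ot] at this
    exact this.symm
  have key : ∀ a ∈ zpowers x, ∑ ν : Irr (zpowers x), ν t * ν a =
      if a = t then (orderOf x : ℂ) else 0 := fun a ha => by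
    rw [← Nat.card_zpowers, if_congr (show a = t ↔ t * a = 1 by
      rw [mul_eq_one_iff_inv_eq, inv_of_inv h.ot, eq_comm]) rfl rfl, ← sum_irr_one_mul']
    exact Finset.sum_congr rfl fun ν _ => by rw [(lin ν).one, one_mul, (lin ν).map_mul h.tA ha]
  simp only [h.ThN_mul hu]
  by_cases hz : t ∈ zpowers s
  · obtain ⟨h2, h3⟩ := (h.mem_iff hs).1 hz
    simp only [h.toN.Th_val h2 (mt h.A0_iff.2 h3), mul_sub, Finset.sum_sub_distrib, key s h2,
      key _ (inv_mem h2), ← Finset.sum_mul, h.sum_t, inv_eq_iff_eq_inv, inv_of_inv h.ot]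
    split_ifs with e
    · rw [cf1_apply (h1.2 e), h.card_S']
      push_cast
      ring
    · rw [cf1_apply_of_notMem (mt h1.1 e)]
      ring
  · rw [cf1_apply_of_notMem fun e => hz (h1.1 e ▸ mem_zpowers t), Finset.sum_eq_zero fun ν _ => by
      rw [h.ThN_CFon.2 s hz, mul_zero]]
    ring

variable (hl : Twist t lam)
include hl

theorem mul_CFon : lam * Th 𝐂[t] ν ∈ CFon 𝐂[t] {g | t ∈ zpowers g} :=
  mul_comm lam _ ▸ CFon_mul h.ThN_CFon hl.lin.mem_CF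

theorem TwTh_ZIrr : TwTh t lam ν ∈ ZIrr ⊤ :=
  ZIrr_cfInd le_top (ZIrr_mul hl.lin.isChar.mem_ZIrr h.toN.Th_ZIrr)

open Classical in
theorem TwTh_dot (h1 : μ ≠ 1) (h2 : ν ≠ 1) : cfdot ⊤ (TwTh t lam μ) (TwTh t lam ν) =
    2 + (if μ = ν then 1 else 0) + if μ = h.sg ν then 1 else 0 := by
  rw [TwTh, TwTh, normedTI_isometry (normedTI_even h.ot) (h.mul_CFon hl) (h.mul_CFon hl),
    hl.lin.cfdot_mul, h.toN.cfdot_Th_Th (h.ev μ) h1 h2]
  rfl

omit hl in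
theorem TwTh_sg : TwTh t lam (h.sg ν) = TwTh t lam ν := by
  rw [TwTh, TwTh, ← h.toN.Th_sg (ν := ν)]
  rfl

theorem TwTh_zero (hg : ∀ k, t ∉ zpowers (k * g * k⁻¹)) : TwTh t lam ν g = 0 :=
  cfInd_eq_zero fun k _ _ => (h.mul_CFon hl).2 _ (hg k)

theorem TwTh_one : TwTh t lam ν 1 = 0 := h.TwTh_zero hl fun k e => h.z1 (by simpa using e)

theorem TwTh_val (hg : t ∈ zpowers g) : TwTh t lam ν g = lam g * Th ⊤ ν g := by
  rw [TwTh, normedTI_Ind_id (normedTI_even h.ot) (h.mul_CFon hl) hg trivial, Pi.mul_apply,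
    h.ThN_eq hg]

theorem TwTh_t : TwTh t lam ν t = 2 - 2 * ν t := by
  rw [h.TwTh_val hl (mem_zpowers t), hl.inv t (U4.self_mem_cent1 t) h.ot, h.Th_val h.tA h.z1,
    inv_of_inv h.ot]
  ring

theorem TwTh_mul {a b : G} (ha : orderOf a = 2) (hb : orderOf b = 2) :
    TwTh t lam ν (a * b) = Th ⊤ ν (a * b) := by
  by_cases e : ∀ k, t ∉ zpowers (k * (a * b) * k⁻¹)
  · rw [h.TwTh_zero hl e, h.Th_zero (h.ev ν) fun k _ e' => e k⁻¹ ?_]
    rw [U4.zpowers_conj]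
    simpa [mul_assoc] using conj_mem_map_conj (g := k⁻¹) e'
  push Not at e
  obtain ⟨k, e⟩ := e
  rw [← CF_conj (ZIrr_mem_CF (h.TwTh_ZIrr hl)) (mem_top k), ← CF_conj (ZIrr_mem_CF h.Th_ZIrr) (mem_top k) (a * b),
    h.TwTh_val hl e]
  rw [← U4.orderOf_conj k] at ha hb
  rw [← _root_.conj_mul] at e ⊢
  generalize k * a * k⁻¹ = a at *
  generalize k * b * k⁻¹ = b at *
  have h1 : a ∈ 𝐂[t] := U4.mem_cent1_of_conj_eq ((H5.inverts_of_mem_zpowers (H5.inverts_mul_left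
    (by rw [sq, mul_self_of_inv ha]) (by rw [sq, mul_self_of_inv hb])) e).trans (inv_of_inv h.ot))
  have h2 : b ∈ 𝐂[t] := by
    simpa using mul_mem (inv_mem h1) (U4.cent1_le_cent1 e (U4.self_mem_cent1 _))
  rw [hl.lin.map_mul h1 h2, hl.inv a h1 ha, hl.inv b h2 hb, one_mul, one_mul]

theorem sum_TwTh (h1 : OneCl (⊤ : Subgroup G)) (hμ : Gen t μ) :
    ∑ g ∈ elems ((⊤ : Subgroup G) : Set G), ∑ k ∈ elems ((⊤ : Subgroup G) : Set G),
      TwTh t lam μ (g * t * g⁻¹ * (k * t * k⁻¹)) =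
      Nat.card (⊤ : Subgroup G) ^ 2 * (2 * mI t ^ 2 / (𝐂[t]).index) := by
  have h2 := h.count_gen (h.refl le_top) hμ (mul_div_cancel₀ _ (pow_ne_zero 2 (card_ne_zero _))).symm
  have h3 := relIndex_cast_ne_zero 𝐂[t] ⊤
  have h4 := card_ne_zero (⊤ : Subgroup G)
  rw [h.kap_eq le_top h1 h.yS h.yA, h.kap_eq le_top h1 h.xyS h.xyA, h.N0_eq le_top,
    ← Nat.cast_add, ← h.mI_eq le_top] at h2
  rw [relIndex_top_right] at h2 h3
  rw [Finset.sum_congr rfl fun g _ => Finset.sum_congr rfl fun k _ => h.TwTh_mul hl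
    (by rw [U4.orderOf_conj, h.ot]) (by rw [U4.orderOf_conj, h.ot])]
  field_simp at h2 ⊢
  linear_combination h2

theorem dot_tr {χ : G → ℂ} (hχ : χ ∈ CF ⊤) : cfdot (Ut t) (tr t χ) (cfRes (Ut t) lam) =
    -∑ ν : Irr (zpowers x), ν t * cfdot ⊤ χ (TwTh t lam ν) := by
  have e : χ = tr t (tr t χ) := by
    ext g
    rw [tr, tr, ← mul_assoc, h.tt, one_mul]
  have h1 : ∀ ν : Irr (zpowers x), conj (ν t) = ν t := fun ν =>
    mul_left_cancel₀ ((lin ν).apply_ne_zero h.tA) (((lin ν).mul_conj h.tA).trans (h.sq_t ν).symm)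
  rw [Finset.sum_congr rfl fun ν _ => by
      rw [TwTh, cfdot_cfInd_right le_top hχ, ← h1 ν, ← cfdot_smul_right], ← cfdot_sum_right,
    ← cfdot_neg_right, cfdot_congr (L := 𝐂[t]) (fun _ _ => rfl)
      (ψ' := tr t ((Nat.card S : ℂ) • cfRes (Ut t) lam)) fun g hg => ?_, e,
    cfdot_tr (U4.self_mem_cent1 t), ← e, cfdot_natCast_smul_right, ← cfdot_conj (L := Ut t),
    cfdot_of_supp_subgroup (Ut_le t) fun _ => cfRes_apply_of_notMem,
    U4.IsComplIn.relIndex_left (h.compl le_top), map_mul, cfdot_conj, Complex.conj_natCast]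
  have h2 := h.sum_ThN hg
  simp only [Pi.neg_apply, Finset.sum_apply, Pi.smul_apply, Pi.mul_apply, smul_eq_mul, tr,
    mul_left_comm _ (lam g), ← Finset.mul_sum, h2]
  by_cases hu : t * g ∈ Ut t
  · rw [cf1_apply hu, cfRes_apply hu, hl.lin.map_mul (U4.self_mem_cent1 t) hg,
      hl.inv t (U4.self_mem_cent1 t) h.ot]
    ring
  · rw [cf1_apply_of_notMem hu, cfRes_apply_of_notMem hu]
    ring

end DF

end CfsgLib.GD
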