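import Cfsg.Agent.Lib.GD.C1A

/-!
# Values of the constituents of the twisted characters
-/

set_option autoImplicit false

namespace CfsgLib.GD

open Subgroup Cfsg CfsgLib.FT CfsgLib.FT.BGN CfsgLib.Blk CfsgLib.GW CfsgLib.SW
open scoped ComplexConjugate

variable {G : Type*} [Group G]

theorem Simp.fusion_U [Finite G] (hG : Simp G) {t : G} (ht : orderOf t = 2)
    (hf : ∀ s, Four t s → ∃ d ∈ 𝐂(Ut t ⊓ 𝐂[s]), d * t * d⁻¹ = s) {φ : G → ℂ}
    (h1 : ∀ n ∈ 𝐂[t], ∀ u, φ (n * u * n⁻¹) = φ u) {w g : G} (hw : w ∈ Ut t)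
    (hw' : g * w * g⁻¹ ∈ Ut t) : φ (g * w * g⁻¹) = φ w := by
  have := Fintype.ofFinite G
  have k1 : ∀ a b : G, a⁻¹ * t * a = b⁻¹ * t * b → φ (a * w * a⁻¹) = φ (b * w * b⁻¹) :=
    fun a b e => by
      rw [← h1 (a * b⁻¹) (U4.mem_cent1_of_conj_eq (by
        rw [show a * b⁻¹ * t * (a * b⁻¹)⁻¹ = a * (b⁻¹ * t * b) * a⁻¹ by group, ← e]; group))
        (b * w * b⁻¹)]
      congr 1
      group
  have k2 : ∀ a b : G, a⁻¹ * t * a ∈ 𝐂[w] → b⁻¹ * t * b ∈ 𝐂[w] →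
      b⁻¹ * t * b ∈ 𝐂[a⁻¹ * t * a] → φ (a * w * a⁻¹) = φ (b * w * b⁻¹) := fun a b ha hb e => by
    by_cases e' : a⁻¹ * t * a = b⁻¹ * t * b
    · exact k1 a b e'
    have h4 : Four (a⁻¹ * t * a) (b⁻¹ * t * b) := ⟨by simpa using (U4.orderOf_conj a⁻¹ t).trans ht,
      by simpa using (U4.orderOf_conj b⁻¹ t).trans ht, U4.mem_cent1'.1 e, e'⟩
    have h5 := h4.conj a
    rw [show a * (a⁻¹ * t * a) * a⁻¹ = t by group] at h5
    obtain ⟨d, hd, e1⟩ := hf _ h5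
    have h6 : a * w * a⁻¹ ∈ Ut t ⊓ 𝐂[a * (b⁻¹ * t * b) * a⁻¹] := by
      refine ⟨(hG.dih.mem_Ut ht).2 ⟨?_, by rw [U4.orderOf_conj]; exact odd_of_mem_Ut hw⟩, ?_⟩
      · rw [← show a * (a⁻¹ * t * a) * a⁻¹ = t by group, U4.cent1_conj]
        exact conj_mem_map_conj (U4.mem_cent1_comm.1 ha)
      · rw [U4.cent1_conj]
        exact conj_mem_map_conj (U4.mem_cent1_comm.1 hb)
    rw [← k1 (d⁻¹ * a) b (by
      rw [show (d⁻¹ * a)⁻¹ * t * (d⁻¹ * a) = a⁻¹ * (d * t * d⁻¹) * a by group, e1]; group),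
      show d⁻¹ * a * w * (d⁻¹ * a)⁻¹ = d⁻¹ * (a * w * a⁻¹ * d) by group, U4.mem_cent.1 hd _ h6,
      inv_mul_cancel_left]
  have h2 : t ∈ 𝐂[w] := U4.mem_cent1_comm.1 (Ut_le t hw)
  have h3 : g⁻¹ * t * g ∈ 𝐂[w] := by
    have := U4.mem_cent1_comm.1 (Ut_le t hw')
    rwa [U4.cent1_conj, mem_map_conj] at this
  obtain ⟨T, h4, hT⟩ := IsSylowIn.exists_ge (isPGroup_zpowers_inv ht) (zpowers_le.2 h2)
  obtain ⟨c, hc, h5⟩ := hT.exists_conj_le (isPGroup_zpowers_inv (t := g⁻¹ * t * g)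
    (by simpa using (U4.orderOf_conj g⁻¹ t).trans ht)) (zpowers_le.2 h3)
  have h6 := h5 (conj_mem_map_conj (mem_zpowers _))
  obtain ⟨z, hz, ho, hz'⟩ := exists_inv_cent hT.isPGroup le_normalizer fun e =>
    e.not_two_dvd_nat (ht ▸ Subgroup.orderOf_dvd_natCard _ (h4 (mem_zpowers t)))
  obtain ⟨k, rfl⟩ := hG.exists_conj ht ho
  rw [show k * t * k⁻¹ = k⁻¹⁻¹ * t * k⁻¹ by group] at hz hz'
  rw [show c * (g⁻¹ * t * g) * c⁻¹ = (g * c⁻¹)⁻¹ * t * (g * c⁻¹) by group] at h6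
  have e1 := k2 1 k⁻¹ (by simpa using h2) (hT.le hz)
    (by simpa using U4.cent_le_cent1 (h4 (mem_zpowers t)) hz')
  have e2 := k2 _ k⁻¹ (hT.le h6) (hT.le hz) (U4.cent_le_cent1 h6 hz')
  rw [show g * c⁻¹ * w * (g * c⁻¹)⁻¹ = g * (c⁻¹ * w * c⁻¹⁻¹) * g⁻¹ by group,
    U4.conj_eq_of_mem_cent1 (inv_mem hc)] at e2
  simpa [e2] using e1.symm

variable [Fintype G] {t : G}

theorem exists_ext' (ht : orderOf t = 2) (hN : Nilp2 𝐂[t]) {φ : G → ℂ}
    (h0 : ∀ g, g ∉ Ut t → φ g = 0)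
    (h1 : ∀ g w, w ∈ Ut t → g * w * g⁻¹ ∈ Ut t → φ (g * w * g⁻¹) = φ w) :
    ∃ y ∈ CF (⊤ : Subgroup G), (∀ g, ∃ u, y g = φ u) ∧ ∀ g ∈ 𝐂[t], y g = φ g := by
  classical
  set y : G → ℂ := fun g => if h : ∃ x, x * g * x⁻¹ ∈ Ut t then φ (h.choose * g * h.choose⁻¹) else 0
    with hy
  have key : ∀ g x, x * g * x⁻¹ ∈ Ut t → y g = φ (x * g * x⁻¹) := fun g x hx => by
    have h3 : ∃ x, x * g * x⁻¹ ∈ Ut t := ⟨x, hx⟩
    have e : h3.choose * g * h3.choose⁻¹ = h3.choose * x⁻¹ * (x * g * x⁻¹) * (h3.choose * x⁻¹)⁻¹ := by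
      group
    rw [hy]
    simp only [dif_pos h3]
    rw [e]
    exact h1 _ _ hx (e ▸ h3.choose_spec)
  have key' : ∀ g, (¬ ∃ x, x * g * x⁻¹ ∈ Ut t) → y g = 0 := fun g hg => by
    rw [hy]
    simp only [dif_neg hg]
  refine ⟨y, ⟨fun x hx => absurd trivial hx, fun x _ g => ?_⟩, fun g => ?_, fun g hg => ?_⟩
  · by_cases hg : ∃ x, x * g * x⁻¹ ∈ Ut t
    · obtain ⟨z, hz⟩ := hg
      have e : z * g * z⁻¹ = z * x⁻¹ * (x * g * x⁻¹) * (z * x⁻¹)⁻¹ := by group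
      rw [key g z hz, key _ _ (e ▸ hz), ← e]
    · rw [key' g hg, key' _ fun ⟨z, hz⟩ => hg ⟨z * x, by simpa [mul_assoc] using hz⟩]
  · by_cases hg : ∃ x, x * g * x⁻¹ ∈ Ut t
    · obtain ⟨z, hz⟩ := hg
      exact ⟨_, key g z hz⟩
    · exact ⟨t, by rw [key' g hg, h0 t (notMem_Od ht)]⟩
  · by_cases hu : g ∈ Ut t
    · simpa using key g 1 (by simpa using hu)
    · rw [h0 g hu, key' g fun ⟨z, hz⟩ => hu (hN g hg (by
        simpa [U4.orderOf_conj] using odd_of_mem_Ut hz))]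

/-- The lifting lemma for a linear character of `U`. -/
theorem exists_lift_lin (ht : orderOf t = 2) {β : Irr (Ut t)} {y : G → ℂ} (hβ : β 1 = 1)
    (hy : y ∈ CF ⊤) (hyi : ∀ g, IsIntegral ℤ (y g)) (hf : ∀ g ∈ 𝐂[t], y g = β g) {α : G → ℂ}
    (hα : IsDirr ⊤ α) : (∀ u ∈ Ut t, α (t * u) = cfdot (Ut t) (tr t α) β * β u) ∨
      cfdot (Ut t) (tr t α) β = 0 := by
  classical
  obtain ⟨R, hR⟩ := exists_val Nat.prime_two
  wlog hχ : IsIrr ⊤ α generalizing α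
  · have h2 := this hα.neg (hα.resolve_left hχ)
    have e : tr t (-α) = -tr t α := rfl
    simp only [e, cfdot_neg_left, Pi.neg_apply, neg_mul, neg_inj, neg_eq_zero] at h2
    exact h2
  set B : Finset (Irr (Ut t)) := {β} with hB
  set f := idem (Ut t) fun β => if β ∈ B then 1 else 0 with hfd
  have h2 : cfRes 𝐂[t] ((Nat.card (Ut t) : ℂ)⁻¹ • cfConjC y) = f := by
    ext g
    by_cases hg : g ∈ 𝐂[t]
    · rw [cfRes_apply hg, hfd, idem_apply, Pi.smul_apply, smul_eq_mul]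
      change _ * conj (y g) = _
      rw [hf g hg, ← Finset.sum_subset (Finset.subset_univ B) fun β _ hβ => by simp [hβ], hB,
        Finset.sum_singleton]
      simp [hβ]
    · rw [cfRes_apply_of_notMem hg, hfd, (idem_mem_CF _).1 g fun h' => hg (Ut_le t h')]
  have h3 := exists_lift (k := 1) Nat.prime_two hR (u := t)
    (by rw [pow_one, sq, mul_self_of_inv ht]) (mem_top t)
    (top_inf_eq _).symm (Submodule.smul_mem _ _ (cfAut_mem_CF _ hy)) (fun g => val_mul_le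
      (val_inv_le (val_natCast_eq_one hR (Nat.coprime_two_right.2 (odd_Ut t))))
      (val_le_one_of_isIntegral _ ((hyi g).map (starRingEnd ℂ).toIntAlgHom))) h2
    conv_idem_indicator ⟨α, hχ⟩
  have h4 : cfRes (Ut t) (tr t α) ∈ CF (Ut t) := by
    refine ⟨fun x hx => cfRes_apply_of_notMem hx, fun y hy x => ?_⟩
    by_cases hx : x ∈ Ut t
    · rw [cfRes_apply hx, cfRes_apply ((conj_mem_iff hy).2 hx), tr, tr,
        ← hχ.mem_CF.2 y trivial (t * x), ← mul_assoc y, U4.mem_cent1.1 (Ut_le t hy)]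
      simp only [mul_assoc]
    · rw [cfRes_apply_of_notMem hx, cfRes_apply_of_notMem fun h' => hx ((conj_mem_iff hy).1 h')]
  have h5 : ∀ u ∈ Ut t, act f α (t * u) = projB B (tr t α) u := fun u hu => by
    rw [← projB_cfRes, ← act_idem_indicator h4, act_congr hu (idem_mem_CF _).1
      (ψ := tr t α) fun x hx => cfRes_apply hx]
    simp only [act, tr, mul_assoc]
    rfl
  rcases h3 with h3 | h3
  · refine Or.inl fun u hu => ?_
    have := (h3 u (Ut_le t hu) (Nat.coprime_two_right.2 (odd_of_mem_Ut hu))).symm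
    rwa [h5 u hu, projB_apply, hB, Finset.sum_singleton] at this
  · have := cfdot_projB (B := B) (φ := tr t α) β
    rw [if_pos (Finset.mem_singleton_self _)] at this
    exact Or.inr (this.symm.trans (cfdot_eq_zero_of_supp fun u hu => Or.inl ((h5 u hu).symm.trans
      (h3 u (Ut_le t hu) (Nat.coprime_two_right.2 (odd_of_mem_Ut hu))))))

theorem dot_cases_of_four {L : Subgroup G} {φ f : G → ℂ} (hφ : φ ∈ ZIrr L)
    (h4 : cfdot L φ φ = 4) (h1 : φ 1 = 0) (hf : IsDirr L f) :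
    cfdot L f φ = 1 ∨ cfdot L f φ = 0 ∨ cfdot L f φ = -1 := by
  obtain ⟨n, hn⟩ := ZIrr_cfdot_int hφ hf.mem_ZIrr
  have h7 : cfdot L (φ - (n : ℂ) • f) ((n : ℂ) • f) = 0 := by
    rw [cfdot_intCast_smul_right, cfdot_sub_left, cfdot_smul_left, hn, hf.cfdot_self]
    ring
  have h8 := cfnorm_add_of_ortho h7
  rw [sub_add_cancel, cfnorm_eq_of_cfdot_eq (r := 4) (by rw [h4]; simp), cfnorm_intCast_smul,
    hf.cfnorm] at h8
  have h9 : n ^ 2 ≠ 4 := fun e => by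
    have h10 := apply_eq_zero_of_cfnorm (show cfnorm L (φ - (n : ℂ) • f) = 0 by
      have : (n : ℝ) ^ 2 = 4 := by exact_mod_cast e
      linarith) (one_mem L)
    rw [Pi.sub_apply, h1, zero_sub, neg_eq_zero, Pi.smul_apply, smul_eq_mul,
      mul_eq_zero_iff_right hf.one_ne_zero, Int.cast_eq_zero] at h10
    rw [h10] at e
    norm_num at e
  have h10 : n ^ 2 ≤ 4 := by
    exact_mod_cast (by linarith [cfnorm_nonneg (L := L) (φ := φ - (n : ℂ) • f)] : (n : ℝ) ^ 2 ≤ 4)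
  rw [← cfdot_conj, hn, map_intCast]
  have h11 : -2 ≤ n ∧ n ≤ 2 := by constructor <;> nlinarith
  rcases (by omega : n = -2 ∨ n = -1 ∨ n = 0 ∨ n = 1 ∨ n = 2) with rfl | rfl | rfl | rfl | rfl <;>
    simp at h9 ⊢

theorem c1_arith {d e a : ℤ} (hd : d % 4 = 1) (he : e % 4 = 1) (d1 : d ≠ 1) (e1 : e ≠ 1)
    (ha : 17 ≤ a ∨ a ≤ -23)
    (h : (d - e) ^ 2 * (a * (a + 1)) = (a - 1) ^ 2 * (d * e * (d + e))) : False := by
  have p1 : 0 < a * (a + 1) := by rcases ha with ha | ha <;> nlinarith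
  have p2 : 4 * (a * (a + 1)) < 5 * (a - 1) ^ 2 := by rcases ha with ha | ha <;> nlinarith
  have p3 : (a - 1) ^ 2 < 2 * (a * (a + 1)) := by rcases ha with ha | ha <;> nlinarith
  generalize a * (a + 1) = P at *
  generalize (a - 1) ^ 2 = Q at *
  have key : d * e * (d + e) < 0 ∨ 0 < d * e * (d + e) ∧
      (5 * (d - e) ^ 2 ≤ 4 * (d * e * (d + e)) ∨ 2 * (d * e * (d + e)) ≤ (d - e) ^ 2) := by
    clear h
    wlog hde : d ≤ e generalizing d e
    · have := this he hd e1 d1 (by omega)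
      rwa [mul_comm e, add_comm e, ← neg_sub d, neg_sq] at this
    rcases (by omega : 5 ≤ d ∨ e ≤ -3 ∨ (d ≤ -3 ∧ 5 ≤ e ∧ (0 < d + e ∨ d = -2 - e ∨ d + e ≤ -6)))
      with h | h | ⟨h1, h2, h | h | h⟩
    · have h2 : 10 * e ≤ d * (d + e) + 5 * e := by nlinarith
      have h3 : 0 < d * e * (d + e) := mul_pos (mul_pos (by omega) (by omega)) (by omega)
      exact Or.inr ⟨h3, Or.inl (by nlinarith)⟩
    · exact Or.inl (mul_neg_of_pos_of_neg (by nlinarith) (by omega))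
    · exact Or.inl (mul_neg_of_neg_of_pos (by nlinarith) h)
    · exact Or.inr ⟨by rw [h]; nlinarith, Or.inr (by rw [h]; nlinarith)⟩
    · obtain ⟨k, rfl⟩ : ∃ k, d = -e - k := ⟨-e - d, by ring⟩
      have h3 : 5 * (5 + k) ≤ e * (e + k) := by nlinarith
      refine Or.inr ⟨mul_pos_of_neg_of_neg (by nlinarith) (by omega), Or.inl ?_⟩
      nlinarith [mul_le_mul_of_nonneg_left h3 (show 0 ≤ 4 * k - 20 by omega)]
  generalize d * e * (d + e) = M at *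
  have p4 := sq_nonneg (d - e)
  generalize (d - e) ^ 2 = D at *
  rcases key with h1 | ⟨h1, h2 | h2⟩ <;> nlinarith

end CfsgLib.GD
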