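import Cfsg.Agent.Lib.GD.NT

/-!
# One class of reflections of the third type
-/

set_option autoImplicit false

namespace CfsgLib.GD

open Subgroup Cfsg CfsgLib.FT.BGN CfsgLib.FT.U4 CfsgLib.GW
open scoped commutatorElement

universe u

section general

variable {G : Type*} [Group G] [Finite G] {t s : G}

theorem exists_ord {p : ℕ} [hp : Fact p.Prime] {D : Subgroup G} (hD : IsPGroup p D) (h0 : D ≠ ⊥) :
    ∃ y ∈ D, orderOf y = p := by
  obtain ⟨k, hk⟩ := hD.exists_card_eq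
  refine SW.exists_orderOf hp.1 (hk ▸ dvd_pow_self p ?_)
  rintro rfl
  exact h0 (card_eq_one.1 hk)

theorem le_fit_of_quad {W : Subgroup G} (h1 : W ≤ Ut t) (h2 : Ut t ≤ 𝐍(W))
    (h : ⁅⁅fittingOf (Ut t), W⁆, W⁆ = ⊥) : W ≤ fittingOf (Ut t) := by
  have h3 : ⁅⁅W, W⁆, fittingOf (Ut t)⁆ ≤ ⊥ := CommCalc.three_subgroups le_normalizer_of_normal
    le_normalizer_of_normal le_normalizer_of_normal (by rw [commutator_comm W]; exact h.le) h.le
  have h4 : ⁅W, W⁆ ≤ fittingOf (Ut t) := (le_inf ((comm_le_left le_normalizer).trans h1)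
    (commutator_eq_bot_iff_le_centralizer.1 (le_bot_iff.1 h3))).trans
      (FT.cent_sub_Fitting (solvable_Ut t))
  exact le_fit h1 h2 (isNilpotent_of_lowerCentralSeries_eq_bot (n := 3) (le_bot_iff.1
    ((commutator_mono (commutator_mono h4 le_rfl) le_rfl).trans h.le)))

theorem card_cent_le {H K : Subgroup G} {i : G} (hi : i ∈ 𝐍(H)) (si : s * i * s⁻¹ = i⁻¹)
    (hK : ∀ z ∈ H, s * z * s⁻¹ = z⁻¹ → z ∈ K) (h1 : ∀ z ∈ H ⊓ 𝐂[s], z ∈ 𝐂[i * i] → z = 1) :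
    Nat.card ↥(H ⊓ 𝐂[s]) ≤ Nat.card K := by
  have h3 : ∀ z ∈ H ⊓ 𝐂[s], i⁻¹ * z * i * (i * z * i⁻¹)⁻¹ ∈ K := fun z hz => by
    refine hK _ (mul_mem (conj_mem_of_mem_normalizer' hi hz.1)
      (inv_mem (conj_mem_of_mem_normalizer hi hz.1))) ?_
    rw [show s * (i⁻¹ * z * i * (i * z * i⁻¹)⁻¹) * s⁻¹ = (s * i * s⁻¹)⁻¹ * (s * z * s⁻¹) *
      (s * i * s⁻¹) * (s * i * s⁻¹ * (s * z * s⁻¹) * (s * i * s⁻¹)⁻¹)⁻¹ by group, si,
      conj_eq_of_mem_cent1 (mem_cent1_comm.1 hz.2)]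
    group
  refine Nat.card_le_card_of_injective (fun z : ↥(H ⊓ 𝐂[s]) => (⟨_, h3 z z.2⟩ : K))
    fun z z' e => Subtype.ext (inv_mul_eq_one.1 (h1 _ (mul_mem (inv_mem z.2) z'.2) ?_))
  have e' : i⁻¹ * z * i * (i * z * i⁻¹)⁻¹ = i⁻¹ * z' * i * (i * z' * i⁻¹)⁻¹ :=
    congrArg Subtype.val e
  refine mem_cent1.2 ?_
  calc (z : G)⁻¹ * z' * (i * i)
      = i * ((i⁻¹ * z * i)⁻¹ * (i⁻¹ * z' * i * (i * z' * i⁻¹)⁻¹) * (i * z' * i⁻¹)) * i := by group
    _ = _ := by rw [← e']; group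

theorem card_le_mul {H K : Subgroup G} (hs : s * s = 1) (hn : s ∈ 𝐍(H))
    (hK : ∀ z ∈ H, s * z * s⁻¹ = z⁻¹ → z ∈ K) :
    Nat.card H ≤ Nat.card ↥(H ⊓ 𝐂[s]) * Nat.card K := by
  rw [← card_inf_mul_relIndex 𝐂[s] H, inf_comm]
  exact Nat.mul_le_mul_left _ (relIndex_cent_le fun g hg => hK _ (comm_mem hn hg) (inv_comm hs))

theorem exists_conj_of_le {y : G} (hy : (orderOf y).Prime) {T U : Subgroup G}
    (h : ∀ u ∈ U, ∃ τ ∈ T, y * τ ≠ 1 ∧ y * τ ∈ zpowers (u * y * u⁻¹))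
    (hle : Nat.card T ≤ (𝐍(zpowers y)).relIndex U) {τ : G} (hτ : τ ∈ T) :
    ∃ u ∈ U, y * τ ≠ 1 ∧ y * τ ∈ zpowers (u * y * u⁻¹) := by
  choose! f h1 h2 h3 using h
  have hf : Function.Injective
      fun q : U ⧸ (𝐍(zpowers y)).subgroupOf U => (⟨f q.out, h1 _ q.out.2⟩ : T) := fun q q' e => by
    have e' : f q.out = f q'.out := congrArg Subtype.val e
    have h4 : ∀ u ∈ U, zpowers (y * f u) = u •ᶜ zpowers y := fun u hu => by
      rw [← zpowers_conj]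
      exact zpowers_eq_of_card_prime (by rwa [Nat.card_zpowers, orderOf_conj]) (h3 u hu) (h2 u hu)
    rw [← q.out_eq', ← q'.out_eq', QuotientGroup.eq, mem_subgroupOf]
    refine mem_normalizer_of_map_conj_eq ?_
    rw [Subgroup.coe_mul, map_conj_mul, ← h4 _ q'.out.2, ← e', h4 _ q.out.2]
    exact map_conj_inv_map_conj _ _
  obtain ⟨q, e⟩ := ((Nat.bijective_iff_injective_and_card _).2
    ⟨hf, le_antisymm (Nat.card_le_card_of_injective _ hf) hle⟩).2 ⟨τ, hτ⟩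
  obtain rfl : f q.out = τ := congrArg Subtype.val e
  exact ⟨_, q.out.2, h2 _ q.out.2, h3 _ q.out.2⟩

theorem cent_pair {y c u : G} (hc : (orderOf c).Prime) (hn : c ∈ 𝐂[y])
    (ha : u * y * u⁻¹ ∈ zpowers y ⊔ zpowers c) (hu : u ∉ 𝐍(zpowers y)) :
    𝐂(zpowers y) ⊓ 𝐂(u •ᶜ zpowers y) ≤ 𝐂[c] := fun g hg => by
  obtain ⟨τ, hτ, h1⟩ := exists_mul_mem_of_sup hc (cent_le_norm _ (cent_zpowers y ▸ hn))
    (sup_comm (zpowers y) _ ▸ ha) fun e => hu (SW.Fr.mem_norm_of_conj (mem_zpowers y) e)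
  rw [zpowers_conj] at h1
  simpa using mem_cent1_comm.1 (mul_mem (mem_cent1_comm.1 (cent_le_cent1 h1 hg.2))
    (inv_mem (mem_cent1_comm.1 (cent_le_cent1 hτ hg.1))))

theorem ED.exists_tau {L T : Subgroup G} {k y u : G} (h : ED (zpowers y) L t s k)
    (oy : (orderOf y).Prime) (hy : y ∈ Ut t) (hn : y ∈ 𝐍(T)) (hT : Inverts s T) (hu : u ∈ Ut t)
    (ha : u * y * u⁻¹ ∈ zpowers y ⊔ T) : ∃ τ ∈ T, y * τ ≠ 1 ∧ y * τ ∈ zpowers (u * y * u⁻¹) := by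
  have y1 : y ≠ 1 := fun e => oy.one_lt.ne' (by simp [e])
  obtain ⟨τ, hτ, h1⟩ := exists_mul_mem_of_sup oy hn ha
    fun e => h.not_inv (odd_of_mem_Ut hy) y1 hu (hT _ e)
  refine ⟨τ, hτ, fun e => h.not_inv (odd_of_mem_Ut hy) y1 (one_mem _) ?_, h1⟩
  simpa using hT y (by rw [eq_inv_of_mul_eq_one_left e]; exact inv_mem hτ)

theorem sq_ne_one {c : G} (ho : Odd (orderOf c)) (h1 : c ≠ 1) : c * c ≠ 1 :=
  fun e => h1 (eq_one_of_odd_of_mul_self ho e)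

end general

variable {G : Type u} [Group G] [Finite G]

namespace T3

variable {t s : G} {p : ℕ} [hp : Fact p.Prime] (h : T3 t s p)
include h

theorem final {S L F : Subgroup G} {x k y c : G} (hS : DF ⊤ S x s t)
    (hy : y ∈ pCoreOf p (Ut t) ⊓ 𝐂[s]) (oy : orderOf y = p) (oc : orderOf c = p)
    (hE : ED (zpowers y) L t s k) (sc : s * c * s⁻¹ = c⁻¹) (hcF : c ∈ F)
    (ha : Ut t ≤ 𝐍(zpowers y ⊔ zpowers c)) (hxy : x * s * y * (x * s)⁻¹ = y⁻¹)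
    (hF : F ≤ Ut t ⊓ 𝐂[y]) (hs : s ∈ 𝐍(F)) (hU : ⁅Ut t, zpowers (x * s)⁆ ≤ F)
    (h1 : Nat.card ↥(F ⊓ 𝐂[s]) ≤ Nat.card ↥(F ⊓ zpowers k))
    (h2 : Ut t ≤ 𝐍(zpowers c) → p < Nat.card ↥(F ⊓ zpowers k)) : False := by
  have hyU := pc_le_U p t hy.1
  have hsM := hE.L_le hE.smem
  have hxM : x ∈ 𝐍(zpowers y) := by
    simpa using mul_mem (inverts_zpowers hxy).mem_norm (inv_mem hsM)
  have hSM : S ≤ 𝐍(zpowers y) := hS.S_eq.ge.trans (sup_le (zpowers_le.2 hxM) (zpowers_le.2 hsM))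
  have hK : ∀ z ∈ F, s * z * s⁻¹ = z⁻¹ → z ∈ F ⊓ zpowers k := fun z hz e =>
    ⟨hz, hE.mem_k (hF hz).1 (cent_le_norm _ (cent_zpowers y ▸ (hF hz).2)) e⟩
  have hc := hK c hcF sc
  have e1 : (𝐍(zpowers y)).relIndex 𝐂[t] = (𝐍(zpowers y)).relIndex (Ut t) :=
    relIndex_eq_of_mul (Ut_le t) fun g hg =>
      let ⟨u, hu, b, hb, e⟩ := hS.exists_mul le_top hg
      ⟨u, hu, b, hSM hb, e⟩
  have hyc : y ∈ 𝐍(zpowers c) := cent_le_norm _ (cent_zpowers c ▸ mem_cent1_comm.1 (hF hcF).2)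
  have ha' : ∀ u ∈ Ut t, u * y * u⁻¹ ∈ zpowers y ⊔ zpowers c := fun u hu =>
    conj_mem_of_mem_normalizer (ha hu) (mem_sup_left (mem_zpowers y))
  have key : ∀ u ∈ Ut t, ∃ τ ∈ zpowers c, y * τ ≠ 1 ∧ y * τ ∈ zpowers (u * y * u⁻¹) := fun u hu =>
    hE.exists_tau (oy ▸ hp.1) hyU hyc (inverts_zpowers sc) hu (ha' u hu)
  have hz := odd_card_of_le (odd_Ut t) ((inf_le_left (b := zpowers k)).trans (hF.trans inf_le_left))
  have hd : Nat.card ↥(F ⊓ zpowers k) ∣ orderOf k :=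
    Nat.card_zpowers k ▸ card_dvd_of_le inf_le_right
  refine hE.count2 h.simp hz hd (h.not_le_norm (by simpa using ne_one_of_orderOf oy)
    (zpowers_le.2 hy)) (e1 ▸ (odd_Ut t).of_dvd_nat (relIndex_dvd_card _ _)) ?_ ?_ fun u hu hu' => ?_
  · have h3 := relIndex_norm_le (oy ▸ hp.1) key
    rw [Nat.card_zpowers, oc, ← e1] at h3
    by_cases hn : Ut t ≤ 𝐍(zpowers c)
    · exact h3.trans_lt (h2 hn)
    refine lt_of_lt_of_le (not_le.1 fun hle => hn fun g hg => ?_)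
      (oc ▸ Nat.card_zpowers c ▸ card_le_of_le (zpowers_le.2 hc))
    by_contra hg'
    obtain ⟨τ, hτ, h4⟩ := exists_mul_mem_of_sup (oy ▸ hp.1) hyc
      (conj_mem_of_mem_normalizer (ha hg) (mem_sup_right (mem_zpowers c)))
      fun e => hg' (SW.Fr.mem_norm_of_conj (mem_zpowers c) e)
    obtain ⟨u, hu, h5, h6⟩ := exists_conj_of_le (oy ▸ hp.1) key
      (by rwa [Nat.card_zpowers, oc, ← e1]) hτ
    have h7 := zpowers_eq_of_card_prime (by rw [Nat.card_zpowers, orderOf_conj, oy]; exact hp.1) h6 h5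
    have h8 := zpowers_le.2 h4 (h7.ge (mem_zpowers _))
    rw [zpowers_conj, mem_map_conj_iff] at h8
    refine hE.not_inv (odd_of_mem_Ut hyU) (ne_one_of_orderOf oy) (mul_mem (inv_mem hg) hu) ?_
    rw [show g⁻¹ * u * y * (g⁻¹ * u)⁻¹ = g⁻¹ * (u * y * u⁻¹) * g by group]
    exact inverts_zpowers sc _ h8
  · have h3 := hS.relIndex_cent le_top hS.four'
    have h4 : (𝐂[x * s]).relIndex (Ut t) ≤ Nat.card F :=
      relIndex_cent_le fun g hg => hU (commutator_mem_commutator hg (mem_zpowers _))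
    have h5 := (card_le_mul h.four.ss hs hK).trans (Nat.mul_le_mul_right _ h1)
    have h6 : orderOf x ≤ 2 * orderOf (x * x) := Nat.le_of_dvd (Nat.mul_pos two_pos (orderOf_pos _))
      (orderOf_dvd_of_pow_eq_one (by rw [pow_mul, sq, pow_orderOf_eq_one]))
    have hxx := mul_mem (mem_zpowers x) (mem_zpowers x)
    have h7 := orderOf_dvd_of_mem_zpowers (hE.tor.mem' h.ot (hE.te.mul_self_mem h.dih hxM hS.pA)
      (hS.S_le (hS.AS hxx)) fun e => hS.notMem_A e hxx)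
    obtain ⟨n, hn⟩ := isPGroup_zpowers_iff.1 (hS.pA.to_le (zpowers_le.2 hxx))
    have h8 := Nat.le_of_dvd (orderOf_pos k) (Nat.Coprime.mul_dvd_of_dvd_of_dvd
      (hn ▸ (Nat.coprime_two_right.2 hz).pow_right n) hd h7)
    have h9 := hE.relIndex_s_le
    have h10 := Nat.mul_le_mul (h4.trans h5) h6
    have h11 := Nat.mul_le_mul_left (Nat.card ↥(F ⊓ zpowers k)) h8
    rw [hS.mI_eq le_top]
    nlinarith
  · obtain ⟨v, hv, b, hb, rfl⟩ := hS.exists_mul le_top hu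
    refine ⟨c, hc.2, sq_ne_one (odd_of_mem_Ut (hF hcF).1) (ne_one_of_orderOf oc), ?_⟩
    rw [map_conj_mul, conj_norm (hSM hb)]
    exact cent_pair (oc ▸ hp.1) (hF hcF).2 (ha' v hv) fun e => hu' (mul_mem e (hSM hb))

theorem inverts_fit' {S : Subgroup G} {x : G} (hS : DF ⊤ S x s t) (h' : NT t (x * s)) :
    Inverts (x * s) (fittingOf (Ut t)) := by
  refine inverts_fit h'.four fun q _ => (h'.no q).elim (fun hq g hg => ?_) id
  suffices h0 : pCoreOf q (Ut t) = ⊥ by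
    rw [h0, mem_bot] at hg
    simp [hg]
  obtain ⟨e, he, e1, e2⟩ := hS.exists_e
  have heN := hS.S_le (hS.AS he)
  rcases SW.mem_zpowers_or hS.pA he (mem_zpowers x) with h2 | h2
  · by_contra hne
    obtain ⟨L, k, hE⟩ := h.exists_ed h.A le_rfl
    have h3 := hE.tor.inverts (mul_mem (zpowers_le.2 (norm_inf_cent ((pc_le_U p t).trans (Ut_le t))
      (cent_le_norm_pc t p heN) e2) h2) (hE.L_le hE.smem)) h'.four
    obtain ⟨j, hj, hj', j1, ej⟩ : ∃ j ∈ pCoreOf q (Ut t), j ∈ 𝐂(pCoreOf p (Ut t) ⊓ 𝐂[s]) ∧ j ≠ 1 ∧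
        s * j * s⁻¹ = j⁻¹ := by
      by_cases hqp : q = p
      · subst hqp
        obtain ⟨j, hj, j1, ej⟩ := h.exists_j
        exact ⟨j, hj.1, hj.2, j1, ej⟩
      · obtain ⟨j, hj, j1, ej⟩ := exists_inverted h.four.ss (odd_pc q t)
          (cent_le_norm_pc t q h.four.s_cent) fun hle => hne (h.no_one hle)
        exact ⟨j, hj, centralizer_le inf_le_left (LD.pc_le_cent hqp _ hj), j1, ej⟩
    have hjU := pc_le_U q t hj
    exact j1 (eq_one_of_inv_of_comm (odd_of_mem_Ut hjU)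
      (h3 j (hE.mem_k hjU (cent_le_norm _ hj') ej)) (mem_cent1.1 (hq hj)))
  · obtain ⟨b, hb, eb⟩ := hS.exists_conj_sq hS.xyS hS.xyA h2
    have hbN := hS.S_le (hS.AS hb)
    refine h.nt1 h'.four heN e1 (conj_eq_of_sqrt e1 (hS.refl_inv hS.xyS hS.xyA e he)) hq ?_
      (eb ▸ (h'.conj hbN).comm_le)
    rw [← eb, cent1_conj, ← map_conj_eq_of_mem_normalizer (cent_le_norm_pc t q hbN)]
    exact map_mono hq

theorem caseA {S : Subgroup G} {x : G} (hS : DF ⊤ S x s t) (h' : NT t (x * s)) : False := by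
  have h4 := h.four
  have hi := h.inverts_fit' hS h'
  have hPF := H1.pCoreOf_le_fittingOf p (Ut t)
  have hFc : ∀ {f : G}, f ∈ fittingOf (Ut t) → fittingOf (Ut t) ≤ 𝐂(zpowers f) := fun hf =>
    hi.le_cent.trans (centralizer_le (zpowers_le.2 hf))
  have hsF := cent_le_norm_fit t h4.s_cent
  obtain ⟨y, hy, oy⟩ := exists_ord ((H1.pCoreOf_isPGroup _).to_le inf_le_left) h.A
  have h0 : zpowers y ≠ ⊥ := by simpa using ne_one_of_orderOf oy
  obtain ⟨L, k, hE⟩ := h.exists_ed h0 (zpowers_le.2 hy)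
  have hK : ∀ z ∈ fittingOf (Ut t), s * z * s⁻¹ = z⁻¹ → z ∈ fittingOf (Ut t) ⊓ zpowers k :=
    fun z hz e => ⟨hz, hE.mem_k (fit_le _ hz) (cent_le_norm _ (hFc (hPF hy.1) hz)) e⟩
  have hn : ¬ ⁅Ut t, zpowers s⁆ ≤ 𝐂(fittingOf (Ut t) ⊓ zpowers k) := fun hc => by
    have hs := zpowers_le.2 (cent_le_norm_Ut t h4.s_cent)
    have hUF := le_normalizer.trans (norm_le_norm_fit (Ut t))
    have hW := normalizer_commutator_ge_left (Ut t) (zpowers s)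
    have hZ : ∀ A ≤ 𝐍(Ut t), A ≤ 𝐍(⁅Ut t, zpowers s⁆) →
        A ≤ 𝐍(fittingOf (Ut t) ⊓ 𝐂(⁅Ut t, zpowers s⁆)) := fun A h1 h2 =>
      Cop.le_normalizer_inf_centralizer (h1.trans (norm_le_norm_fit _)) h2
    have h1 : ⁅fittingOf (Ut t), zpowers s⁆ ≤ fittingOf (Ut t) ⊓ 𝐂(⁅Ut t, zpowers s⁆) :=
      (commutator_zpowers_le h4.ss fun f hf => hK _ (comm_mem hsF hf) (inv_comm h4.ss)).trans
        (le_inf inf_le_left (le_centralizer_iff.1 hc))
    have h2 := CommCalc.three_subgroups (hZ _ le_normalizer hW)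
      (hZ _ hs (normalizer_commutator_ge_right _ _)) ((fit_le _).trans (hZ _ le_normalizer hW))
      (by rw [commutator_comm (zpowers s)]
          exact (commutator_mono h1 le_rfl).trans (comm_le_left (hZ _ le_normalizer hW)))
      ((commutator_mono (comm_le_left hUF) le_rfl).trans h1)
    have h3 := le_fit_of_quad (comm_le_left hs) hW (commutator_eq_bot_iff_le_centralizer.2 (by
      rw [commutator_comm]; exact h2.trans inf_le_right))
    have h5 : s ∈ 𝐍(pCoreOf p (Ut t) ⊓ 𝐂[s]) :=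
      mem_norm_inf (cent_le_norm_pc t p h4.s_cent) (mem_norm_cent1 (self_mem_cent1 s))
    refine h.not_le_norm h.A le_rfl (hS.le_of le_top (fun u hu => ?_) ?_ h5)
    · obtain ⟨b, hb, i, hi', ei, rfl⟩ := exists_cent_mul_inv h4.ss (odd_Ut t)
        (cent_le_norm_Ut t h4.s_cent) hu
      exact mul_mem (mem_norm_inf (H1.le_normalizer_pCoreOf _ hb.1) (mem_norm_cent1 hb.2))
        (cent_le_norm _ (centralizer_le (inf_le_left.trans hPF)
          (hi.le_cent (h3 (mem_commutator_of_inverted (odd_of_mem_Ut hi') ei hi')))))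
    · simpa using mul_mem (hi.mono (inf_le_left.trans hPF)).mem_norm (inv_mem h5)
  obtain ⟨i, hiU, si, hic⟩ : ∃ i ∈ Ut t, s * i * s⁻¹ = i⁻¹ ∧
      i ∉ 𝐂(fittingOf (Ut t) ⊓ zpowers k) := by
    by_contra hne
    push Not at hne
    exact hn (commutator_zpowers_le h4.ss fun u hu =>
      hne _ (comm_mem (cent_le_norm_Ut t h4.s_cent) hu) (inv_comm h4.ss))
  have h1 : ∀ z ∈ fittingOf (Ut t) ⊓ 𝐂[s], z ∈ 𝐂[i * i] → z = 1 := fun z hz hz' => by
    by_contra z1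
    obtain ⟨r, _, a, ha, oa, har⟩ := exists_prime_pow hz.1 z1
    have has := zpowers_le.2 hz.2 ha
    have a1 := ne_one_of_orderOf oa
    obtain ⟨L', k', hE'⟩ := (h.of_ne_bot (ne_bot_of_mem (mem_inf.2 ⟨har, has⟩) a1)).exists_ed
      (X := zpowers a) (by simpa using a1) (zpowers_le.2 ⟨har, has⟩)
    have h2 := hE'.mem_k (mul_mem hiU hiU) (cent_le_norm _ (by
      rw [cent_zpowers, mem_cent1_comm]; exact zpowers_le.2 hz' ha))
      (by rw [← _root_.conj_mul, si, mul_inv_rev])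
    refine hic (zpowers_le.2 (mem_cent.2 fun j hj => ?_) (mem_zpowers_sq (odd_of_mem_Ut hiU)))
    exact mem_cent1.1 (cent1_le_cent1 h2 (zpowers_le_cent1 k' (hE'.mem_k (fit_le _ hj.1)
      (cent_le_norm _ (hFc (H1.pCoreOf_le_fittingOf r _ har) hj.1)) (hE.inverts j hj.2))))
  have hPc : pCoreOf p (Ut t) ≤ 𝐂(pCoreOf p (Ut t)) := (hi.mono hPF).le_cent
  obtain ⟨j, hj, j1, ej⟩ := h.exists_j
  obtain ⟨c, hc, oc⟩ := exists_ord (pg_of_mem (H1.pCoreOf_isPGroup _) hj.1) (by simpa using j1)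
  have sc := inverts_zpowers ej c hc
  have hcP := zpowers_le.2 hj.1 hc
  have hZ : 𝐂[t] ≤ 𝐍(omegaC p _ hPc) := (cent_le_norm_pc t p).trans (norm_le_norm_omegaC _ _ _)
  have hinv : ∀ z ∈ omegaC p _ hPc, s * z * s⁻¹ = z⁻¹ → z ∈ zpowers c := fun z hz e =>
    hE.mem_c (pc_le_U p t hz.1) (pc_le_U p t hcP) (cent_le_norm _ (hFc (hPF hy.1) (hPF hz.1)))
      (cent_le_norm _ (hFc (hPF hy.1) (hPF hcP))) e sc (oc ▸ hz.2)
  have hyZ : y ∈ omegaC p _ hPc := ⟨hy.1, oy ▸ pow_orderOf_eq_one y⟩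
  have h2 := card_cent_le (hZ (Ut_le t hiU)) si hinv fun z hz => h1 z ⟨hPF hz.1.1, hz.2⟩
  rw [Nat.card_zpowers, oc.trans oy.symm] at h2
  have h3 := eq_zpowers_of_card_le (mem_inf.2 ⟨hyZ, hy.2⟩) h2
  have h5 : omegaC p _ hPc = zpowers y ⊔ zpowers c := by
    refine le_antisymm (fun z hz => ?_) (sup_le (zpowers_le.2 hyZ)
      (zpowers_le.2 ⟨hcP, oc ▸ pow_orderOf_eq_one c⟩))
    obtain ⟨a, ha, b, hb, e, rfl⟩ := exists_cent_mul_inv h4.ss
      (odd_card_of_le (odd_pc p t) fun _ hz => (mem_omegaC.1 hz).1) (hZ h4.s_cent) hz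
    exact mul_mem (mem_sup_left (h3 ▸ ha)) (mem_sup_right (hinv b hb e))
  refine h.final hS hy oy oc hE sc (hPF hcP) (h5 ▸ (Ut_le t).trans hZ) (hi y (hPF hy.1))
    (le_inf (fit_le _) (cent_zpowers y ▸ hFc (hPF hy.1))) hsF h'.comm_le'
    (card_cent_le (cent_le_norm_fit t (Ut_le t hiU)) si hK h1) fun hU => not_le.1 fun hle => hn ?_
  rw [eq_zpowers_of_card_le (hK c (hPF hcP) sc) (oc ▸ hle)]
  exact (inverts_zpowers sc).commutator_le_cent h4.ss hU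

end T3

end CfsgLib.GD
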