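import Cfsg.Agent.Lib.GD.CaseA

/-!
# All reflections are of the third type
-/

set_option autoImplicit false

namespace CfsgLib.GD

open Subgroup Cfsg CfsgLib.FT.BGN CfsgLib.FT.U4 CfsgLib.GW
open scoped commutatorElement

universe u

section general

variable {G : Type*} [Group G] [Finite G] {t s : G}

theorem exists_pow_cent {y w g c : G} (hc : (orderOf c).Prime) (hw : ⁅w, y⁆ ∈ zpowers c)
    (hwc : w ∈ 𝐂[c]) (hy : w ∉ 𝐂[y]) (hg : ⁅g, y⁆ ∈ zpowers c) :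
    ∃ v ∈ zpowers w, v⁻¹ * g ∈ 𝐂[y] := by
  obtain ⟨n, hn⟩ := (zpowers_eq_of_card_prime (by rwa [Nat.card_zpowers]) hw
    fun e => hy (mem_cent1.2 (commutatorElement_eq_one_iff_mul_comm.1 e))).ge hg
  simp only [← PGrp.commutatorElement_zpow_left (mem_cent1'.1 (cent1_le_cent1 hw hwc))] at hn
  simp only [commutatorElement_def, mul_left_inj] at hn
  refine ⟨w ^ n, zpow_mem (mem_zpowers w) n, mem_cent1_of_conj_eq ?_⟩
  rw [show (w ^ n)⁻¹ * g * y * ((w ^ n)⁻¹ * g)⁻¹ = (w ^ n)⁻¹ * (g * y * g⁻¹) * w ^ n by group, ← hn]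
  group

theorem inverts_conj {K : Subgroup G} {n : G} (h : Inverts s K) (hn : n ∈ 𝐍(K)) :
    Inverts (n * s * n⁻¹) K := fun w hw => by
  rw [show n * s * n⁻¹ * w * (n * s * n⁻¹)⁻¹ = n * (s * (n⁻¹ * w * n) * s⁻¹) * n⁻¹ by group,
    h _ (conj_mem_of_mem_normalizer' hn hw)]
  group

theorem Simp.le_of (hG : Simp G) (ht : orderOf t = 2) {K : Subgroup G} (h1 : Ut t ≤ K)
    (h2 : ∀ s, Four t s → s ∈ K) : 𝐂[t] ≤ K := by
  obtain ⟨s, hs⟩ := hG.exists_four ht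
  obtain ⟨S, x, hS⟩ := hG.exists_frame hs
  exact hS.le_of le_top h1 (by simpa using mul_mem (h2 _ hS.four') (inv_mem (h2 s hs))) (h2 s hs)

theorem le_ncard {A : Set G} {y : G} (h1 : ∀ w ∈ zpowers y, w ≠ 1 → w ∈ A) (hy : y ∈ 𝐂[s]) :
    orderOf y - 1 ≤ {w | w ∈ A ∧ w ∈ 𝐂[s]}.ncard := by
  rw [← Nat.card_zpowers, ← card_bot (G := G), ← ncard_diff bot_le]
  exact Set.ncard_le_ncard fun w hw => ⟨h1 w hw.1 (by simpa using hw.2), zpowers_le.2 hy hw.1⟩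

end general

variable {G : Type u} [Group G] [Finite G]

/-- All reflections are of the third type for `p`. -/
structure TB (t : G) (p : ℕ) : Prop extends Cx t where
  all : ∀ s, Four t s → T3 t s p

namespace TB

variable {t s : G} {p : ℕ} [hp : Fact p.Prime] (h : TB t p)
include h

theorem p2 : p ≠ 2 :=
  let ⟨s, hs⟩ := h.simp.exists_four h.ot
  (h.all s hs).p2

theorem U_le {K : Subgroup G} (hK : ∀ s, Four t s → ⁅Ut t, zpowers s⁆ ≤ K) : Ut t ≤ K :=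
  h.simp.Ut_le_of_fusion h.ot (fun s hs => (h.all s hs).fusion) hK

theorem U_le_cent {Q : Subgroup G} (hi : ∀ s, Four t s → Inverts s Q) : Ut t ≤ 𝐂(Q) :=
  h.U_le fun s hs => commutator_zpowers_le hs.ss fun u hu => mem_cent_of_inverts (hi s hs)
    (by simpa using hi _ (four_conj hs (Ut_le t hu)))

theorem exists_ed {w : G} (h4 : Four t s) (hw : w ∈ pCoreOf p (Ut t)) (hs : w ∈ 𝐂[s]) (w1 : w ≠ 1) :
    ∃ L k, ED (zpowers w) L t s k :=
  (h.all s h4).exists_ed (by simpa using w1) (zpowers_le.2 ⟨hw, hs⟩)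

theorem mem_L {w k s' : G} {L : Subgroup G} (hE : ED (zpowers w) L t s k)
    (hw : w ∈ pCoreOf p (Ut t)) (w1 : w ≠ 1) (h4 : Four t s') (hs : w ∈ 𝐂[s']) : s' ∈ L :=
  let ⟨_, _, hE'⟩ := h.exists_ed h4 hw hs w1
  hE'.te.unique h.dih hE.te ▸ hE'.smem

theorem ncard_le {w : G} (hw : w ∈ pCoreOf p (Ut t)) (w1 : w ≠ 1) {κ : ℕ}
    (hκ : ∀ s L k, w ∈ 𝐂[s] → ED (zpowers w) L t s k → orderOf k ≤ κ) :
    {s | Four t s ∧ w ∈ 𝐂[s]}.ncard ≤ κ := by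
  rcases {s | Four t s ∧ w ∈ 𝐂[s]}.eq_empty_or_nonempty with e | ⟨s, h4, hs⟩
  · simp [e]
  obtain ⟨L, k, hE⟩ := h.exists_ed h4 hw hs w1
  refine le_trans (le_trans (Set.ncard_le_ncard fun a ha => ?_) hE.tor.ncard_le) (hκ s L k hs hE)
  exact ⟨h.mem_L hE hw w1 ha.1 ha.2, ha.1⟩

theorem count {Y : Subgroup G} (hY : Y ≤ pCoreOf p (Ut t)) (hc : Y ≤ 𝐂(Y)) (he : ∀ g ∈ Y, g ^ p = 1)
    (hcard : Nat.card Y ≤ p * p) (hn : 𝐂[t] ≤ 𝐍(Y)) (hi : ∀ s, Four t s → ¬ Inverts s Y) :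
    False := by
  have hYU := hY.trans (pc_le_U p t)
  have ho := odd_card_of_le (odd_Ut t) hYU
  have key : ∀ s, Four t s → ∃ y ∈ Y ⊓ 𝐂[s], y ≠ 1 := fun s hs =>
    exists_ne_one fun e => hi s hs (inverts_of_inf_cent hs.ss ho (hn hs.s_cent) e)
  obtain ⟨⟨s, y, L, k⟩, ⟨hy, y1, hE⟩, hmax⟩ := Set.exists_max_image
    {q : G × G × Subgroup G × G | q.2.1 ∈ Y ⊓ 𝐂[q.1] ∧ q.2.1 ≠ 1 ∧
      ED (zpowers q.2.1) q.2.2.1 t q.1 q.2.2.2} (fun q => orderOf q.2.2.2) (Set.toFinite _) (by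
      obtain ⟨s, hs⟩ := h.simp.exists_four h.ot
      obtain ⟨y, hy, y1⟩ := key s hs
      obtain ⟨L, k, hE⟩ := h.exists_ed hs (hY hy.1) hy.2 y1
      exact ⟨⟨s, y, L, k⟩, hy, y1, hE⟩)
  simp only at hy y1 hE hmax
  have h4 := hE.four
  have h3 := h.all s h4
  have hX : zpowers y ≤ pCoreOf p (Ut t) ⊓ 𝐂[s] := zpowers_le.2 ⟨hY hy.1, hy.2⟩
  obtain ⟨c, hcY, c1, sc⟩ := exists_inverted h4.ss ho (hn h4.s_cent)
    fun e => h3.not_le_norm (ne_bot_of_mem hy.1 y1) (le_inf hY e) hn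
  have oy := orderOf_eq_prime (he y hy.1) y1
  have oc := orderOf_eq_prime (he c hcY) c1
  have hcy := cent_le_cent1 hy.1 (hc hcY)
  have h5 : ∀ b ∈ zpowers c, b ∈ 𝐂[s] → b = 1 := fun b hb hb' => eq_one_of_inv_of_comm
    (odd_of_mem_Ut (hYU (zpowers_le.2 hcY hb))) (inverts_zpowers sc b hb) (mem_cent1.1 hb')
  have hyc : zpowers y ≤ 𝐍(zpowers c) :=
    zpowers_le.2 (cent_le_norm _ (cent_zpowers c ▸ mem_cent1_comm.1 hcy))
  have h6 : zpowers y ⊔ zpowers c = Y := eq_of_le_of_card_ge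
    (sup_le (zpowers_le.2 hy.1) (zpowers_le.2 hcY)) (by
      rwa [card_sup_of_disjoint hyc (eq_bot_of_forall fun g hg => h5 g hg.2 (hX hg.1).2),
        Nat.card_zpowers, Nat.card_zpowers, oy, oc])
  have h7 : Y ⊓ 𝐂[s] = zpowers y := le_antisymm (fun g hg => by
    obtain ⟨a, ha, b, hb, rfl⟩ := (mem_sup_iff_of_le_normalizer hyc).1 (h6.ge hg.1)
    rwa [h5 b hb (by simpa using mul_mem (inv_mem (mem_inf.1 (hX ha)).2) (mem_inf.1 hg).2), mul_one]) (zpowers_le.2 hy)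
  obtain ⟨S, x, hS⟩ := h.simp.exists_frame h4
  obtain ⟨e, he', e1, e2⟩ := hS.exists_e
  have heN := hS.S_le (hS.AS he')
  obtain ⟨-, h8, h9⟩ := h3.two_mul_le hX hE
  refine hE.count1 h.simp h9 (h3.not_le_norm (by simpa using y1) hX) (hS.eight_dvd_of he' e1
    ⟨h7 ▸ norm_inf_cent (hYU.trans (Ut_le t)) (hn heN) e2, heN⟩ ⟨hE.L_le hE.smem, h4.s_cent⟩) ?_
    fun u hu hu' => ⟨c, hE.mem_k (hYU hcY) (cent_le_norm _ (cent_zpowers y ▸ hcy)) sc,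
      sq_ne_one (odd_of_mem_Ut (hYU hcY)) c1,
      cent_pair (oc ▸ hp.1) hcy (h6 ▸ conj_mem_of_mem_normalizer (hn hu) hy.1) hu'⟩
  have h10 := mI_le (t := t) (A := (Y : Set G) \ (⊥ : Subgroup G)) (a := p - 1) (κ := orderOf k)
    (fun s' hs' => by
      obtain ⟨y', hy', y1'⟩ := key s' hs'
      exact orderOf_eq_prime (he y' hy'.1) y1' ▸
        le_ncard (fun w hw w1 => ⟨zpowers_le.2 hy'.1 hw, by simpa using w1⟩) hy'.2)
    fun w hw => h.ncard_le (hY hw.1) (by simpa using hw.2) fun s' L' k' hs' hE' =>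
      hmax ⟨s', w, L', k'⟩ ⟨⟨hw.1, hs'⟩, by simpa using hw.2, hE'⟩
  rw [ncard_diff bot_le, card_bot] at h10
  obtain ⟨n, rfl⟩ : ∃ n, p = n + 2 := ⟨p - 2, by have := hp.1.two_le; omega⟩
  have h11 : mI t * (n + 1) ≤ (n + 3) * orderOf k * (n + 1) := by
    refine h10.trans ((Nat.mul_le_mul_right _ (Nat.sub_le_sub_right hcard 1)).trans_eq ?_)
    rw [show (n + 2) * (n + 2) = (n + 3) * (n + 1) + 1 by ring, Nat.add_sub_cancel]
    ring
  have h12 := Nat.le_of_mul_le_mul_right h11 n.succ_pos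
  nlinarith

theorem exists_c : ∃ c ∈ pCoreOf p (Ut t), orderOf c = p ∧ ∀ s, Four t s → s * c * s⁻¹ = c⁻¹ := by
  set Z := omegaC p (LD.Zp p (Ut t)) GW.T3.Zp_le
  have hn : 𝐂[t] ≤ 𝐍(Z) := GW.T3.norm_Z
  have hZP : Z ≤ pCoreOf p (Ut t) := fun z hz => hz.1.1
  have hZU := hZP.trans (pc_le_U p t)
  have hZc : ∀ X ≤ pCoreOf p (Ut t), Z ≤ 𝐂(X) := fun X hX z hz => centralizer_le hX hz.1.2
  have key : ∀ s, Four t s → ∃ c ∈ Z, orderOf c = p ∧ s * c * s⁻¹ = c⁻¹ ∧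
      ∀ z ∈ Z, s * z * s⁻¹ = z⁻¹ → z ∈ zpowers c := fun s hs => by
    have h3 := h.all s hs
    obtain ⟨z, hz, oz⟩ := exists_ord ((H1.pCoreOf_isPGroup _).to_le inf_le_left)
      (LD.Zp_ne_bot h3.P_ne)
    obtain ⟨c, hc, c1, e⟩ := exists_inverted hs.ss (odd_card_of_le (odd_Ut t) hZU) (hn hs.s_cent)
      fun hle => h3.not_le_norm (ne_bot_of_mem (mem_omegaC.2 ⟨hz, oz ▸ pow_orderOf_eq_one z⟩)
        (ne_one_of_orderOf oz)) (le_inf hZP hle) hn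
    have oc := orderOf_eq_prime hc.2 c1
    exact ⟨c, hc, oc, e, fun z hz ez => h3.mem_c h3.A le_rfl (hZU hz) (hZU hc)
      (hZc _ inf_le_left hz) (hZc _ inf_le_left hc) ez e (oc ▸ hz.2)⟩
  have key2 : ∀ s, Four t s → ∀ H ≤ Z, (𝐂[s]).relIndex H ≤ p := fun s hs H hH => by
    obtain ⟨c, -, oc, -, hc⟩ := key s hs
    rw [← oc, ← Nat.card_zpowers]
    exact relIndex_cent_le fun g hg => hc _ (comm_mem (hn hs.s_cent) (hH hg)) (inv_comm hs.ss)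
  obtain ⟨s, hs⟩ := h.simp.exists_four h.ot
  obtain ⟨c, hc, oc, sc, hc'⟩ := key s hs
  refine ⟨c, hZP hc, oc, fun s' hs' => by_contra fun hne => ?_⟩
  have h1 : 𝐂[s'] ⊓ (𝐂[s] ⊓ Z) = ⊥ := eq_bot_of_forall fun a ha => by_contra fun a1 => by
    obtain ⟨L, k, hE⟩ := h.exists_ed hs (hZP ha.2.2) ha.2.1 a1
    exact hne (hE.tor.inverts (cent_le_norm _ (cent_zpowers a ▸ mem_cent1_comm.1 ha.1)) hs' c
      (hE.mem_k (hZU hc) (cent_le_norm _ (hZc _ (zpowers_le.2 (hZP ha.2.2)) hc)) sc))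
  refine h.count hZP (hZc _ hZP) (fun g hg => hg.2) ?_ hn fun a ha hi => ?_
  · rw [← card_inf_mul_relIndex 𝐂[s] Z, ← card_inf_mul_relIndex 𝐂[s'] (𝐂[s] ⊓ Z), h1, card_bot,
      one_mul]
    exact Nat.mul_le_mul (key2 s' hs' _ inf_le_right) (key2 s hs _ le_rfl)
  · obtain ⟨d, hd, od, -, hd'⟩ := key a ha
    obtain ⟨c', hc', oc', sc', -⟩ := key s' hs'
    have h2 := zpowers_eq_of_card_prime (by rw [Nat.card_zpowers, od]; exact hp.1)
      (hd' c' hc' (hi c' hc')) (ne_one_of_orderOf oc')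
    exact hne (inverts_zpowers sc' c (h2.ge (hd' c hc (hi c hc))))

end TB

/-- All reflections invert `c`. -/
structure T4 (t c : G) (p : ℕ) : Prop extends TB t p where
  cP : c ∈ pCoreOf p (Ut t)
  oc : orderOf c = p
  sc : ∀ s, Four t s → s * c * s⁻¹ = c⁻¹

namespace T4

variable {t s c : G} {p : ℕ} [hp : Fact p.Prime] (h : T4 t c p)
include h

theorem Uc : Ut t ≤ 𝐂[c] := cent_zpowers c ▸ h.U_le_cent fun s hs => inverts_zpowers (h.sc s hs)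

/-- The subgroup `W`. -/
def W : Subgroup G :=
  Wg (pCoreOf p (Ut t)) c (hp.1.odd_of_ne_two h.p2) ((pc_le_U p t).trans h.Uc) h.oc

theorem W_le : h.W ≤ pCoreOf p (Ut t) := fun _ hx => hx.1

theorem W_le_U : h.W ≤ Ut t := h.W_le.trans (pc_le_U p t)

omit hp in
theorem cU : c ∈ Ut t := pc_le_U p t h.cP

theorem oc' : (orderOf c).Prime := h.oc ▸ hp.1

theorem cW : c ∈ h.W := ⟨h.cP, h.oc ▸ pow_orderOf_eq_one c, fun g hg => by
  rw [commutatorElement_eq_one_iff_mul_comm.2 (mem_cent1'.1 (h.Uc (pc_le_U p t hg)))]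
  exact one_mem _⟩

theorem comm_W {y g : G} (hy : y ∈ h.W) (hg : g ∈ pCoreOf p (Ut t)) : ⁅g, y⁆ ∈ zpowers c := by
  simpa using inv_mem (hy.2.2 g hg)

theorem norm_c : 𝐂[t] ≤ 𝐍(zpowers c) := h.simp.le_of h.ot
  (h.Uc.trans (cent_zpowers c ▸ cent_le_norm _)) fun s hs => (inverts_zpowers (h.sc s hs)).mem_norm

theorem norm_W : 𝐂[t] ≤ 𝐍(h.W) := fun g hg => mem_normalizer_of_conj_mem fun x hx =>
  ⟨conj_mem_of_mem_normalizer (cent_le_norm_pc t p hg) hx.1, by rw [conj_pow, hx.2.1]; group,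
    fun a ha => by
      rw [show ⁅g * x * g⁻¹, a⁆ = g * ⁅x, g⁻¹ * a * g⁆ * g⁻¹ by
        simp only [commutatorElement_def]; group]
      exact conj_mem_of_mem_normalizer (h.norm_c hg)
        (hx.2.2 _ (conj_mem_of_mem_normalizer' (cent_le_norm_pc t p hg) ha))⟩

omit hp in
theorem eq_one_of_c (h4 : Four t s) {a : G} (ha : a ∈ zpowers c) (hs : a ∈ 𝐂[s]) : a = 1 :=
  eq_one_of_inv_of_comm (odd_of_mem_Ut (zpowers_le.2 h.cU ha)) (inverts_zpowers (h.sc s h4) a ha)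
    (mem_cent1.1 hs)

theorem mem_c' (h4 : Four t s) {q : ℕ} [Fact q.Prime] {a : G} (ha : a ∈ pCoreOf q (Ut t))
    (hs : a ∈ 𝐂[s]) (a1 : a ≠ 1) {x : G} (hx : x ∈ Ut t) (hxn : x ∈ 𝐂[a])
    (ex : s * x * s⁻¹ = x⁻¹) (ho : x ^ p = 1) : x ∈ zpowers c :=
  ((h.all s h4).of_ne_bot (ne_bot_of_mem (mem_inf.2 ⟨ha, hs⟩) a1)).mem_c (X := zpowers a)
    (by simpa using a1) (zpowers_le.2 ⟨ha, hs⟩) hx h.cU (cent_zpowers a ▸ hxn)
    (cent_zpowers a ▸ mem_cent1_comm.1 (h.Uc (pc_le_U q t ha))) ex (h.sc s h4) (h.oc ▸ ho)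

theorem not_W_le : ¬ h.W ≤ zpowers c := fun hle => by
  have hP := H1.pCoreOf_isPGroup (p := p) (Ut t)
  obtain ⟨s, hs⟩ := h.simp.exists_four h.ot
  obtain ⟨E, h1, h2, h3, h4⟩ := FT.ex_odd_normal_p2Elem h.p2 hP (h.all s hs).not_cyclic
  obtain ⟨x, hx, h5, h6⟩ := Cop.exists_commutator_mem_of_lt (Z := zpowers c) hP.isNilpotent h1
    (((pc_le_U p t).trans (Ut_le t)).trans h.norm_c) h2 fun hE => by
      have := card_le_of_le hE
      rw [h4, Nat.card_zpowers, h.oc] at this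
      nlinarith [hp.1.one_lt]
  exact h5 (hle ⟨h1 hx, h3.2 x hx, h6⟩)

theorem exists_y (h4 : Four t s) (hi : ¬ Inverts s h.W) : ∃ y ∈ h.W ⊓ 𝐂[s], y ≠ 1 :=
  exists_ne_one fun e => hi (inverts_of_inf_cent h4.ss (odd_card_of_le (odd_Ut t) h.W_le_U)
    (h.norm_W h4.s_cent) e)

theorem comm_le (h4 : Four t s) (hc : ∀ w ∈ h.W, s * w * s⁻¹ = w⁻¹ → w ∈ zpowers c) :
    ⁅h.W, zpowers s⁆ ≤ zpowers c :=
  commutator_zpowers_le h4.ss fun _ hx => hc _ (comm_mem (h.norm_W h4.s_cent) hx) (inv_comm h4.ss)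

theorem cen_false (hc : ∀ s, Four t s → ∀ w ∈ h.W, s * w * s⁻¹ = w⁻¹ → w ∈ zpowers c) : False := by
  obtain ⟨y, hy, hy'⟩ := SetLike.not_le_iff_exists.1 h.not_W_le
  have hY : zpowers y ⊔ zpowers c ≤ h.W := sup_le (zpowers_le.2 hy) (zpowers_le.2 h.cW)
  have hU := (Ut_le t).trans h.norm_c
  have hyc := h.Uc (h.W_le_U hy)
  refine h.count (hY.trans h.W_le) ?_ (fun g hg => (hY hg).2.1) ?_ (h.simp.le_of h.ot
    (h.U_le fun s hs => le_normalizer_iff_commutator_le_right.2 ?_) fun s hs =>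
      zpowers_le.1 (le_normalizer_iff_commutator_le_left.2 (((commutator_mono hY le_rfl).trans
        (h.comm_le hs (hc s hs))).trans le_sup_right)))
    fun s hs hi => hy' (hc s hs y hy (hi y (mem_sup_left (mem_zpowers y))))
  · rw [cent_sup, cent_zpowers, cent_zpowers]
    exact sup_le (zpowers_le.2 ⟨self_mem_cent1 y, hyc⟩)
      (zpowers_le.2 ⟨mem_cent1_comm.1 hyc, self_mem_cent1 c⟩)
  · have := card_sup_dvd_mul (zpowers_le.2 (hU (h.W_le_U hy)))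
    rw [Nat.card_zpowers, Nat.card_zpowers, h.oc,
      orderOf_eq_prime hy.2.1 fun e => hy' (e ▸ one_mem _)] at this
    exact Nat.le_of_dvd (Nat.mul_pos hp.1.pos hp.1.pos) this
  · have h1 := h.comm_le hs (hc s hs)
    exact ((commutator_mono le_rfl hY).trans (CommCalc.three_subgroups hU
      (zpowers_le.2 (h.norm_c hs.s_cent)) (h.W_le_U.trans hU) (by
        rw [commutator_comm (zpowers s)]
        exact (commutator_mono h1 le_rfl).trans (comm_le_left hU))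
      ((commutator_mono (comm_le_left ((Ut_le t).trans h.norm_W)) le_rfl).trans h1))).trans
      le_sup_right

theorem a1 {S : Subgroup G} {x : G} (hS : DF ⊤ S x s t)
    (hc : ∀ w ∈ h.W, s * w * s⁻¹ = w⁻¹ → w ∈ zpowers c) (hi : Inverts (x * s) h.W) : False := by
  have h4 := hS.four
  have h4' := hS.four'
  have hPF := H1.pCoreOf_le_fittingOf p (Ut t)
  obtain ⟨v, hv, ov⟩ := exists_ord ((H1.pCoreOf_isPGroup _).to_le inf_le_left) (h.all _ h4').A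
  have v1 := ne_one_of_orderOf ov
  have hWv : ∀ w ∈ h.W, w ∈ 𝐂[v] → w ∈ zpowers c := fun w hw hw' =>
    h.mem_c' h4' hv.1 hv.2 v1 (h.W_le_U hw) hw' (hi w hw) hw.2.1
  obtain ⟨y, hy, y1⟩ := h.exists_y h4 fun e => h.not_W_le fun w hw => hc w hw (e w hw)
  have oy := orderOf_eq_prime hy.1.2.1 y1
  have hyv : y ∉ 𝐂[v] := fun e => y1 (h.eq_one_of_c h4 (hWv y hy.1 e) hy.2)
  have hW : h.W = zpowers y ⊔ zpowers c := by
    refine le_antisymm (fun w hw => ?_) (sup_le (zpowers_le.2 hy.1) (zpowers_le.2 h.cW))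
    obtain ⟨a, ha, e⟩ := exists_pow_cent h.oc' (hy.1.2.2 v hv.1) (h.Uc (h.W_le_U hy.1)) hyv
      (hw.2.2 v hv.1)
    simpa using mul_mem (mem_sup_left ha)
      (mem_sup_right (hWv _ (mul_mem (inv_mem (zpowers_le.2 hy.1 ha)) hw) e))
  set F := fittingOf (Ut t) ⊓ 𝐂(h.W) with hF
  have hFU : F ≤ Ut t := inf_le_left.trans (fit_le _)
  have hn : 𝐂[t] ≤ 𝐍(F) := Cop.le_normalizer_inf_centralizer (cent_le_norm_fit t) h.norm_W
  have hi1 : Inverts (x * s) F := inverts_of_inf_cent h4'.ss (odd_card_of_le (odd_Ut t) hFU)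
    (hn h4'.s_cent) (eq_bot_of_forall fun f hf => by_contra fun f1 => by
      obtain ⟨r, _, a, ha, oa, har⟩ := exists_prime_pow hf.1.1 f1
      have h1 := zpowers_le.2 hf ha
      exact y1 (h.eq_one_of_c h4 (h.mem_c' h4' har h1.2 (ne_one_of_orderOf oa) (h.W_le_U hy.1)
        (mem_cent1_comm.1 (cent_le_cent1 hy.1 h1.1.2)) (hi y hy.1) hy.1.2.1) hy.2))
  have hWF : h.W ≤ F := le_inf (h.W_le.trans hPF) hi.le_cent
  have hC : Ut t ≤ 𝐍(Ut t ⊓ 𝐂(F)) :=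
    Cop.le_normalizer_inf_centralizer le_normalizer ((Ut_le t).trans hn)
  have hC' : Ut t ⊓ 𝐂(F) ≤ 𝐂(h.W) := inf_le_right.trans (centralizer_le hWF)
  have hU : ⁅Ut t, zpowers (x * s)⁆ ≤ F := (le_inf
    (comm_le_left (zpowers_le.2 (cent_le_norm_Ut t h4'.s_cent)))
    (hi1.commutator_le_cent h4'.ss ((Ut_le t).trans hn))).trans (le_inf (le_fit_of_quad inf_le_left hC
      (commutator_eq_bot_iff_le_centralizer.2 ((le_inf (comm_le_left ((inf_le_left.trans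
        (Ut_le t)).trans (cent_le_norm_fit t))) ((comm_le_right ((fit_le _).trans hC)).trans
          hC')).trans (le_centralizer_iff.1 inf_le_right)))) hC')
  have hPy : ∀ g ∈ pCoreOf p (Ut t), g ∈ 𝐂[y] → g ∈ F := fun g hg hg' => ⟨hPF hg, by
    rw [hW, cent_sup, cent_zpowers, cent_zpowers]
    exact ⟨hg', h.Uc (pc_le_U p t hg)⟩⟩
  obtain ⟨i, hiP, si, hiy⟩ : ∃ i ∈ pCoreOf p (Ut t), s * i * s⁻¹ = i⁻¹ ∧ i ∉ 𝐂[y] := by
    by_contra hne
    push Not at hne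
    obtain ⟨a, ha, i, hi', ei, e⟩ := exists_cent_mul_inv h4.ss (odd_pc p t)
      (cent_le_norm_pc t p h4.s_cent) hv.1
    refine hyv (mem_cent1_comm.1 (e ▸ mul_mem (mem_cent1.2 ?_) (hne i hi' ei)))
    exact commutatorElement_eq_one_iff_mul_comm.1 (h.eq_one_of_c h4 (h.comm_W hy.1 ha.1)
      (mul_mem (mul_mem (mul_mem ha.2 hy.2) (inv_mem ha.2)) (inv_mem hy.2)))
  have hiU := pc_le_U p t hiP
  obtain ⟨L, k, hE⟩ := h.exists_ed h4 hy.1.1 hy.2 y1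
  have hFy : F ≤ 𝐂[y] := inf_le_right.trans (cent_le_cent1 hy.1)
  have hK : ∀ z ∈ F, s * z * s⁻¹ = z⁻¹ → z ∈ F ⊓ zpowers k := fun z hz e =>
    ⟨hz, hE.mem_k (hFU hz) (cent_le_norm _ (cent_zpowers y ▸ hFy hz)) e⟩
  have h1 := card_cent_le (hn (Ut_le t hiU)) si hK fun z hz hz' => by_contra fun z1 => by
    obtain ⟨r, _, a, ha, oa, har⟩ := exists_prime_pow hz.1.1 z1
    have h1 := zpowers_le.2 hz ha
    have a1 := ne_one_of_orderOf oa
    by_cases hr : r = p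
    · subst hr
      obtain ⟨b, hb, e⟩ := exists_pow_cent h.oc' (h.comm_W hy.1 hiP) (h.Uc hiU) hiy
        (h.comm_W hy.1 hv.1)
      have h2 := mul_mem (zpowers_le.2 (zpowers_le.2 (mem_cent1_comm.1 (zpowers_le.2 hz' ha))
        (mem_zpowers_sq (odd_of_mem_Ut hiU))) hb) (cent_le_cent1 h1.1 (hi1.le_cent
          (hPy _ (mul_mem (inv_mem (zpowers_le.2 hiP hb)) hv.1) e)))
      rw [mul_inv_cancel_left, mem_cent1_comm] at h2
      exact a1 (h.eq_one_of_c h4 (h.mem_c' h4' hv.1 hv.2 v1 (hFU h1.1) h2 (hi1 a h1.1)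
        (oa ▸ pow_orderOf_eq_one a)) h1.2)
    · obtain ⟨L', k', hE'⟩ := h.exists_ed h4' hv.1 hv.2 v1
      refine ((h.all s h4).of_ne_bot (ne_bot_of_mem (mem_inf.2 ⟨har, h1.2⟩) a1)).not_cyclic
        (isCyclic_of_le' (C := zpowers k') inferInstance fun g hg => ?_)
      have h2 := LD.pc_le_cent hr _ hg
      exact hE'.mem_k (pc_le_U r t hg) (cent_le_norm _ (centralizer_le (zpowers_le.2 hv.1) h2))
        (hi1 g ⟨H1.pCoreOf_le_fittingOf r _ hg, centralizer_le h.W_le h2⟩)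
  refine (h.all s h4).final hS ⟨hy.1.1, hy.2⟩ oy h.oc hE (h.sc s h4) (hWF h.cW)
    (hW ▸ (Ut_le t).trans h.norm_W) (hi y hy.1) (le_inf hFU hFy) (hn h4.s_cent) hU h1
    fun _ => not_le.1 fun hle => ?_
  have h2 := eq_zpowers_of_card_le (hK c (hWF h.cW) (h.sc s h4)) (h.oc ▸ hle)
  have h3 := eq_zpowers_of_card_le (mem_inf.2 ⟨hWF hy.1, hy.2⟩) (oy ▸ h1.trans hle)
  have h5 : F ≤ h.W := fun f hf => by
    obtain ⟨a, ha, b, hb, e, rfl⟩ := exists_cent_mul_inv h4.ss (odd_card_of_le (odd_Ut t) hFU)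
      (hn h4.s_cent) hf
    exact mul_mem (zpowers_le.2 hy.1 (h3 ▸ ha)) (zpowers_le.2 h.cW (h2 ▸ hK b hb e))
  refine v1 (eq_one_of_inv_of_comm (odd_of_mem_Ut (pc_le_U p t hv.1))
    (hi v ⟨hv.1, ov ▸ pow_orderOf_eq_one v, fun g hg => ?_⟩) (mem_cent1.1 hv.2))
  obtain ⟨a, ha, e⟩ := exists_pow_cent h.oc' (h.comm_W hy.1 hv.1) (h.Uc (pc_le_U p t hv.1))
    (fun e => hyv (mem_cent1_comm.1 e)) (h.comm_W hy.1 hg)
  have haP := zpowers_le.2 hv.1 ha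
  have h6 := h.comm_W (h5 (hPy _ (mul_mem (inv_mem haP) hg) e)) hv.1
  rw [show ⁅v, g⁆ = a * (a⁻¹ * v * a⁻¹⁻¹ * (a⁻¹ * g) * v⁻¹ * (a⁻¹ * g)⁻¹) * a⁻¹ by
    simp only [commutatorElement_def]; group,
    conj_eq_of_mem_cent1 (inv_mem (zpowers_le_cent1 v ha))]
  exact conj_mem_of_mem_normalizer (h.norm_c (Ut_le t (pc_le_U p t haP))) h6

theorem mixed (h4 : Four t s) :
    (∃ x ∈ h.W, s * x * s⁻¹ = x⁻¹ ∧ x ∉ zpowers c) ∧ ∃ y ∈ h.W ⊓ 𝐂[s], y ≠ 1 := by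
  by_cases hm : ∃ s, Four t s ∧ (∃ x ∈ h.W, s * x * s⁻¹ = x⁻¹ ∧ x ∉ zpowers c) ∧ ¬ Inverts s h.W
  · obtain ⟨s₀, h₀, ⟨x, hx, sx, xc⟩, hi⟩ := hm
    obtain ⟨y, hy, y1⟩ := h.exists_y h₀ hi
    have hxy : x ∉ 𝐂[y] := fun e => xc (h.mem_c' h₀ hy.1.1 hy.2 y1 (h.W_le_U hx) e sx hx.2.1)
    refine ⟨by_contra fun hne => ?_, h.exists_y h4 fun e => hxy (cent_le_cent1 hy.1 (e.le_cent hx))⟩
    push Not at hne
    have h1 : ⁅⁅h.W, zpowers s⁆, h.W⁆ ≤ ⊥ := (commutator_eq_bot_iff_le_centralizer.2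
      ((h.comm_le h4 hne).trans (zpowers_le.2 (mem_cent.2 fun w hw =>
        mem_cent1.1 (h.Uc (h.W_le_U hw)))))).le
    have h2 := commutator_eq_bot_iff_le_centralizer.1 (le_bot_iff.1 (CommCalc.three_subgroups
      le_normalizer_of_normal le_normalizer_of_normal le_normalizer_of_normal h1
      (by rwa [commutator_comm (zpowers s)])))
    rw [cent_zpowers] at h2
    exact hxy (mem_cent1.2 (commutatorElement_eq_one_iff_mul_comm.1
      (h.eq_one_of_c h4 (hx.2.2 y hy.1.1) (h2 (commutator_mem_commutator hx hy.1)))))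
  exfalso
  push Not at hm
  refine h.cen_false fun s' hs' w hw e => by_contra fun hw' => ?_
  have hi := hm s' hs' ⟨w, hw, e, hw'⟩
  obtain ⟨a, ha, a1⟩ := exists_ne_one (h.all s' hs').A
  refine hw' (h.mem_c' hs' ha.1 ha.2 a1 (h.W_le_U hw) (mem_cent1_comm.1 (cent_le_cent1 hw
    (h.U_le_cent (fun s hs => by_contra fun hne => ?_) (pc_le_U p t ha.1)))) e hw.2.1)
  obtain ⟨S, x, hS⟩ := h.simp.exists_frame hs
  obtain ⟨n, hn, e⟩ := hS.exists_conj_cases le_top hs'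
  have h1 := inverts_conj hi (inv_mem (h.norm_W hn))
  rcases e with rfl | rfl
  · exact hne (by simpa [mul_assoc] using h1)
  · exact h.a1 hS (fun w hw e => by_contra fun hw' => hne (hm s hs ⟨w, hw, e, hw'⟩))
      (by simpa [mul_assoc] using h1)

end T4

end CfsgLib.GD
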