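import Cfsg.Agent.Lib.GD.Num

/-!
# Components of normalizers and the basic counting argument
-/

set_option autoImplicit false

namespace CfsgLib.GD

open Subgroup Cfsg CfsgLib.FT.BGN CfsgLib.FT.U4 CfsgLib.GW
open scoped commutatorElement

variable {G : Type*} [Group G]

theorem arith1 {κ E m I n i : ℕ} (hκ : 6 ≤ κ) (hE : 2 ≤ E) (hm : 2 * m ≤ κ * (κ + 2))
    (hc : I * (E - 1) ≤ n) (hn : n * I = i * E) (hi : 16 * i ≤ 45 * m ^ 2)
    (hi' : E = 2 → 64 * i ≤ 153 * m ^ 2) (hI : (2 * κ - 1) * (κ - 1) ≤ I) : False := by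
  obtain ⟨w, rfl⟩ : ∃ w, κ = w + 6 := ⟨κ - 6, by omega⟩
  obtain ⟨f, rfl⟩ : ∃ f, E = f + 2 := ⟨E - 2, by omega⟩
  rw [show 2 * (w + 6) - 1 = 2 * w + 11 by omega, show w + 6 - 1 = w + 5 by omega] at hI
  rw [show f + 2 - 1 = f + 1 by omega] at hc
  have h1 : 55 * m ≤ 24 * I := by nlinarith
  have h2 : 0 < I := by nlinarith
  have h3 : I * (f + 1) * I ≤ i * (f + 2) := hn ▸ Nat.mul_le_mul_right _ hc
  have h4 : 55 * m * (55 * m) ≤ 24 * I * (24 * I) := Nat.mul_le_mul h1 h1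
  have h5 : 0 < I * I := Nat.mul_pos h2 h2
  rcases f with _ | f
  · have := hi' rfl
    nlinarith
  · have h6 : 16 * i * (f + 3) ≤ 45 * m ^ 2 * (f + 3) := Nat.mul_le_mul_right _ hi
    have h7 : 55 * m * (55 * m) * (f + 3) ≤ 24 * I * (24 * I) * (f + 3) := Nat.mul_le_mul_right _ h4
    nlinarith [Nat.zero_le (I * I * f)]

theorem arith2 {κ E z m I n i : ℕ} (hE : Odd E) (hz : Odd z) (hE1 : E ≠ 1) (hlt : E < z)
    (hκ : 2 * z ≤ κ) (hm : m ≤ κ * (E + z)) (hc : I * (E - 1) ≤ n) (hn : n * I = i * E)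
    (hi : 16 * i ≤ 45 * m ^ 2) (hI : (2 * κ - 1) * (κ - 1) ≤ I) : False := by
  obtain ⟨a, rfl⟩ := hE
  obtain ⟨b, rfl⟩ := hz
  obtain ⟨w, rfl⟩ : ∃ w, κ = w + 10 := ⟨κ - 10, by omega⟩
  rw [show 2 * (w + 10) - 1 = 2 * w + 19 by omega, show w + 10 - 1 = w + 9 by omega] at hI
  rw [Nat.add_sub_cancel] at hc
  have h3 : I * (2 * a) * I ≤ i * (2 * a + 1) := hn ▸ Nat.mul_le_mul_right _ hc
  have h6 : 16 * i * (2 * a + 1) ≤ 45 * m ^ 2 * (2 * a + 1) := Nat.mul_le_mul_right _ hi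
  by_cases e : a = 1
  · subst e
    have h1 : 2 * m ≤ (w + 10) * (w + 16) := by nlinarith
    have h2 : 37 * m + 1 ≤ 18 * I := by nlinarith
    have h4 := Nat.mul_le_mul h2 h2
    nlinarith
  · obtain ⟨f, rfl⟩ : ∃ f, a = f + 2 := ⟨a - 2, by omega⟩
    have h1 : m ≤ (w + 10) * (w + 8) := hm.trans (Nat.mul_le_mul_left _ (by omega))
    have h2 : 2 * m + 1 ≤ I := by nlinarith
    have h4 := Nat.mul_le_mul_right (f + 2) (Nat.mul_le_mul h2 h2)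
    nlinarith [Nat.zero_le (m * m * f), Nat.zero_le (m * f)]

theorem mI_le [Finite G] {t : G} {A : Set G} {a κ : ℕ}
    (h1 : ∀ s, Four t s → a ≤ {w | w ∈ A ∧ w ∈ 𝐂[s]}.ncard)
    (h2 : ∀ w ∈ A, {s | Four t s ∧ w ∈ 𝐂[s]}.ncard ≤ κ) : mI t * a ≤ A.ncard * κ := by
  classical
  have := Fintype.ofFinite G
  rw [mI, Set.ncard_eq_toFinset_card', Set.ncard_eq_toFinset_card']
  refine Finset.card_mul_le_card_mul (fun s w => w ∈ 𝐂[s]) (fun s hs => ?_) fun w hw => ?_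
  · refine (h1 s (by simpa using hs)).trans_eq ?_
    rw [Set.ncard_eq_toFinset_card']
    congr 1
    ext w
    simp [Finset.mem_bipartiteAbove]
  · refine le_of_eq_of_le ?_ (h2 w (by simpa using hw))
    rw [Set.ncard_eq_toFinset_card']
    congr 1
    ext s
    simp [Finset.mem_bipartiteBelow]

theorem ncard_diff [Finite G] {H K : Subgroup G} (h : H ≤ K) :
    ((K : Set G) \ H).ncard = Nat.card K - Nat.card H := by
  rw [Set.ncard_diff h, ← Nat.card_coe_set_eq, ← Nat.card_coe_set_eq]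
  rfl

theorem four_or {t g : G} (ht : orderOf t = 2) (hg : g ∈ 𝐂[t]) (h : g * g = 1) :
    g = 1 ∨ g = t ∨ Four t g := by
  by_cases h1 : g = 1
  · exact Or.inl h1
  by_cases h2 : g = t
  · exact Or.inr (Or.inl h2)
  exact Or.inr (Or.inr ⟨ht, inv_of_mul_self h h1, mem_cent1'.1 hg, Ne.symm h2⟩)

theorem four_conj {t s n : G} (h : Four t s) (hn : n ∈ 𝐂[t]) : Four t (n * s * n⁻¹) := by
  simpa only [conj_eq_of_mem_cent1 hn] using h.conj n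

theorem inv_comm {s x : G} (hs : s * s = 1) :
    s * (x * s * x⁻¹ * s⁻¹) * s⁻¹ = (x * s * x⁻¹ * s⁻¹)⁻¹ := by
  have hi : s⁻¹ = s := inv_eq_of_mul_eq_one_right hs
  rw [hi]
  calc _ = s * x * s * x⁻¹ * (s * s) := by group
    _ = _ := by rw [hs]; simp [hi, mul_assoc]

theorem comm_mem {s x : G} {H : Subgroup G} (hs : s ∈ 𝐍(H)) (hx : x ∈ H) :
    x * s * x⁻¹ * s⁻¹ ∈ H := by
  have := mul_mem hx ((mem_normalizer_iff.1 hs _).1 (inv_mem hx))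
  simpa only [mul_assoc] using this

variable [Finite G]

namespace Tor

variable {M L : Subgroup G} {t s k g : G} (h : Tor M L t k)
include h

omit [Finite G] in
theorem k_le : zpowers k ≤ L ⊓ 𝐂[t] := zpowers_le.2 ⟨h.kL, h.kt⟩

omit [Finite G] in
theorem inverts (hs : s ∈ M) (h4 : Four t s) : Inverts s (zpowers k) :=
  inverts_zpowers (h.inv s hs h4)

omit [Finite G] in
theorem mem_of_odd (hg : g ∈ L) (hg' : g ∈ 𝐂[t]) (ho : Odd (orderOf g)) : g ∈ zpowers k := by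
  by_cases e : g * g = 1
  · rw [eq_one_of_odd_of_mul_self ho e]; exact one_mem _
  · exact h.mem g hg hg' e

omit [Finite G] in
theorem mem' (ht : orderOf t = 2) (hg : g ∈ L) (hg' : g ∈ 𝐂[t]) (h4 : ¬ Four t g) :
    g ∈ zpowers k := by
  by_cases e : g * g = 1
  · rcases four_or ht hg' e with rfl | rfl | e
    exacts [one_mem _, h.tk, absurd e h4]
  · exact h.mem g hg hg' e

theorem notMem (h4 : Four t s) : s ∉ zpowers k := fun e =>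
  (uniq_zpowers e h.tk h4.ot h4.ss).elim h4.s1 h4.ne.symm

omit [Finite G] in
theorem two_dvd (ht : orderOf t = 2) : 2 ∣ orderOf k := ht ▸ orderOf_dvd_of_mem_zpowers h.tk

theorem two_mul_le (ht : orderOf t = 2) {z : ℕ} (hz : Odd z) (hd : z ∣ orderOf k) :
    2 * z ≤ orderOf k :=
  Nat.le_of_dvd (orderOf_pos k) ((Nat.coprime_two_left.2 hz).mul_dvd_of_dvd_of_dvd (h.two_dvd ht) hd)

theorem index_ge : (2 * orderOf k - 1) * (orderOf k - 1) ≤ (𝐂[t]).relIndex L := by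
  obtain ⟨ε, hε, e⟩ := h.index
  have hz : 0 < orderOf k := orderOf_pos k
  have h1 : 1 ≤ 2 * orderOf k := by omega
  zify [h1, hz]
  rw [e]
  rcases hε with rfl | rfl
  · nlinarith
  · exact le_of_eq (by ring)

omit [Finite G] in
theorem coprime_index : ((𝐂[t]).relIndex L).Coprime (orderOf k) := by
  obtain ⟨ε, hε, e⟩ := h.index
  rw [← Nat.isCoprime_iff_coprime, e]
  refine ⟨1, -(2 * orderOf k + 3 * ε), ?_⟩
  rcases hε with rfl | rfl <;> ring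

theorem ncard_le : {s | s ∈ L ∧ Four t s}.ncard ≤ orderOf k := by
  refine (Set.ncard_le_ncard (t := ((L ⊓ 𝐂[t] : Subgroup G) : Set G) \ zpowers k)
    fun s hs => ⟨⟨hs.1, hs.2.s_cent⟩, h.notMem hs.2⟩).trans ?_
  rw [ncard_diff h.k_le, h.card, Nat.card_zpowers]
  omega

/-- An element of odd prime order `r ∣ κ` of `L` is conjugate in `L` to an element of `⟨k⟩`. -/
theorem exists_conj_mem {r : ℕ} (hr : r.Prime) (hr2 : r ≠ 2) (hd : r ∣ orderOf k)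
    (hg : g ∈ L) (ho : orderOf g = r) : ∃ l ∈ L, l * g * l⁻¹ ∈ zpowers k := by
  haveI := Fact.mk hr
  obtain ⟨S, hS⟩ := IsSylowIn.exists_in (p := r) (𝐂[t] ⊓ L)
  have hS' : IsSylowIn r S L := by
    refine ⟨hS.le.trans inf_le_right, hS.isPGroup, ?_⟩
    rw [← relIndex_mul_relIndex S (𝐂[t] ⊓ L) L hS.le inf_le_right, inf_relIndex_right]
    intro hdd
    rcases (Nat.Prime.dvd_mul hr).1 hdd with h1 | h1
    · exact hS.not_dvd h1
    · exact hr.one_lt.ne' (Nat.eq_one_of_dvd_coprimes h.coprime_index h1 hd)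
  obtain ⟨l, hl, hle⟩ := hS'.exists_conj_le (Q := zpowers g)
    (isPGroup_of_card_eq (by rw [Nat.card_zpowers, ho])) (zpowers_le.2 hg)
  have hm := hS.le (hle (conj_mem_map_conj (mem_zpowers g)))
  refine ⟨l, hl, h.mem_of_odd hm.2 hm.1 ?_⟩
  rw [orderOf_conj, ho]
  exact hr.odd_of_ne_two hr2

end Tor

namespace ED

variable {X L : Subgroup G} {t s k : G} (h : ED X L t s k)
include h

omit [Finite G] in
theorem V_le_L : V t s ≤ L := V_le h.tmem h.smem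

omit [Finite G] in
theorem L_le : L ≤ 𝐍(X) := h.te.le

omit [Finite G] in
theorem inverts : Inverts s (zpowers k) := h.tor.inverts (h.L_le h.smem) h.four

theorem mem_k {i : G} (hi : i ∈ Ut t) (hn : i ∈ 𝐍(X)) (e : s * i * s⁻¹ = i⁻¹) : i ∈ zpowers k :=
  h.tor.mem_of_odd (mem_of_inverted (odd_of_mem_Ut hi) e h.smem (h.te.norm hn)) (Ut_le t hi)
    (odd_of_mem_Ut hi)

theorem mem_c {x c : G} (hx : x ∈ Ut t) (hc : c ∈ Ut t) (hxn : x ∈ 𝐍(X))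
    (hcn : c ∈ 𝐍(X)) (ex : s * x * s⁻¹ = x⁻¹) (ec : s * c * s⁻¹ = c⁻¹) (ho : x ^ orderOf c = 1) :
    x ∈ zpowers c :=
  Frob.mem_zpowers_of_isCyclic (h.mem_k hc hcn ec) (h.mem_k hx hxn ex) ho

theorem not_le_norm (hG : Simp G) (hmax : IsCoatom 𝐂[t]) (h0 : X ≠ ⊥) (hX : X ≤ 𝐂[t]) :
    ¬ 𝐂[t] ≤ 𝐍(X) := fun hle =>
  h.te.not_le_cent hG.dih h.four.ot (h.L_le.trans (hG.norm_eq hmax h0 hX hle).le)

/-- `n I = i E`. -/
theorem index_eq (hG : Dih G) :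
    (𝐍(X)).index * (𝐂[t]).relIndex L = (𝐂[t]).index * (𝐍(X)).relIndex 𝐂[t] := by
  rw [← h.te.relIndex_cent hG h.four.ot h.tmem, index_mul_relIndex_comm]

theorem relIndex_s_le : (𝐂[s]).relIndex 𝐂[t] ≤ (𝐍(X)).relIndex 𝐂[t] * orderOf k := by
  have h1 := relIndex_inf_mul_relIndex (𝐂[s]) 𝐍(X) 𝐂[t]
  refine (Nat.le_of_dvd (Nat.pos_of_ne_zero (H1.relIndex_ne_zero' _ _))
    (relIndex_dvd_of_le_left _ (inf_le_left (b := 𝐍(X))))).trans ?_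
  rw [← h1, mul_comm, ← Frob.ncard_conj_subgroup]
  refine Nat.mul_le_mul_left _ ((Set.ncard_le_ncard ?_).trans h.tor.ncard_le)
  rintro _ ⟨g, hg, rfl⟩
  exact ⟨conj_mem_of_mem_normalizer (h.te.norm hg.1) h.smem, four_conj h.four hg.2⟩

theorem core (hpair : ∀ u ∈ 𝐂[t], u ∉ 𝐍(X) → ∃ c ∈ zpowers k, c * c ≠ 1 ∧
    𝐂(X) ⊓ 𝐂(u •ᶜ X) ≤ 𝐂[c]) :
    (𝐂[t]).relIndex L * ((𝐍(X)).relIndex 𝐂[t] - 1) ≤ (𝐍(X)).index := by
  classical
  have h4 := h.four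
  have key : ∀ u ∈ 𝐂[t], u ∉ 𝐍(X) → ∀ v ∈ L, orderOf v = 2 → v ∈ 𝐂(u •ᶜ X) → v = t := by
    intro u hu huM v hv ho h2
    by_contra hne
    obtain ⟨c, hc, hc1, hle⟩ := hpair u hu huM
    have h3 := hle ⟨h.cent hv, h2⟩
    have h5 := h.tor.inverts (h.L_le hv)
      ⟨h4.ot, ho, mem_cent1'.1 (h.tor.cent c hc hc1 ⟨hv, h3⟩), Ne.symm hne⟩ c hc
    rw [conj_eq_of_mem_cent1 h3] at h5
    exact hc1 (by nth_rewrite 1 [h5]; exact inv_mul_cancel c)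
  let A := L ⧸ (𝐂[t]).subgroupOf L
  let B := 𝐂[t] ⧸ (𝐍(X)).subgroupOf 𝐂[t]
  let f : A × {b : B // b ≠ ((1 : 𝐂[t]) : B)} → G ⧸ 𝐍(X) :=
    fun q => (((q.1.out : L) : G) * ((q.2.1.out : 𝐂[t]) : G) : G)
  have hout : ∀ b : B, b ≠ ((1 : 𝐂[t]) : B) → ((b.out : 𝐂[t]) : G) ∉ 𝐍(X) := by
    intro b hb hm
    refine hb ?_
    rw [← QuotientGroup.out_eq' b, QuotientGroup.eq, mem_subgroupOf]
    simpa using hm
  have hf : Function.Injective f := by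
    rintro ⟨a, b, hb⟩ ⟨a', b', hb'⟩ e
    simp only [f] at e
    rw [QuotientGroup.eq] at e
    set l := ((a.out : L) : G)
    set l' := ((a'.out : L) : G)
    set u := ((b.out : 𝐂[t]) : G)
    set u' := ((b'.out : 𝐂[t]) : G)
    have hl : l ∈ L := a.out.2
    have hl' : l' ∈ L := a'.out.2
    have hu : u ∈ 𝐂[t] := b.out.2
    have hu' : u' ∈ 𝐂[t] := b'.out.2
    have ht : t ∈ 𝐂(X) := h.cent h.tmem
    have h1 : l⁻¹ * l' * t * (l⁻¹ * l')⁻¹ = t := by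
      refine key u hu (hout b hb) _ (mul_mem (mul_mem (mul_mem (inv_mem hl) hl') h.tmem)
          (inv_mem (mul_mem (inv_mem hl) hl'))) (by rw [orderOf_conj, h4.ot]) ?_
      have e1 : u •ᶜ X = (l⁻¹ * l') •ᶜ (u' •ᶜ X) := by
        rw [← GW.conj_mul]
        conv_lhs => rw [← conj_norm e, ← GW.conj_mul]
        congr 3
        group
      rw [e1, cent_conj]
      refine conj_mem_map_conj ?_
      rw [cent_conj, ← conj_eq_of_mem_cent1 hu']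
      exact conj_mem_map_conj ht
    have h2 : a = a' := by
      rw [← QuotientGroup.out_eq' a, ← QuotientGroup.out_eq' a', QuotientGroup.eq,
        mem_subgroupOf]
      exact mem_cent1_of_conj_eq h1
    subst h2
    have h3 : b = b' := by
      rw [← QuotientGroup.out_eq' b, ← QuotientGroup.out_eq' b', QuotientGroup.eq,
        mem_subgroupOf]
      have : (l * u)⁻¹ * (l * u') = u⁻¹ * u' := by group
      rw [this] at e
      exact e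
    subst h3
    rfl
  have := Nat.card_le_card_of_injective f hf
  rw [Nat.card_prod] at this
  have h2 : Nat.card {b : B // b ≠ ((1 : 𝐂[t]) : B)} = Nat.card B - 1 := by
    haveI := Fintype.ofFinite B
    simp
  rw [h2] at this
  exact this

theorem count1 (hG : Simp G) (hκ : 6 ≤ orderOf k) (hE : ¬ 𝐂[t] ≤ 𝐍(X))
    (h8 : 8 ∣ Nat.card ↥(𝐍(X) ⊓ 𝐂[t])) (hm : 2 * mI t ≤ orderOf k * (orderOf k + 2))
    (hpair : ∀ u ∈ 𝐂[t], u ∉ 𝐍(X) → ∃ c ∈ zpowers k, c * c ≠ 1 ∧ 𝐂(X) ⊓ 𝐂(u •ᶜ X) ≤ 𝐂[c]) :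
    False := by
  have h1 : (𝐍(X)).relIndex 𝐂[t] ≠ 1 := fun e => hE (relIndex_eq_one.1 e)
  have h0 := H1.relIndex_ne_zero' 𝐍(X) 𝐂[t]
  refine arith1 hκ (by omega) hm (h.core hpair) (h.index_eq hG.dih) (hG.index_le h.four.ot)
    (fun e => hG.index_le' h.four.ot (Dvd.dvd.trans ?_ (card_subgroup_dvd_card 𝐂[t])))
    h.tor.index_ge
  rw [← card_inf_mul_relIndex 𝐍(X), e]
  exact mul_dvd_mul_right h8 2

theorem count2 (hG : Simp G) {z : ℕ} (hz : Odd z) (hd : z ∣ orderOf k) (hE : ¬ 𝐂[t] ≤ 𝐍(X))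
    (ho : Odd ((𝐍(X)).relIndex 𝐂[t])) (hlt : (𝐍(X)).relIndex 𝐂[t] < z)
    (hm : mI t ≤ orderOf k * ((𝐍(X)).relIndex 𝐂[t] + z))
    (hpair : ∀ u ∈ 𝐂[t], u ∉ 𝐍(X) → ∃ c ∈ zpowers k, c * c ≠ 1 ∧ 𝐂(X) ⊓ 𝐂(u •ᶜ X) ≤ 𝐂[c]) :
    False :=
  arith2 ho hz (fun e => hE (relIndex_eq_one.1 e)) hlt (h.tor.two_mul_le h.four.ot hz hd) hm
    (h.core hpair) (h.index_eq hG.dih) (hG.index_le h.four.ot) h.tor.index_ge

end ED

theorem ED.not_inv {L : Subgroup G} {t s k y : G} (h : ED (zpowers y) L t s k)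
    (ho : Odd (orderOf y)) (h1 : y ≠ 1) {g : G} (hg : g ∈ Ut t) :
    s * (g * y * g⁻¹) * s⁻¹ ≠ (g * y * g⁻¹)⁻¹ := by
  intro e
  have h2 : g⁻¹ * s * g⁻¹⁻¹ * y * (g⁻¹ * s * g⁻¹⁻¹)⁻¹ = y⁻¹ := by
    rw [show g⁻¹ * s * g⁻¹⁻¹ * y * (g⁻¹ * s * g⁻¹⁻¹)⁻¹ = g⁻¹ * (s * (g * y * g⁻¹) * s⁻¹) * g by
      group, e]
    group
  have h3 := h.tor.k_le (h.mem_k (comm_mem (cent_le_norm_Ut t h.four.s_cent) (inv_mem hg))
    (mul_mem (inverts_zpowers h2).mem_norm (inv_mem (h.L_le h.smem))) (inv_comm h.four.ss))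
  exact h1 (eq_one_of_inv_of_comm ho h2 (mem_cent.1 (h.cent
    (by simpa using mul_mem h3.1 h.smem)) y (mem_zpowers y)))

/-- The last configuration of the local analysis: `W = ⟨x, y⟩` is extraspecial of order `p ^ 3`
with centre `⟨c⟩` and normal in `C(t)`. -/
structure Mixed (L : Subgroup G) (t s k x y c : G) (p : ℕ) : Prop where
  ed : ED (zpowers y) L t s k
  prime : p.Prime
  xU : x ∈ Ut t
  yU : y ∈ Ut t
  ox : orderOf x = p
  oy : orderOf y = p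
  oc : orderOf c = p
  rel : x * y * x⁻¹ = y * c
  sx : s * x * s⁻¹ = x⁻¹
  cmem : c ∈ zpowers k
  kcent : Ut t ≤ 𝐂[k]
  normk : ∀ g ∈ zpowers k, g ≠ 1 → 𝐍(zpowers g) ≤ 𝐂[t]
  split : ∀ g ∈ 𝐂[y], ∃ a ∈ zpowers y, ∃ l ∈ L, g = a * l
  pm : ∀ g ∈ 𝐍(zpowers y), g * y * g⁻¹ = y ∨ g * y * g⁻¹ = y⁻¹
  der : ∀ a ∈ Ut t, ∀ b ∈ Ut t, orderOf a = p → orderOf b = p → ⁅a, b⁆ ∈ zpowers c
  lt : ∀ q : ℕ, q.Prime → q ∣ Nat.card (Ut t) → ¬ q ∣ orderOf k → q < p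
  wnorm : 𝐂[t] ≤ 𝐍(zpowers x ⊔ zpowers y)
  wcent : ∀ a ∈ Ut t, a ≠ 1 → (orderOf a).Coprime (orderOf k) →
    (zpowers x ⊔ zpowers y) ⊓ 𝐂[a] ≤ zpowers c
  mle : mI t ≤ p * (p + 1) * orderOf k
  three : p = 3 → ∀ s', Four t s' → Nat.card ↥(Ut t ⊓ 𝐂[s']) = 3

end CfsgLib.GD
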