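import Cfsg.Agent.Lib.GW.LocalE2
import Cfsg.Agent.Lib.GW.LocalD2
import Cfsg.Agent.Lib.GW.Four
import Cfsg.Agent.Lib.SW.Dih

/-!
# Groups with dihedral Sylow `2`-subgroups: definitions
-/

set_option autoImplicit false

namespace CfsgLib.GD

open Subgroup Cfsg CfsgLib.FT.BGN CfsgLib.FT.U4 CfsgLib.GW
open scoped commutatorElement

universe u

variable {G : Type*} [Group G]

/-- The `2`-subgroups are cyclic or dihedral (four-groups included). -/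
def Dih (G : Type*) [Group G] : Prop :=
  ∀ T : Subgroup G, IsPGroup 2 T → ∃ x ∈ T, ∀ y ∈ T, y ∉ zpowers x →
    y * y = 1 ∧ y * x * y⁻¹ = x⁻¹ ∧ ∀ y' ∈ T, y' ∉ zpowers x → y * y' ∈ zpowers x

/-- `S = ⟨x, y⟩` is a dihedral Sylow `2`-subgroup of `L` of order at least `8` with central
involution `t`. -/
structure DF (L S : Subgroup G) (x y t : G) : Prop extends SW.Fr L S x y t where
  ot : orderOf t = 2

/-- The number of involutions `≠ t` commuting with `t`. -/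
noncomputable def mI (t : G) : ℕ := {a | Four t a}.ncard

/-- `L ≅ PSL₂(q)` seen from the involution `t`: `C_L(t)` is dihedral of order `2 κ` with cyclic
subgroup `⟨k⟩` of order `κ`, `q = 2 κ + ε`. -/
structure Tor (M L : Subgroup G) (t k : G) : Prop where
  kL : k ∈ L
  kt : k ∈ 𝐂[t]
  tk : t ∈ zpowers k
  mem : ∀ x ∈ L, x ∈ 𝐂[t] → x * x ≠ 1 → x ∈ zpowers k
  inv : ∀ s ∈ M, Four t s → s * k * s⁻¹ = k⁻¹
  cent : ∀ x ∈ zpowers k, x * x ≠ 1 → L ⊓ 𝐂[x] ≤ 𝐂[t]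
  card : Nat.card ↥(L ⊓ 𝐂[t]) = 2 * orderOf k
  index : ∃ ε : ℤ, (ε = 1 ∨ ε = -1) ∧
    ((𝐂[t]).relIndex L : ℤ) = (2 * orderOf k + ε) * (orderOf k + ε)
  rad : ∃ R ≤ L, Inverts t R ∧ k ∈ 𝐍(R) ∧
    (R = ⊥ ∨ (Nat.card R = 2 * orderOf k + 1 ∧ ∃ q : ℕ, q.Prime ∧ IsPGroup q R)) ∧
    (∀ g ∈ R, g ≠ 1 → L ⊓ 𝐂[g] = R) ∧
    ∀ s ∈ L, Four t s → ∀ c ∈ zpowers k, c ≠ 1 → Odd (orderOf c) → ∀ (l : ℕ) (T : Subgroup G),
      l.Prime → l ≠ 2 → T ≤ L → IsPGroup l T → c ∈ 𝐍(T) → T ⊓ 𝐂[c] = ⊥ → T ≤ R ∨ T ≤ s •ᶜ R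

/-- `PSL₂(q) ≅ L ⊴ G ≤ PΓL₂(q)`, all involutions of `G` lying in `PGL₂(q)`. -/
structure Lin (L : Subgroup G) : Prop where
  inner : ∀ t ∈ L, orderOf t = 2 → ∃ k, Tor ⊤ L t k
  outer : ∀ a, a ∉ L → orderOf a = 2 → (∃ z ∈ L ⊓ 𝐂[a], z ≠ 1 ∧ Odd (orderOf z)) ∧
    ∀ z ∈ L ⊓ 𝐂[a], z ≠ 1 → Odd (orderOf z) →
      L ⊓ 𝐂[z] ≤ 𝐂[a] ∧ ∀ s ∈ L, Four a s → s * z * s⁻¹ = z⁻¹
  odd : ∀ s g : G, orderOf s = 2 → Odd (orderOf g) → s * g * s⁻¹ = g⁻¹ → g ∈ L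

/-- The properties of `A₇` that are used. -/
structure A7 (L : Subgroup G) : Prop where
  card : Nat.card L = 2520
  cent : ∀ t ∈ L, orderOf t = 2 → Nat.card ↥(L ⊓ 𝐂[t]) = 24 ∧ ∃ u, orderOf u = 3 ∧
    (∀ w, w ∈ zpowers u ↔ w ∈ L ∧ w ∈ 𝐂[t] ∧ Odd (orderOf w)) ∧
    (∃ s ∈ L, Four t s ∧ u ∈ 𝐂[s]) ∧ ∃ s ∈ L, Four t s ∧ s * u * s⁻¹ = u⁻¹

/-- The conclusion of the theorem. -/
def Known (G : Type*) [Group G] : Prop :=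
  (∃ (F : Type) (_ : Field F) (_ : Fintype F), 5 ≤ Fintype.card F ∧ Odd (Fintype.card F) ∧
    Nonempty (G ≃* Matrix.ProjectiveSpecialLinearGroup (Fin 2) F)) ∨ A7 (⊤ : Subgroup G)

/-- A simple group with dihedral Sylow `2`-subgroups of order at least `8`. -/
structure Simp (G : Type*) [Group G] : Prop where
  simple : IsSimpleGroup G
  dih : Dih G
  eight : 8 ∣ Nat.card G
  one : OneCl (⊤ : Subgroup G)

/-- A minimal situation: all smaller simple groups of the same kind are known. -/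
structure Hyp (G : Type u) [Group G] : Prop extends Simp G where
  ih : ∀ (X : Type u) [Group X] [Finite X], Nat.card X < Nat.card G → IsSimpleGroup X →
    ¬ IsMulCommutative X → Dih X → Known X

/-- `M` has a component `L`. -/
structure TE (M L : Subgroup G) : Prop where
  le : L ≤ M
  norm : M ≤ 𝐍(L)
  cent : L ≤ 𝐂(Od M)
  perf : ⁅L, L⁆ = L
  ne : L ≠ ⊥

/-- The component `L` of `M` is linear. -/
structure TL (M L : Subgroup G) : Prop extends TE M L where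
  inv : ∀ t ∈ L, ∀ s ∈ M, Four t s → ∀ g ∈ L ⊓ 𝐂[t], Odd (orderOf g) → s * g * s⁻¹ * g ∈ Od M
  odd : ∀ s ∈ M, orderOf s = 2 → ∀ g ∈ M, Odd (orderOf g) → s * g * s⁻¹ = g⁻¹ → g ∈ L ⊔ Od M
  idx : ∀ t ∈ L, orderOf t = 2 → ∃ (κ : ℕ) (ε : ℤ), (ε = 1 ∨ ε = -1) ∧
    Nat.card ↥(L ⊓ 𝐂[t]) = 2 * κ * Nat.card ↥(L ⊓ Od M) ∧
    ((𝐂[t]).relIndex L : ℤ) = (2 * κ + ε) * (κ + ε)
  zb : ∀ t ∈ L, ∀ s ∈ L, Four t s → ∀ r : ℕ, r.Prime → r ≠ 2 → ∀ x ∈ L ⊓ 𝐂[t], x ≠ 1 →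
    IsPGroup r (zpowers x) → s * x * s⁻¹ = x⁻¹ → ¬ r ∣ Nat.card ↥(L ⊓ Od M)
  out : ∀ t ∈ L, ∀ s ∈ M, s ∉ L → Four t s → ∀ p : ℕ, p.Prime → p ≠ 2 → ∀ i ∈ L ⊓ 𝐂[s],
    IsPGroup p (zpowers i) → i ∉ Od M → ∀ j ∈ M ⊓ 𝐂[t], IsPGroup p (zpowers j) →
    s * j * s⁻¹ = j⁻¹ → j ∈ Od M
  tor : L ⊓ Od M = ⊥ → ∀ t ∈ L, orderOf t = 2 → ∃ k, Tor M L t k

/-- The component `L` of `M` is of type `A₇`. -/
structure TA (M L : Subgroup G) : Prop extends TE M L where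
  inv_mem : ∀ u ∈ M, orderOf u = 2 → u ∈ L
  card : Nat.card L = 2520 * Nat.card ↥(L ⊓ Od M)
  not16 : ¬ 16 ∣ Nat.card M
  fix : ∀ t ∈ L, orderOf t = 2 → ∃ s ∈ L, Four t s ∧
    ∀ w ∈ L ⊓ 𝐂[t], Odd (orderOf w) → w ∈ 𝐂[s]

/-- `C_M(F(M)) ≤ F(M)`. -/
def FitC (M : Subgroup G) : Prop := M ⊓ 𝐂(fittingOf M) ≤ fittingOf M

/-- The normalizer of `X` has a simple linear component `L ∋ t, s` centralizing `X`. -/
structure ED (X L : Subgroup G) (t s k : G) : Prop where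
  four : Four t s
  te : TE 𝐍(X) L
  cent : L ≤ 𝐂(X)
  tmem : t ∈ L
  smem : s ∈ L
  tor : Tor 𝐍(X) L t k

end CfsgLib.GD
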