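import Cfsg.Agent.Lib.GD.T5

/-!
# If `C(t)` is a maximal subgroup then the involutions of `C(t)` other than `t` invert `O(C(t))`
-/

set_option autoImplicit false

namespace CfsgLib.GD

open Subgroup Cfsg CfsgLib.FT.BGN CfsgLib.FT.U4 CfsgLib.GW
open scoped commutatorElement

universe u

variable {G : Type u} [Group G] [Finite G]

theorem inverts_Ut (hG : Hyp G) {t s : G} (h : Four t s) (hmax : IsCoatom 𝐂[t]) :
    A7 (⊤ : Subgroup G) ∨ Inverts s (Ut t) := by
  have h0 : Cx t := ⟨hG, h.ot, hmax⟩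
  refine Or.inr (h0.inverts_of_nt (fun s hs => (h0.nt_or hs).resolve_right ?_) h)
  rintro ⟨p, _, h3⟩
  obtain ⟨S, x, hS⟩ := h0.simp.exists_frame hs
  rcases h0.nt_or hS.four' with h' | ⟨q, _, h'⟩
  · exact h3.caseA hS h'
  by_cases hq : pCoreOf q (Ut t) ⊓ 𝐂[s] = ⊥
  · have hqp : q ≠ p := by
      rintro rfl
      exact h3.A hq
    obtain ⟨L, k, hE⟩ := h3.exists_ed h3.A le_rfl
    exact h'.not_cyclic (isCyclic_of_le' (C := zpowers k) inferInstance fun g hg =>
      hE.mem_k (pc_le_U q t hg) (cent_le_norm _ (centralizer_le inf_le_left (LD.pc_le_cent hqp _ hg)))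
        (inverts_of_inf_cent hs.ss (odd_pc q t) (cent_le_norm_pc t q hs.s_cent) hq g hg))
  refine TB.false (p := q) ⟨h0, fun a ha => ?_⟩
  obtain ⟨n, hn, rfl | rfl⟩ := hS.exists_conj_cases le_top ha
  exacts [(h3.of_ne_bot hq).conj hn, h'.conj hn]

end CfsgLib.GD
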