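import Cfsg.Agent.Lib.GD.NumA

/-!
# The order formulas

`N = C(t) = U S`, `i = |L : N|`, `m = mI t = m_y + m_{xy}`, `m_s = |N : C_N(s)|`.
`DF.num` is `SW.MC.num` for a group `L ≥ N` with one class of involutions; `α|_S - 1` vanishes
off `1`, so `|S| ∣ a - 1`.  `a ≠ 1` as `m > 0`, and `2 a (a + 1) / (a - 1)²` lies in
`[21/16, 45/16]` for `a ≡ 1 (mod 8)`, and is `≤ 153/64` for `a ≡ 1 (mod 16)`.

(C2) `α = ±χ` is real (`Th l = 1 + α + β + γ` is real, `conj (Th μ) = Th μ̄`, `ε ⊥ α, β, γ`),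
faithful, and `α (u w) = 1` for `u ≠ 1` a `2`-element, `w ∈ C(u)` of odd order (`proj0_mul`,
`Fr.val`).  So on `T × ⟨v⟩` the function `α - 1` vanishes off `⟨v⟩`, and the multiplicity in
`α|_⟨v⟩` of a linear `λ ≠ 1` is divisible by `|T|`; `λ` and `λ̄ ≠ λ` both occur.

(R) If `B(xy) < B(y)`, `m_{xy} = w m_y` with `w ≥ 3` odd; `SW.dih_arith` gives `(w, a) = (3, -15)`
or `(5, -7)`.  (C2) with `T = ⟨t, y⟩` kills the second case; in the first, (C2) with `T = S` gives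
`B(xy) = 1`, and `i = 105 m_y² / 4` is odd, so `|S| = 8`.

(Z1) If `1 ≠ U ≤ C(y)`: when also `U ≤ C(xy)`, `N(U)` contains `N` and the normalizers of both
four-groups (`U = B`, `Dih.norm_le_norm_B`), so has one class of involutions (`not_oneCl`).
Otherwise (R) gives `|U| = 3`, `i = 105`, `|G| = 2520`.
-/

set_option autoImplicit false

namespace CfsgLib.GD

open Subgroup Cfsg CfsgLib.FT.BGN CfsgLib.FT.U4 CfsgLib.GW

theorem num_le {i m a c d : ℤ} (h : i * (a - 1) ^ 2 = 2 * m ^ 2 * a * (a + 1)) (a1 : a ≠ 1)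
    (hc : c * (2 * a * (a + 1)) ≤ d * (a - 1) ^ 2) : c * i ≤ d * m ^ 2 := by
  refine le_of_mul_le_mul_right ?_ (show 0 < (a - 1) ^ 2 by
    have := sub_ne_zero.2 a1
    positivity)
  have := mul_le_mul_of_nonneg_left hc (sq_nonneg m)
  rw [mul_assoc, h]
  linarith

theorem le_num {i m a : ℤ} (h : i * (a - 1) ^ 2 = 2 * m ^ 2 * a * (a + 1)) (a1 : a ≠ 1)
    (h8 : 8 ∣ a - 1) : 21 * m ^ 2 ≤ 16 * i := by
  have := num_le (c := -16) (d := -21) h a1 (by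
    rcases (by omega : 9 ≤ a ∨ a ≤ -7) with e | e <;> nlinarith)
  linarith

variable {G : Type*} [Group G] [Finite G] {t s : G}

namespace DF

variable {L S : Subgroup G} {x y : G} (h : DF L S x y t)
include h

theorem eight_dvd : (8 : ℤ) ∣ Nat.card S := by
  obtain ⟨n, hn⟩ := h.four_dvd
  exact ⟨n, by rw [h.card_S', hn]; push_cast; ring⟩

theorem mI_ne (hL : 𝐂[t] ≤ L) : mI t ≠ 0 := by
  have := H1.relIndex_ne_zero' 𝐂[y] 𝐂[t]
  rw [h.mI_eq hL]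
  omega

theorem ne_one (hL : 𝐂[t] ≤ L) {i a : ℤ} (e : i * (a - 1) ^ 2 = 2 * (mI t : ℤ) ^ 2 * a * (a + 1)) :
    a ≠ 1 := by
  rintro rfl
  exact h.mI_ne hL (by simpa using e)

theorem card_dvd [Fintype G] {α : G → ℂ} (hα : FT.IsDirr L α) {a : ℤ} (ha : α 1 = a)
    (h1 : ∀ g ∈ L, ¬ Odd (orderOf g) → α g = 1) : (Nat.card S : ℤ) ∣ a - 1 := by
  obtain ⟨n, hn⟩ := dvd_of_vanish (bot_le : ⊥ ≤ S)
    (sub_mem (FT.ZIrr_cfRes h.syl.le hα.mem_ZIrr) FT.cf1_mem_ZIrr) FT.cf1_mem_ZIrr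
    fun g hg hg1 => by
      rw [Pi.sub_apply, FT.cfRes_apply hg, FT.cf1_apply hg, h1 g (h.syl.le hg) fun e =>
        e.not_two_dvd_nat (two_dvd_orderOf_of_mem h.syl.isPGroup hg hg1), sub_self]
  rw [relIndex_bot_left, FT.cfdot, show FT.elems ((⊥ : Subgroup G) : Set G) = {1} by
    ext g; simp [FT.mem_elems], Finset.sum_singleton, Pi.sub_apply, FT.cfRes_one, FT.cf1_one,
    ha] at hn
  exact ⟨n, by exact_mod_cast (by simpa using hn : (a : ℂ) - 1 = Nat.card S * n)⟩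

theorem oneCl {H : Subgroup G} (hH : S ≤ H) (hL : H ≤ L)
    (h1 : ∀ s ∈ S, Four t s → ∃ g ∈ H, g * t * g⁻¹ = s) : OneCl H := by
  have key : ∀ u ∈ H, orderOf u = 2 → ∃ g ∈ H, g * t * g⁻¹ = u := fun u hu h2 => by
    obtain ⟨c, hc, h3⟩ := (h.syl.mono hH hL).exists_conj_le (isPGroup_zpowers_inv h2)
      (zpowers_le.2 hu)
    have h5 := h3 (conj_mem_map_conj (mem_zpowers u))
    obtain ⟨g, hg, e⟩ : ∃ g ∈ H, g * t * g⁻¹ = c * u * c⁻¹ := by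
      by_cases e : t = c * u * c⁻¹
      · exact ⟨1, one_mem _, by simpa using e⟩
      · exact h1 _ h5 ⟨h.ot, by rw [orderOf_conj, h2], mem_cent1'.1 (h.S_le h5), e⟩
    exact ⟨c⁻¹ * g, mul_mem (inv_mem hc) hg, by
      rw [show c⁻¹ * g * t * (c⁻¹ * g)⁻¹ = c⁻¹ * (g * t * g⁻¹) * c by group, e]; group⟩
  intro u hu v hv h2 h3
  obtain ⟨a, ha, rfl⟩ := key u hu h2
  obtain ⟨b, hb, rfl⟩ := key v hv h3
  exact ⟨b * a⁻¹, mul_mem hb (inv_mem ha), by group⟩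

end DF

theorem DF.num {L S : Subgroup G} {x y : G} (h : DF L S x y t) (hL : 𝐂[t] ≤ L) (h1 : OneCl L) :
    ∃ a : ℤ, (Nat.card S : ℤ) ∣ a - 1 ∧ a ≠ 1 ∧
      (𝐂[t]).relIndex L * (a - 1) ^ 2 = 2 * (mI t : ℤ) ^ 2 * a * (a + 1) := by
  have := Fintype.ofFinite G
  obtain ⟨α, a, -, -, h2, -, h3, -, h4, -, -, -, h5, -⟩ := h.core hL h1
  exact ⟨a, h.card_dvd h2 h3 h4, h.ne_one hL h5, h5⟩

namespace Simp

variable (hG : Simp G)
include hG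

/-- The order formula together with (C2). -/
theorem num {S : Subgroup G} {x y : G} (h : DF ⊤ S x y t) :
    ∃ a b c : ℤ, (Nat.card S : ℤ) ∣ a - 1 ∧ a ≠ 1 ∧ b % 4 = 1 ∧ c % 4 = 1 ∧ b + c = a + 1 ∧
      (𝐂[t]).index * (a - 1) ^ 2 = 2 * (mI t : ℤ) ^ 2 * a * (a + 1) ∧
      (𝐂[t]).index * (a + 1) * (b - 1) * (c - 1) =
        8 * (𝐂[y]).relIndex 𝐂[t] * (𝐂[x * y]).relIndex 𝐂[t] * a * b * c ∧
      ∀ T : Subgroup G, IsPGroup 2 T → ∀ v ∈ 𝐂(T), v ≠ 1 → Odd (orderOf v) →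
        2 * (Nat.card T : ℤ) ≤ |a| := by
  have := Fintype.ofFinite G
  obtain ⟨α, a, b, c, h2, h0, h3, hr, h4, hb, hc, e, h5, -, h6⟩ := h.core le_top hG.one
  rw [relIndex_top_right] at h5 h6
  refine ⟨a, b, c, h.card_dvd h2 h3 h4, h.ne_one le_top h5, hb, hc, e, h5, h6,
    fun T hT v hv v1 ho => ?_⟩
  obtain ⟨ε, χ, hε, hχ, rfl⟩ := h2.exists_sign
  have e1 : (ε : ℂ) * ε = 1 := by rcases hε with rfl | rfl <;> simp
  have e0 : (ε : ℂ) ≠ 0 := left_ne_zero_of_mul_eq_one e1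
  obtain ⟨d, -, hd⟩ := hχ.exists_nat_one
  have h7 := two_mul_card_le hχ.isChar (c := ε) (by
    rw [FT.cfConjC, FT.cfAut_smul, map_intCast] at hr
    exact smul_right_injective _ e0 hr) (fun g hg ho => mul_left_cancel₀ e0 ((h4 g hg ho).trans e1.symm))
    hT le_top trivial hv ho (fun e => by
      haveI := hG.simple
      rcases (normal_of_le_normalizer_top (FT.cfker_normal hχ.mem_CF)).eq_bot_or_eq_top with e' | e'
      · exact v1 (mem_bot.1 (e' ▸ hχ.isChar.mem_cfker.2 ⟨trivial, e⟩))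
      · rw [FT.cfdot_smul_left, hχ.eq_cf1_iff.2 e'.ge, FT.cfdot_cf1, mul_one] at h0
        exact e0 h0) hd
  rw [Pi.smul_apply, hd, smul_eq_mul] at h3
  have h8 : a = ε * d := by exact_mod_cast h3.symm
  rcases hε with rfl | rfl <;> simp [h8] <;> omega

theorem index_le (ht : orderOf t = 2) : 16 * (𝐂[t]).index ≤ 45 * mI t ^ 2 := by
  obtain ⟨s, hs⟩ := hG.exists_four ht
  obtain ⟨S, x, h⟩ := hG.exists_frame hs
  obtain ⟨a, h1, h2, h3⟩ := h.num le_top hG.one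
  have h8 := h.eight_dvd.trans h1
  rw [relIndex_top_right] at h3
  exact_mod_cast num_le (c := 16) (d := 45) h3 h2 (by
    rcases (by omega : 9 ≤ a ∨ a ≤ -7) with e | e <;> nlinarith)

theorem index_le' (ht : orderOf t = 2) (h16 : 16 ∣ Nat.card G) :
    64 * (𝐂[t]).index ≤ 153 * mI t ^ 2 := by
  obtain ⟨s, hs⟩ := hG.exists_four ht
  obtain ⟨S, x, h⟩ := hG.exists_frame hs
  obtain ⟨a, h1, h2, h3⟩ := h.num le_top hG.one
  have h8 : (16 : ℤ) ∣ a - 1 := Dvd.dvd.trans (by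
    exact_mod_cast pow_dvd_card_sylow (k := 4) h.syl (by rwa [card_top])) h1
  rw [relIndex_top_right] at h3
  exact_mod_cast num_le (c := 64) (d := 153) h3 h2 (by
    rcases (by omega : 17 ≤ a ∨ a ≤ -15) with e | e <;> nlinarith)

theorem le_index (ht : orderOf t = 2) : 21 * mI t ^ 2 ≤ 16 * (𝐂[t]).index := by
  obtain ⟨s, hs⟩ := hG.exists_four ht
  obtain ⟨S, x, h⟩ := hG.exists_frame hs
  obtain ⟨a, h1, h2, h3⟩ := h.num le_top hG.one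
  rw [relIndex_top_right] at h3
  exact_mod_cast le_num h3 h2 (h.eight_dvd.trans h1)

theorem not_oneCl (ht : orderOf t = 2) {H : Subgroup G} (hH : H ≠ ⊤) (hle : 𝐂[t] ≤ H) :
    ¬ OneCl H := fun h1 => by
  obtain ⟨s, hs⟩ := hG.exists_four ht
  obtain ⟨S, x, h⟩ := hG.exists_frame hs
  obtain ⟨a, h2, h3, h4⟩ := (h.mono (h.S_le.trans hle) le_top).num hle h1
  have h5 : 21 * mI t ^ 2 ≤ 16 * (𝐂[t]).relIndex H := by
    exact_mod_cast le_num h4 h3 (h.eight_dvd.trans h2)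
  have h6 := hG.index_le ht
  have h7 : 0 < mI t ^ 2 := pow_pos (Nat.pos_of_ne_zero (h.mI_ne le_top)) 2
  have h8 := one_lt_index_of_ne_top hH
  have h9 : H.index ≠ 2 := fun e => by
    haveI := hG.simple
    rcases (normal_of_index_eq_two e).eq_bot_or_eq_top with e | e
    exacts [hs.t1 (mem_bot.1 (e ▸ hle (self_mem_cent1 t))), hH e]
  rw [← relIndex_mul_index hle] at h6
  nlinarith [show 3 ≤ H.index by omega]

/-- (R). -/
theorem of_lt {S : Subgroup G} {x y : G} (h : DF ⊤ S x y t)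
    (hlt : Ut t ⊓ 𝐂[x * y] < Ut t ⊓ 𝐂[y]) :
    orderOf x = 4 ∧ Ut t ⊓ 𝐂[x * y] = ⊥ ∧ Nat.card ↥(Ut t ⊓ 𝐂[y]) = 3 ∧
      (𝐂[t]).index = 105 * (𝐂[y]).relIndex (Ut t) ^ 2 := by
  have := Fintype.ofFinite G
  obtain ⟨a, b, c, h1, -, hb, hc, e, e1, e2, hC⟩ := hG.num h
  have h8 := h.eight_dvd.trans h1
  have r1 := h.relIndex_cent le_top h.four
  have r2 := h.relIndex_cent le_top h.four'
  have r3 := relIndex_mul_relIndex _ _ _ hlt.le (inf_le_left : Ut t ⊓ 𝐂[y] ≤ _)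
  have r4 := FT.card_eq_relIndex_mul hlt.le
  have o1 := (GW.odd_card_of_le (odd_Ut t) (inf_le_left : Ut t ⊓ 𝐂[y] ≤ _)).of_dvd_nat
    (relIndex_dvd_card (Ut t ⊓ 𝐂[x * y]) _)
  have o2 : (Ut t ⊓ 𝐂[x * y]).relIndex (Ut t ⊓ 𝐂[y]) ≠ 1 := fun e =>
    hlt.not_ge (relIndex_eq_one.1 e)
  have p1 := Nat.pos_of_ne_zero (H1.relIndex_ne_zero' 𝐂[y] 𝐂[t])
  rw [inf_relIndex_left, inf_relIndex_left] at r3
  generalize (Ut t ⊓ 𝐂[x * y]).relIndex (Ut t ⊓ 𝐂[y]) = w at *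
  have r5 : (𝐂[x * y]).relIndex 𝐂[t] = w * (𝐂[y]).relIndex 𝐂[t] := by
    rw [← r3] at r2
    nlinarith
  rw [h.mI_eq le_top, r5] at e1
  rw [r5] at e2
  push_cast at e1 e2
  obtain ⟨j, hj⟩ := o1
  rcases SW.dih_arith (by exact_mod_cast p1) (by omega) (by omega) (by omega) hb hc e e1 e2 with
    ⟨g1, rfl⟩ | ⟨g1, rfl⟩
  swap
  · obtain ⟨v, hv, v1⟩ := exists_ne_one (ne_bot_of_gt hlt)
    have := hC _ h.four.isPGroup_V v ((hG.dih.mem_B h.four).1 hv).1 v1 (odd_of_mem_Ut hv.1)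
    rw [h.four.card_V] at this
    norm_num at this
  have h2 : Ut t ⊓ 𝐂[x * y] = ⊥ := eq_bot_of_forall fun v hv => by_contra fun v1 => by
    have h3 := mem_cent1_comm.1 (hlt.le hv).2
    have h4 : x ∈ 𝐂[v] := by simpa using mul_mem (mem_cent1_comm.1 hv.2) (inv_mem h3)
    have := hC _ h.syl.isPGroup v (le_centralizer_iff.1 (h.S_eq.ge.trans (cent_zpowers v ▸
      sup_le (zpowers_le.2 h4) (zpowers_le.2 h3))) (mem_zpowers v)) v1 (odd_of_mem_Ut hv.1)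
    have h5 := Int.le_of_dvd (by exact_mod_cast Nat.card_pos) h.eight_dvd
    norm_num at this
    omega
  obtain ⟨n, hn⟩ := h.four_dvd
  have r6 : (𝐂[y]).relIndex 𝐂[t] = 2 * (n * (𝐂[y]).relIndex (Ut t)) := by
    rw [hn] at r1
    nlinarith
  rw [r6, g1] at e1
  have g2 : (𝐂[t]).index = 105 * (n * (𝐂[y]).relIndex (Ut t)) ^ 2 := by zify at e1 ⊢; linarith
  obtain ⟨k, hk⟩ := orderOf_eq_pow_of_mem_isPGroup h.syl.isPGroup h.xS
  obtain rfl : n = 1 := Nat.eq_one_of_dvd_coprimes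
    (Nat.Coprime.pow_left k (Nat.coprime_two_left.2 (hG.odd_index h.ot)))
    (hk ▸ hn ▸ dvd_mul_left n 4) ⟨105 * n * (𝐂[y]).relIndex (Ut t) ^ 2, by rw [g2]; ring⟩
  rw [h2, card_bot] at r4
  exact ⟨hn, h2, by omega, by rw [g2, one_mul]⟩

theorem not_le (hU : Ut t ≠ ⊥) {S : Subgroup G} {x y : G} (h : DF ⊤ S x y t) (h1 : Ut t ≤ 𝐂[y]) :
    ¬ Ut t ≤ 𝐂[x * y] := fun h2 => by
  have key : ∀ s, Four t s → Ut t ≤ 𝐂[s] → ∀ b ∈ zpowers x,
      ∃ g ∈ 𝐍(Ut t), g * t * g⁻¹ = b * s * b⁻¹ := fun s h4 hs b hb => by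
    obtain ⟨d, hd, e, -⟩ := hG.exists_swap h4
    have h3 := h.S_le (h.AS hb)
    refine ⟨b * d, mul_mem (cent_le_norm_Ut t h3) (inf_eq_left.2 hs ▸ hG.dih.norm_le_norm_B h4 hd),
      by rw [← e]; group⟩
  refine hG.not_oneCl h.ot (hG.norm_ne_top' hU (solvable_Ut t)) (cent_le_norm_Ut t)
    (h.oneCl (h.S_le.trans (cent_le_norm_Ut t)) le_top fun s hs h4 => ?_)
  obtain ⟨b, hb, rfl | rfl⟩ := h.refl_cases hs (h.notMem_A h4)
  exacts [key _ h.four h1 b hb, key _ h.four' h2 b hb]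

theorem a7_aux (h : Four t s) (hU : Ut t ≠ ⊥) (hle : Ut t ≤ 𝐂[s]) :
    Nat.card G = 2520 ∧ Nat.card ↥(⊤ ⊓ 𝐂[t]) = 24 ∧ ∃ u, orderOf u = 3 ∧
    (∀ w, w ∈ zpowers u ↔ w ∈ (⊤ : Subgroup G) ∧ w ∈ 𝐂[t] ∧ Odd (orderOf w)) ∧
    (∃ s ∈ (⊤ : Subgroup G), Four t s ∧ u ∈ 𝐂[s]) ∧
    ∃ s ∈ (⊤ : Subgroup G), Four t s ∧ s * u * s⁻¹ = u⁻¹ := by
  obtain ⟨S, x, hS⟩ := hG.exists_frame h
  obtain ⟨h1, h2, h3, h4⟩ := hG.of_lt hS (lt_of_le_of_ne (inf_le_left.trans (le_inf le_rfl hle))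
    fun e => hG.not_le hU hS hle ((le_inf le_rfl hle).trans (e.ge.trans inf_le_right)))
  rw [inf_eq_left.2 hle] at h3
  rw [relIndex_eq_one.2 hle] at h4
  have h5 := IsComplIn.card_mul (hS.compl le_top)
  rw [h3, hS.card_S', h1] at h5
  have h6 := index_mul_card 𝐂[t]
  obtain ⟨u, hu, ho⟩ := SW.exists_orderOf Nat.prime_three (H := Ut t) (by rw [h3])
  have h7 : zpowers u = Ut t :=
    eq_of_le_of_card_ge (zpowers_le.2 hu) (by rw [Nat.card_zpowers, ho, h3])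
  refine ⟨by rw [← h6, h4, ← h5]; rfl, by rw [top_inf_eq, ← h5], u, ho, fun w => ?_,
    ⟨s, trivial, h, hle hu⟩, x * s, trivial, hS.four', inverts_of_inf_cent hS.four'.ss (odd_Ut t)
      (cent_le_norm_Ut t hS.four'.s_cent) h2 u hu⟩
  rw [h7, hG.dih.mem_Ut h.ot]
  simp

/-- (Z1). -/
theorem a7_of_le (h : Four t s) (hU : Ut t ≠ ⊥) (hle : Ut t ≤ 𝐂[s]) : A7 (⊤ : Subgroup G) := by
  refine ⟨card_top.trans (hG.a7_aux h hU hle).1, fun v _ hv => ?_⟩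
  obtain ⟨g, rfl⟩ := hG.exists_conj h.ot hv
  refine (hG.a7_aux (h.conj g) ?_ ?_).2
  · rwa [Ut_conj, Ne, map_eq_bot_iff_of_injective _ (MulAut.conj g).injective]
  · rw [Ut_conj, cent1_conj]
    exact map_mono hle

end Simp

end CfsgLib.GD
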