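import Cfsg.Agent.Lib.GD.Quo
import Cfsg.Agent.Lib.GD.Num

/-!
# Maximal subgroups `H > C(t)` with `O(H) ≤ C(t)`

`N = C(t) = U S`.  `H` has more than one class of involutions (`not_oneCl`).
* `FitC H`: `t` centralizes `F(H)` (`O₂(H) ≤ S ≤ N`), so `t ∈ O₂(H)`; `t` is not central in `H`, so
  `O₂(H)` contains a conjugate `s₁ ≠ t` of `t`; `U` normalizes `O₂(H) ∋ t`, so centralizes it
  (`Dih.mem_cent`); (Z1) applies.
* `TA H L`: one class of involutions, absurd.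
* `TL H L`: `t ∈ L` (a square); exactly one of `y`, `x y` lies in `L`, say `y` (`DF.swap`).
  `K = U ⊓ L`, `Z = L ⊓ O(H)`, `z = |K : Z|`.  `U = K B(y)`, `|U : B(y)| = z`, `κ = z |S| / 4`;
  `S` centralizes `U / K O(H)`, so `U = K O(H) C_U(S)` and `B(xy) ≤ O(H) C_U(S) ≤ B(y)`.
  If `z = 1`, (Z1) applies.  Let `z ≥ 3`, `κ ≥ 6`; `i = |G : H| I`, `I = (2κ+ε)(κ+ε)`.
  If `B(xy) = B(y)` then `m = 2 κ`, `|G : H| ≤ 7`, so `|G| ≤ 2520` (`G` embeds in an alternating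
  group), whereas `|G| = i |N| ≥ 21 κ³ ≥ 4536`.  Otherwise (R): `κ = 2 z`, `I ∣ 105 z²`, `I` is
  prime to `z`, `I ∣ 105`, absurd.
-/

set_option autoImplicit false

namespace CfsgLib.GD

open Subgroup Cfsg CfsgLib.FT.BGN CfsgLib.FT.U4 CfsgLib.GW
open scoped commutatorElement

universe u

theorem card_le_of_index_le {G : Type*} [Group G] [Finite G] [IsSimpleGroup G] {H : Subgroup G}
    (hH : H ≠ ⊤) (h7 : H.index ≤ 7) : Nat.card G ≤ 2520 := by
  classical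
  letI := Fintype.ofFinite (G ⧸ H)
  set φ := MulAction.toPermHom G (G ⧸ H)
  have h1 : Function.Injective φ := (MonoidHom.ker_eq_bot_iff φ).1
    ((IsSimpleGroup.eq_bot_or_eq_top_of_normal φ.ker inferInstance).resolve_right fun e =>
      hH (top_le_iff.1 (e.ge.trans (H.normalCore_eq_ker ▸ H.normalCore_le))))
  rcases IsSimpleGroup.eq_bot_or_eq_top_of_normal (Equiv.Perm.sign.comp φ).ker inferInstance with e | e
  · have := Nat.card_le_card_of_injective _ ((MonoidHom.ker_eq_bot_iff _).1 e)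
    rw [Nat.card_eq_fintype_card (α := ℤˣ), Fintype.card_units_int] at this
    omega
  · have h2 := Nat.card_le_card_of_injective
      (fun g => (⟨φ g, Equiv.Perm.mem_alternatingGroup.2 (e.ge (mem_top g))⟩ :
        alternatingGroup (G ⧸ H))) fun a b hab => h1 (congrArg Subtype.val hab)
    haveI : Nontrivial (G ⧸ H) := Finite.one_lt_card_iff_nontrivial.1 (one_lt_index_of_ne_top hH)
    have h3 := two_mul_nat_card_alternatingGroup (α := G ⧸ H)
    rw [Nat.card_perm] at h3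
    have h4 : (Nat.card (G ⧸ H)).factorial ≤ Nat.factorial 7 := Nat.factorial_le h7
    have h5 : Nat.factorial 7 = 5040 := rfl
    omega

theorem arith_eq {κ n i c : ℕ} {I ε : ℤ} (hε : ε = 1 ∨ ε = -1) (hκ : 6 ≤ κ)
    (hI : I = (2 * κ + ε) * (κ + ε)) (hi : (i : ℤ) = I * n) (h1 : 16 * i ≤ 45 * (κ + κ) ^ 2)
    (h2 : 21 * (κ + κ) ^ 2 ≤ 16 * i) (hc : 4 * κ ≤ c) : n ≤ 7 ∧ 2520 < c * i := by
  constructor
  · by_contra hn
    zify at h1 hκ hn
    have h3 : (2 * κ - 1) * (κ - 1) ≤ I := by rcases hε with rfl | rfl <;> nlinarith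
    have h4 : 0 ≤ I := le_trans (by nlinarith) h3
    have h5 : I * 8 ≤ I * n := mul_le_mul_of_nonneg_left (by omega) h4
    nlinarith
  · have h3 : 189 ≤ i := by nlinarith
    calc 2520 < 24 * 189 := by norm_num
      _ ≤ c * i := Nat.mul_le_mul (by omega) h3

theorem arith_lt {z I : ℕ} {ε : ℤ} (hε : ε = 1 ∨ ε = -1) (hz : 3 ≤ z) (ho : Odd z)
    (hI : (I : ℤ) = (2 * (2 * z : ℕ) + ε) * ((2 * z : ℕ) + ε)) (hd : I ∣ 105 * z ^ 2) : False := by
  have h1 : I.Coprime z := by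
    rw [← Nat.isCoprime_iff_coprime, hI]
    refine ⟨1, -(8 * z + 6 * ε), ?_⟩
    push_cast
    rcases hε with rfl | rfl <;> ring
  have h2 : I ∣ 105 := (h1.pow_right 2).dvd_of_dvd_mul_right hd
  have h3 := Nat.le_of_dvd (by norm_num) h2
  push_cast at hI
  rcases Nat.lt_or_ge z 5 with h4 | h4
  · obtain rfl : z = 3 := by obtain ⟨m, rfl⟩ := ho; omega
    rcases hε with rfl | rfl
    · obtain rfl : I = 91 := by omega
      omega
    · obtain rfl : I = 55 := by omega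
      omega
  · zify at h3 h4
    rcases hε with rfl | rfl <;> nlinarith

variable {G : Type u} [Group G] [Finite G]

theorem a7_of_fitC (hG : Simp G) {t : G} (ht : orderOf t = 2) (hU : Ut t ≠ ⊥) {H : Subgroup G}
    (hle : 𝐂[t] ≤ H) (hne : H ≠ 𝐂[t]) (hO : Od H ≤ 𝐂[t]) (hF : FitC H) : A7 (⊤ : Subgroup G) := by
  obtain ⟨s, h4⟩ := hG.exists_four ht
  obtain ⟨S, x, hS⟩ := hG.exists_frame h4
  have htH : t ∈ H := hle (self_mem_cent1 t)
  have h2 : piCoreOf {2} H ≤ 𝐂[t] := (FT.le_sylow_of_norm' (hS.syl.mono (hS.S_le.trans hle) le_top)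
    (pcore_pgroup 2 H) (pcore_le _ _) ((hS.S_le.trans hle).trans (pcore_normal _ _))).trans hS.S_le
  have h3 : fittingOf H ≤ 𝐂[t] := by
    rw [← pcore_sup_of_nil (fit_nil H) {2}]
    exact sup_le ((le_pcore_of_le_fit (pcore_le _ _) (pcore_pi _ _)).trans h2)
      ((le_pcore_of_le_fit (pcore_le _ _) (pcore_pi _ _)).trans hO)
  have h5 : t ∈ piCoreOf {2} H := zpowers_le.1 (le_pcore_of_le_fit
    (zpowers_le.2 (hF ⟨htH, mem_cent.2 fun g hg => mem_cent1.1 (h3 hg)⟩))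
    (isPiSubgroup_of_isPGroup (isPGroup_zpowers_inv ht) rfl))
  obtain ⟨g, hg, hg'⟩ := SetLike.not_le_iff_exists.1 fun e : H ≤ 𝐂[t] => hne (le_antisymm e hle)
  have h6 := conj_mem_of_mem_normalizer (pcore_normal {2} H hg) h5
  refine hG.a7_of_le (s := g * t * g⁻¹) ⟨ht, by rw [orderOf_conj, ht], mem_cent1'.1 (h2 h6),
    fun e => hg' (mem_cent1_of_conj_eq e.symm)⟩ hU fun u hu => cent_le_cent1 h6 ?_
  exact hG.dih.mem_cent (pcore_pgroup 2 H) (pcore_normal _ _ (hle (Ut_le t hu))) (odd_of_mem_Ut hu)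
    ht (pcore_normal _ _ htH) (Ut_le t hu)

theorem a7_of_tl (hG : Simp G) {t : G} (hU : Ut t ≠ ⊥) {H L : Subgroup G} (hH : H ≠ ⊤)
    (hle : 𝐂[t] ≤ H) (hO : Od H ≤ 𝐂[t]) (hL : TL H L) {S : Subgroup G} {x y : G}
    (hS : DF ⊤ S x y t) (htL : t ∈ L) (hyL : y ∈ L) (hxy : x * y ∉ L) : A7 (⊤ : Subgroup G) := by
  have ht := hS.ot
  have hUH : Ut t ≤ H := (Ut_le t).trans hle
  have hSH : S ≤ H := hS.S_le.trans hle
  have hOU : Od H ≤ Ut t := hG.dih.le_Ut ht hO (odd_Od H)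
  have hSU : S ≤ 𝐍(Ut t) := hS.S_le.trans (cent_le_norm_Ut t)
  have hOy : Od H ≤ 𝐂[y] := fun o ho => mem_cent1.2 (mem_cent.1 (hL.cent hyL) o ho)
  have hsq : ∀ {g : G}, g ∈ Ut t → g * g ∈ Od H → g ∈ Od H := fun hg h =>
    zpowers_le.2 h (mem_zpowers_sq (odd_of_mem_Ut hg))
  -- `B(xy) ≤ B(y)`
  have hB : Ut t ⊓ 𝐂[x * y] ≤ Ut t ⊓ 𝐂[y] := fun b hb => by
    have hJ : H ≤ 𝐍(L ⊔ Od H) := fun g hg => by
      rw [← map_conj_eq_iff_mem_normalizer, conj_sup, map_conj_eq_of_mem_normalizer (hL.norm hg),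
        map_conj_eq_of_mem_normalizer (le_norm_Od H hg)]
    have h1 : ∀ a ∈ S, a ∈ L → b⁻¹ * (a * b * a⁻¹) ∈ Ut t ⊓ (L ⊔ Od H) := fun a ha haL =>
      mem_inf.2 ⟨mul_mem (inv_mem (mem_inf.1 hb).1) (conj_mem_of_mem_normalizer (hSU ha) hb.1),
        mem_sup_left (by
        have := mul_mem (conj_mem_of_mem_normalizer' (hL.norm (hUH hb.1)) haL) (inv_mem haL)
        simpa only [mul_assoc] using this)⟩
    obtain ⟨r, hr, hc⟩ := Cop.exists_mul_mem_centralizer_of_coset (A := S)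
      (U := Ut t ⊓ (L ⊔ Od H)) ((le_inf hSU (hSH.trans hJ)).trans inf_normalizer_le_normalizer_inf)
      (by
        obtain ⟨n, hn⟩ := IsPGroup.iff_card.1 hS.syl.isPGroup
        rw [hn]
        exact (Nat.coprime_two_left.2 (odd_card_of_le (odd_Ut t) inf_le_left)).pow_left n)
      (Or.inl (isSolvable_of_isPGroup hS.syl.isPGroup)) (g := b) fun a ha => by
        by_cases haL : a ∈ L
        · exact h1 a ha haL
        obtain ⟨t', ht', s', hs', h4⟩ := hL.toTE.four hG.dih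
        have h2 := h1 _ (mul_mem ha hS.xyS) (hG.dih.mul_mem_of_notMem h4 (V_le ht' hs')
          hS.syl.isPGroup (hSH.trans hL.norm) ha hS.xyS haL hxy)
        rwa [show a * (x * y) * b * (a * (x * y))⁻¹ = a * (x * y * b * (x * y)⁻¹) * a⁻¹ by group,
          conj_eq_of_mem_cent1 (mem_cent1_comm.1 hb.2)] at h2
    have h3 : r ∈ 𝐂[x * y] := (mul_mem_cancel_left (mem_inf.1 hb).2).1 (cent_le_cent1 hS.xyS hc)
    obtain ⟨l, hl, o, ho, rfl⟩ := (mem_sup_iff_of_le_normalizer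
      ((hL.le.trans (le_norm_Od H)))).1 hr.2
    have hlU : l ∈ Ut t := (mul_mem_cancel_right (hOU ho)).1 hr.1
    have h5 := hL.inv t htL _ (hSH hS.xyS) hS.four' l ⟨hl, Ut_le t hlU⟩ (odd_of_mem_Ut hlU)
    have h6 := conj_eq_of_mem_cent1 (mem_cent1_comm.1 h3)
    have h7 := conj_mem_of_mem_normalizer (le_norm_Od H (hSH hS.xyS)) ho
    have h8 : l ∈ Od H := hsq hlU (by
      have e : x * y * l * (x * y)⁻¹ = l * o * (x * y * o * (x * y)⁻¹)⁻¹ := by
        rw [← h6]; group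
      rw [e] at h5
      have h9 := conj_mem_of_mem_normalizer' (le_norm_Od H (hL.le hl)) (mul_mem ho (inv_mem h7))
      have := mul_mem h5 (inv_mem h9)
      rwa [show l * o * (x * y * o * (x * y)⁻¹)⁻¹ * l *
        (l⁻¹ * (o * (x * y * o * (x * y)⁻¹)⁻¹) * l)⁻¹ = l * l by group] at this)
    exact ⟨hb.1, (mul_mem_cancel_right (hOy (mul_mem h8 ho))).1 (cent_le_cent1 hS.yS hc)⟩
  -- the numbers
  set z := (𝐂[y]).relIndex (Ut t) with hz
  by_cases hz1 : z = 1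
  · exact hG.a7_of_le hS.four hU (relIndex_eq_one.1 hz1)
  exfalso
  have hzo : Odd z := (odd_Ut t).of_dvd_nat (relIndex_dvd_card _ _)
  have hz3 : 3 ≤ z := by obtain ⟨m, hm⟩ := hzo; omega
  obtain ⟨κ, ε, hε, hcard, hidx⟩ := hL.idx t htL ht
  have hK : Nat.card ↥(Ut t ⊓ L) = z * Nat.card ↥(L ⊓ Od H) := by
    have h1 : 𝐂[y] ⊓ (Ut t ⊓ L) = L ⊓ Od H := le_antisymm (fun g hg => ⟨hg.2.2, hsq hg.2.1 (by
      have := hL.inv t htL y (hSH hS.yS) hS.four g ⟨hg.2.2, Ut_le t hg.2.1⟩ (odd_of_mem_Ut hg.2.1)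
      rwa [conj_eq_of_mem_cent1 (mem_cent1_comm.1 hg.1)] at this)⟩)
      (le_inf (inf_le_right.trans hOy) (le_inf (inf_le_right.trans hOU) inf_le_left))
    have h2 : Ut t = (Ut t ⊓ 𝐂[y]) ⊔ (Ut t ⊓ L) := le_antisymm (fun u hu => by
      obtain ⟨c, hc, i, hi, e, rfl⟩ := exists_cent_mul_inv hS.four.ss (odd_Ut t) (hSU hS.yS) hu
      exact mul_mem_sup hc ⟨hi, mem_of_inverted (odd_of_mem_Ut hi) e hyL (hL.norm (hUH hi))⟩)
      (sup_le inf_le_left inf_le_left)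
    have h3 := card_sup_mul_card_inf (H := Ut t ⊓ 𝐂[y]) (N := Ut t ⊓ L) (inf_le_left.trans
      ((le_inf le_normalizer (hUH.trans hL.norm)).trans inf_normalizer_le_normalizer_inf))
    rw [← h2, inf_assoc, h1, inf_eq_right.2 (inf_le_right.trans hOU),
      ← card_inf_mul_relIndex 𝐂[y] (Ut t), inf_comm, mul_assoc] at h3
    exact (Nat.eq_of_mul_eq_mul_left Nat.card_pos h3).symm
  have hSL : Nat.card ↥(S ⊓ L) = orderOf x := by
    have h1 : L.relIndex S = 2 := by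
      rw [relIndex, index_eq_two_iff]
      refine ⟨⟨_, hS.xyS⟩, fun b => ?_⟩
      by_cases hb : (b : G) ∈ L
      · exact Or.inr ⟨hb, fun e => hxy ((mul_mem_cancel_left hb).1 e)⟩
      · obtain ⟨t', ht', s', hs', h4⟩ := hL.toTE.four hG.dih
        exact Or.inl ⟨hG.dih.mul_mem_of_notMem h4 (V_le ht' hs') hS.syl.isPGroup
          (hSH.trans hL.norm) b.2 hS.xyS hb hxy, hb⟩
    have h2 := card_inf_mul_relIndex L S
    rw [h1, hS.card_S', inf_comm] at h2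
    omega
  have hκ : 2 * κ = z * orderOf x := by
    have hW : IsSylowIn 2 (S ⊓ L) (L ⊓ 𝐂[t]) :=
      ((hS.syl.mono hSH le_top).inf_of_le_normalizer hL.le (hSH.trans hL.norm)).mono
        (le_inf inf_le_right (inf_le_left.trans hS.S_le)) inf_le_left
    have h0 := FT.relIndex_dvd_relIndex_of_norm (Ut_le t) (inf_le_right : L ⊓ 𝐂[t] ≤ _)
      (Or.inr (inf_le_right.trans (cent_le_norm_Ut t)))
    obtain ⟨n, hn⟩ := IsPGroup.iff_card.1 hS.syl.isPGroup
    rw [IsComplIn.relIndex_left (hS.compl le_top), hn, ← inf_relIndex_right, ← inf_assoc, inf_right_comm,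
      inf_eq_left.2 (Ut_le t)] at h0
    obtain ⟨k, -, hk⟩ := (Nat.dvd_prime_pow Nat.prime_two).1 h0
    have h1 := hW.sup_eq_of_relIndex_eq_pow
      (le_inf inf_le_right (inf_le_left.trans (Ut_le t)) : Ut t ⊓ L ≤ _) hk
    have h2 := card_sup_of_disjoint (H := S ⊓ L) (N := Ut t ⊓ L) (inf_le_left.trans
      ((le_inf hSU (hSH.trans hL.norm)).trans inf_normalizer_le_normalizer_inf))
      (eq_bot_of_forall fun g hg => eq_one_of_mem_inf (hS.compl le_top).2.2.1 hg.2.1 hg.1.1)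
    rw [sup_comm, h1, hcard, hSL, hK, ← mul_assoc] at h2
    rw [Nat.eq_of_mul_eq_mul_right Nat.card_pos h2, mul_comm]
  have hi := relIndex_mul_index hle
  rw [hL.toTE.relIndex_cent hG.dih ht htL] at hi
  rcases hB.lt_or_eq with hlt | heq
  · obtain ⟨h1, -, -, h2⟩ := hG.of_lt hS hlt
    obtain rfl : κ = 2 * z := by rw [h1] at hκ; omega
    exact arith_lt hε hz3 hzo hidx (h2 ▸ Dvd.intro _ hi)
  have h1 := DF.relIndex_cent hS le_top hS.four
  have h2 := DF.relIndex_cent hS le_top hS.four'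
  rw [← inf_relIndex_right _ (Ut t), inf_comm, heq, inf_comm, inf_relIndex_right] at h2
  have hm : mI t = κ + κ := by rw [hS.mI_eq le_top]; rw [← hz, ← hκ] at h1 h2; omega
  have h4 := Nat.le_of_dvd (orderOf_pos x) hS.four_dvd
  have h5 : 4 * κ ≤ Nat.card 𝐂[t] := by
    rw [← IsComplIn.card_mul (hS.compl le_top), hS.card_S', ← card_inf_mul_relIndex 𝐂[y] (Ut t), ← hz]
    have : 1 ≤ Nat.card ↥(𝐂[y] ⊓ Ut t) := Nat.card_pos
    nlinarith
  obtain ⟨h6, h7⟩ := arith_eq (n := H.index) (i := (𝐂[t]).index) hε (by nlinarith) hidx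
    (by rw [← hi]; push_cast; rfl) (hm ▸ hG.index_le ht) (hm ▸ hG.le_index ht) h5
  haveI := hG.simple
  have h8 := card_le_of_index_le hH h6
  rw [card_mul_index] at h7
  omega

theorem a7_of_Od_le (hG : Hyp G) {t : G} (ht : orderOf t = 2) (hU : Ut t ≠ ⊥) {H : Subgroup G}
    (hH : IsCoatom H) (hle : 𝐂[t] ≤ H) (hne : H ≠ 𝐂[t]) (hO : Od H ≤ 𝐂[t]) :
    A7 (⊤ : Subgroup G) := by
  have h1 := hG.toSimp.not_oneCl ht hH.1 hle
  obtain hF | ⟨L, hL | hL⟩ := dichotomy hG hH.1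
  · exact a7_of_fitC hG.toSimp ht hU hle hne hO hF
  swap
  · exact absurd (fun u hu v hv h2 h3 => by
      obtain ⟨g, hg, e⟩ := hL.toTE.one hG.dih u (hL.inv_mem u hu h2) v (hL.inv_mem v hv h3) h2 h3
      exact ⟨g, hL.le hg, e⟩) h1
  obtain ⟨y, h4⟩ := hG.toSimp.exists_four ht
  obtain ⟨S, x, hS⟩ := hG.toSimp.exists_frame h4
  have hSH : S ≤ H := hS.S_le.trans hle
  have htL : t ∈ L := by
    obtain ⟨e, he, h2, -⟩ := hS.exists_e
    exact h2 ▸ hL.toTE.mul_self_mem hG.dih (hSH (hS.AS he))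
      (hS.syl.isPGroup.to_le (zpowers_le.2 (hS.AS he)))
  have h2 : y ∈ L → x * y ∈ L → False := fun hy hxy => h1 fun u hu v hv h2 h3 => by
    have hSL : S ≤ L := by
      rw [← hS.S_eq]
      exact sup_le (zpowers_le.2 ((mul_mem_cancel_right hy).1 hxy)) (zpowers_le.2 hy)
    have key : ∀ w ∈ H, orderOf w = 2 → w ∈ L := fun w hw h5 => by
      obtain ⟨g, hg, h6⟩ := (hS.syl.mono hSH le_top).exists_conj_le (isPGroup_zpowers_inv h5)
        (zpowers_le.2 hw)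
      have := conj_mem_of_mem_normalizer' (hL.norm hg) (hSL (h6 (conj_mem_map_conj (mem_zpowers w))))
      simpa [mul_assoc] using this
    obtain ⟨g, hg, e⟩ := hL.toTE.one hG.dih u (key u hu h2) v (key v hv h3) h2 h3
    exact ⟨g, hL.le hg, e⟩
  have h3 : y ∈ L ∨ x * y ∈ L := by
    obtain ⟨a, ha, b, hb, hab⟩ := hL.toTE.four hG.dih
    obtain ⟨g, hg, e⟩ := hL.toTE.one hG.dih a ha t htL hab.ot ht
    have h5 := hab.conj g
    rw [e] at h5
    have h6 : g * b * g⁻¹ ∈ L := mul_mem (mul_mem hg hb) (inv_mem hg)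
    obtain ⟨n, hn, h7⟩ := hS.exists_conj_cases le_top h5
    have h8 := conj_mem_of_mem_normalizer' (hL.norm (hle hn)) h6
    rcases h7 with h7 | h7 <;> rw [← h7] at h8
    · exact Or.inl (by simpa [mul_assoc] using h8)
    · exact Or.inr (by simpa [mul_assoc] using h8)
  rcases h3 with h3 | h3
  · exact a7_of_tl hG.toSimp hU hH.1 hle hO hL hS htL h3 (h2 h3)
  · exact a7_of_tl hG.toSimp hU hH.1 hle hO hL hS.swap htL h3 (by simpa using fun h => h2 h h3)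

end CfsgLib.GD
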