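import Cfsg.Agent.Lib.GD.IIb2

/-!
# Maximal subgroups `H ≥ C(t)` with `O(H) ≰ C(t)`: Bender's method

Port of `GW/LocalD1`, `LocalD2`, `LocalD` (read the sketch in `LocalD`; all `LD.*` general lemmas
are reused).  Changes:
* `Top t H`: replace `nil` by `all : ∀ M, IsCoatom M → C(t) ≤ M → FitC M`.  Every maximal
  `M ≥ N = C(t)` has `FitC` (in a component `L` the square `t` lies in `L ≤ C(O(M))`) and
  `O₂(M) = 1` (else `t ∈ O₂(M)`, `[O(M), t] = 1`).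
* `s`: `H` is not `OneCl`, so one of `y`, `x y` is not `H`-conjugate to `t`; call it `s`; `t s` is
  `S`-conjugate to `s`.  `H_u = H^d` with `d ∈ N(V)`, `d t d⁻¹ = u` (`exists_norm_conj`);
  `H_s ≠ H`.
* `exists_inv` takes `FitC M` as a hypothesis.  `U1`: if `M ≥ F ⟨t⟩` has a component `L` then
  `[F, t] ≤ O(M)` (`commutator_le_Od`), `L ≤ C([F, t]) ≤ H` by `U0`; `[F, L] ≤ F ⊓ L ≤ O(M) ⊓ L`,
  so `L` centralizes `F`, `L ≤ F`, absurd.
* `not_two`: if `M ≥ N(Y)` has a component `L`, then `t, ts ∉ L` (they do not centralize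
  `Y ≤ O(M)`), so `s ∈ L` (`TE.exists_mem_V`); by `commutator_le_Od` for `s`, `s` centralizes
  `O_q(H_s) ≤ M` (`q ≠ p`, `k1`) and `O_p(H_s) ⊓ M ≥ C_{O_p(H_s)}(Y)`, so `O_p(H_s)` (`P × Q` for
  `Y × ⟨s⟩`); thus `s` centralizes `F(H_s)`, absurd.
* `cent_le_cj`: a four-group of `H` is conjugate into `S`, so contains a conjugate `u` of `t` with
  `C(u) ≤ H`.  The conjugate of `H` containing `C(u)` is unique (a `t'` with `C(t') ≤ H` is central
  in a Sylow `2`-subgroup of `H`, so `H`-conjugate to `t`): the conjugates containing `V` are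
  `H_t, H_s, H_{ts}`.
* `glob`: `K = ⟨x^{N(T)}⟩`; if `4 ∤ |K|` then `x ∈ O(K)` (`nilp2_of_not_four_dvd`); otherwise
  `K` meets `V` (`Dih.exists_mem_V`), in `s`; so `s` centralizes `T`,
  `[C_{O_p(H_s)}(T), s] ≤ O(N(T))` is a `p`-group, lies in `T`, and `P × Q` for `T × ⟨s⟩` shows
  that `s` centralizes `O_p(H_s) = F(H_s)`, absurd.
* `big`: if `O_p(H_x) ≰ D` take `A = N_{D O_p(H_x)}(D)`; otherwise `O_p(H_u) ≤ H_v`, and by
  `Simp.exists_swap` also `O_p(H_v) ≤ H_u`, against `H1.PrimPair.not_stable`.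
-/

set_option autoImplicit false

namespace CfsgLib.GD

open Subgroup Cfsg CfsgLib.FT.BGN CfsgLib.FT.U4 CfsgLib.GW
open scoped commutatorElement

universe u

variable {G : Type u} [Group G] [Finite G]

theorem exists_Od_le (hG : Hyp G) {t : G} (ht : orderOf t = 2) :
    ∃ H, IsCoatom H ∧ 𝐂[t] ≤ H ∧ Od H ≤ 𝐂[t] := by
  by_contra hc
  push Not at hc
  have hA : LD.All G := fun u hu M hM hle hO => by
    obtain ⟨g, rfl⟩ := hG.toSimp.exists_conj ht hu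
    rw [cent1_conj] at hle hO
    exact hc (g⁻¹ •ᶜ M) (FT.isCoatom_map_conj hM _) (conj_le_iff.1 hle)
      (by rw [Od_conj]; exact le_conj_iff.1 hO)
  obtain ⟨H, hH⟩ : ∃ H, LD.Top t H := by
    by_cases e : ∃ M, IsCoatom M ∧ 𝐂[t] ≤ M ∧ ∃ q : ℕ, q.Prime ∧ pCoreOf q M ≠ ⊥ ∧
      Inverts t (pCoreOf q M)
    · obtain ⟨M, h1, h2, e⟩ := e
      exact ⟨M, ht, h1, h2, hA, hA.two hG ht h1 h2, fun _ _ _ _ _ _ _ => e⟩
    · obtain ⟨M, h1, h2⟩ := GW.LD.exists_max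
        (hG.toSimp.ne_top_of_solvable (hG.dih.solvable_cent ht))
      exact ⟨M, ht, h1, h2, hA, hA.two hG ht h1 h2,
        fun K a b q c d f => absurd ⟨K, a, b, q, c, d, f⟩ e⟩
  obtain ⟨p, hp, h0⟩ := hH.exists_not_cent hG
  have hP := H1.le_normalizer_pCoreOf (p := p) H
  obtain ⟨s, h, hnc, e, he, hes⟩ : ∃ s, Four t s ∧ (∀ g ∈ H, g * t * g⁻¹ ≠ s) ∧
      ∃ e ∈ 𝐂[t], e * s * e⁻¹ = t * s := by
    obtain ⟨y, h4⟩ := hG.toSimp.exists_four ht
    obtain ⟨S, x, hS⟩ := hG.toSimp.exists_frame h4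
    obtain ⟨s, h, hnc⟩ : ∃ s, Four t s ∧ ∀ g ∈ H, g * t * g⁻¹ ≠ s := by
      by_contra hn
      push Not at hn
      have key : ∀ u ∈ H, orderOf u = 2 → ∃ g ∈ H, g * t * g⁻¹ = u := fun u hu h2 => by
        obtain ⟨c, hc, h3⟩ := (hS.syl.mono (hS.S_le.trans hH.le) le_top).exists_conj_le
          (isPGroup_zpowers_inv h2) (zpowers_le.2 hu)
        have h5 := h3 (conj_mem_map_conj (mem_zpowers u))
        obtain ⟨g, hg, e⟩ : ∃ g ∈ H, g * t * g⁻¹ = c * u * c⁻¹ := by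
          by_cases e : t = c * u * c⁻¹
          · exact ⟨1, one_mem _, by simpa using e⟩
          · exact hn _ ⟨ht, by rw [orderOf_conj, h2], mem_cent1'.1 (hS.S_le h5), e⟩
        exact ⟨c⁻¹ * g, mul_mem (inv_mem hc) hg, by
          rw [show c⁻¹ * g * t * (c⁻¹ * g)⁻¹ = c⁻¹ * (g * t * g⁻¹) * c by group, e]; group⟩
      refine hG.toSimp.not_oneCl ht hH.max.1 hH.le fun u hu v hv h2 h3 => ?_
      obtain ⟨a, ha, rfl⟩ := key u hu h2
      obtain ⟨b, hb, rfl⟩ := key v hv h3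
      exact ⟨b * a⁻¹, mul_mem hb (inv_mem ha), by group⟩
    obtain ⟨e, he, -, h2, -⟩ := hG.toSimp.exists_e h
    exact ⟨s, h, hnc, e, he, h2⟩
  have h1 : ¬ pCoreOf p H ⊓ 𝐂[s] ≤ 𝐂[t] := fun e1 =>
    h0 (h.le_of_cent_le (hH.odd p) ((h.V_le_cent1.trans hH.le).trans hP) inf_le_right e1 (by
      rw [← hes, cent1_conj, ← map_conj_eq_of_mem_normalizer (hP (hH.le he)), ← map_conj_inf,
        ← conj_eq_of_mem he]
      exact map_mono e1))
  have hn : V t s ≤ 𝐍(pCoreOf p H ⊓ 𝐂[s]) := H1.le_normalizer_inf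
    ((h.V_le_cent1.trans hH.le).trans hP) ((V_comm t s ▸ h.symm.V_le_cent1).trans le_normalizer)
  have ht' := (zpowers_le_of_mem (t_mem_V t s)).trans hn
  have c : LD.Conf t s H ⁅pCoreOf p H ⊓ 𝐂[s], zpowers t⁆ p := ⟨hH, h,
    fun e => h1 (cent_zpowers t ▸ FT.comm_eq_bot_iff.1 e), comm_le_left ht',
    Cop.commutator_commutator_eq ht' (coprime_zpowers_inv h.ot
      (odd_card_of_le (hH.odd p) inf_le_left)),
    Cop.le_normalizer_commutator hn (h.V_le_cent1.trans (cent_zpowers t ▸ cent_le_norm _)), hnc⟩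
  refine c.not_two hG fun q => by_contra fun e => c.not_one hG fun r _ hr => by_contra fun e' => ?_
  by_cases hq : r = q
  · exact e ⟨p, hp, fun e => hr (hq.trans e.symm), c.pne⟩
  · exact e ⟨r, ‹_›, hq, e'⟩

end CfsgLib.GD
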