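import Cfsg.Agent.Lib.GD.Basic

/-!
# Groups with dihedral Sylow `2`-subgroups are `p`-stable for odd `p`

Port of `H1Stable` with `Dih` in place of `AbTwo`: a subgroup of `SL₂(k)` has at most one
involution, so a `Dih` `2`-subgroup of it is cyclic.
-/

set_option autoImplicit false

namespace CfsgLib.GD

open Subgroup Cfsg CfsgLib.FT.BGN CfsgLib.FT.U4 CfsgLib.GW

theorem Dih.isCyclic_of_uniq {G : Type*} [Group G] [Finite G] (hG : Dih G) {T : Subgroup G}
    (hT : IsPGroup 2 T)
    (h : ∀ a ∈ T, ∀ b ∈ T, orderOf a = 2 → orderOf b = 2 → a = b) : IsCyclic T := by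
  obtain ⟨x, hx⟩ := hG.exists_dt hT
  by_cases hle : T ≤ zpowers x
  · exact (Subgroup.isCyclic_iff_exists_zpowers_eq_top T).2 ⟨x, le_antisymm hx.le hle⟩
  obtain ⟨y, hy, hy'⟩ := SetLike.not_le_iff_exists.1 hle
  have hx1 : x = 1 := by
    by_contra h1
    obtain ⟨v, hv, hv2⟩ := exists_inv_mem hT (hx.le (mem_zpowers x)) h1
    exact hy' (h v (hx.le hv) y hy hv2 (hx.ord hy hy') ▸ hv)
  refine (Subgroup.isCyclic_iff_exists_zpowers_eq_top T).2 ⟨y, le_antisymm (zpowers_le_of_mem hy) ?_⟩
  intro a ha
  by_cases ha' : a ∈ zpowers x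
  · rw [hx1, zpowers_one_eq_bot, mem_bot] at ha'
    exact ha' ▸ one_mem _
  · exact h a ha y hy (hx.ord ha ha') (hx.ord hy hy') ▸ mem_zpowers _

section stable

open CfsgLib.Cop Module CfsgLib.H1
open scoped commutatorElement

section linear

variable {k : Type*} [Field k] {p : ℕ} [hp : Fact p.Prime] [CharP k p]

theorem dih_finrank_two (hp2 : p ≠ 2) {H : Type*} [Group H] [Finite H] (h2 : Dih H)
    {S : Set H} (hS : closure S = ⊤) (hSp : ∀ s ∈ S, ∃ n, s ^ p ^ n = 1) {U : Type*}
    [AddCommGroup U] [Module k U] (hU : finrank k U = 2) (τ : H →* End k U) {g : H}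
    (hg : (orderOf g).Coprime p) : τ g = 1 := by
  set f := QuotientGroup.mk' τ.ker with hf
  have hfs : Function.Surjective f := QuotientGroup.mk'_surjective _
  let τ' : H ⧸ τ.ker →* End k U := QuotientGroup.lift _ τ fun _ h => h
  have hτ' : ∀ x : H ⧸ τ.ker, τ' x = 1 → x = 1 := by
    intro x hx
    obtain ⟨x, rfl⟩ := QuotientGroup.mk_surjective x
    exact (QuotientGroup.eq_one_iff x).2 hx
  have hgen : ∀ N : Subgroup (H ⧸ τ.ker), (∀ s ∈ S, f s ∈ N) → N = ⊤ := by
    intro N hN
    rw [eq_top_iff, ← map_top_of_surjective f hfs, map_le_iff_le_comap, ← hS, closure_le]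
    exact hN
  have hdet : ∀ x : H ⧸ τ.ker, LinearMap.det (τ' x) = 1 := by
    have := hgen (LinearMap.det.comp τ').ker fun s hs => by
      obtain ⟨n, hn⟩ := hSp s hs
      refine eq_one_of_pow_char_pow (p := p) (n := n) ?_
      rw [← map_pow, ← map_pow, hn, map_one, map_one]
    exact fun x => (this.ge (mem_top x) :)
  have hinv : ∀ x : H ⧸ τ.ker, x ^ 2 = 1 → x ≠ 1 → τ' x = -1 := fun x hx h1 =>
    (eq_one_or_neg_one_of_finrank_two hp2 hU (by rw [← map_mul, ← pow_two, hx, map_one])
      (hdet x)).resolve_left fun h => h1 (hτ' x h)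
  have hodd : Odd (Nat.card (H ⧸ τ.ker)) := by
    obtain ⟨P⟩ : Nonempty (Sylow 2 (H ⧸ τ.ker)) := inferInstance
    have hc : IsCyclic (P : Subgroup (H ⧸ τ.ker)) := by
      refine (h2.of_surjective f hfs).isCyclic_of_uniq P.isPGroup' fun a _ b _ ha hb => ?_
      have h3 := hinv a (by rw [← ha, pow_orderOf_eq_one]) (by rintro rfl; simp at ha)
      have h4 := hinv b (by rw [← hb, pow_orderOf_eq_one]) (by rintro rfl; simp at hb)
      have h5 : a * b = 1 := hτ' _ (by rw [map_mul, h3, h4]; simp)
      have h6 : b * b = 1 := by rw [← pow_two, ← hb, pow_orderOf_eq_one]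
      exact mul_right_cancel (h5.trans h6.symm)
    obtain ⟨Q, N, hN, hNQ⟩ := PCompl.hnpc_two_of_isCyclic P hc
    obtain ⟨m, hm⟩ := Q.isPGroup'.exists_card_eq
    have h3 := hgen N fun s hs => by
      obtain ⟨n, hn⟩ := hSp s hs
      refine mem_of_coprime_index (coprime_orderOf_of_pow (p := p) (k := n) ?_
        (by rw [← map_pow, hn, map_one]))
      rw [hNQ.symm.index_eq_card, hm]
      exact Nat.Coprime.pow_right _ ((Nat.coprime_primes hp.out Nat.prime_two).2 hp2)
    have h4 := hNQ.symm.index_eq_card
    rw [h3, index_top] at h4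
    have h5 := Q.not_dvd_index
    rw [← (Q : Subgroup (H ⧸ τ.ker)).card_mul_index, ← h4, one_mul, ← Nat.not_even_iff_odd,
      even_iff_two_dvd]
    exact h5
  refine FT.der1_odd_GL2_charf hodd hU τ' (x := f g) ?_ (H9.natCast_ne_zero_of_coprime k p
    (hg.coprime_dvd_left (orderOf_map_dvd f g)))
  have h3 := hgen ((CommGroup.primaryComponent (Abelianization (H ⧸ τ.ker)) p).comap
    Abelianization.of) fun s hs => by
      obtain ⟨n, hn⟩ := hSp s hs
      exact ⟨n, show Abelianization.of (f s) ^ p ^ n = 1 by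
        rw [← map_pow, ← map_pow, hn, map_one, map_one]⟩
  obtain ⟨n, hn⟩ : ∃ n, Abelianization.of (f g) ^ p ^ n = 1 := h3.ge (mem_top (f g))
  have h4 : (orderOf (Abelianization.of (f g))).Coprime (p ^ n) := Nat.Coprime.pow_right _
    (hg.coprime_dvd_left ((orderOf_map_dvd _ _).trans (orderOf_map_dvd f g)))
  rw [← Abelianization.ker_of]
  exact mem_bot.1 (FrobNPC.mem_of_pow_mem_of_coprime h4 (mem_bot.2 hn))

theorem dih_quadratic_pair.{v} [IsAlgClosed k] (hp2 : p ≠ 2) {H : Type*} [Group H]
    [Finite H] (h2 : Dih H) {a b : H} (hS : closure {a, b} = ⊤) (ha : ∃ n, a ^ p ^ n = 1)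
    (hb : ∃ n, b ^ p ^ n = 1) {g : H} (hg : (orderOf g).Coprime p) (n : ℕ) :
    ∀ (W : Type v) [AddCommGroup W] [Module k W] [FiniteDimensional k W] (ρ : H →* End k W),
      finrank k W = n → (ρ a - 1) * (ρ a - 1) = 0 → (ρ b - 1) * (ρ b - 1) = 0 → ρ g = 1 := by
  induction n using Nat.strong_induction_on with
  | _ n ih =>
  intro W _ _ _ ρ hn hx hy
  rcases subsingleton_or_nontrivial W with hW | hW
  · exact Subsingleton.elim _ _
  set x := ρ a - 1 with hxd
  set y := ρ b - 1 with hyd
  have hxx : ∀ w, x (x w) = 0 := fun w => congrArg (fun T : End k W => T w) hx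
  have hyy : ∀ w, y (y w) = 0 := fun w => congrArg (fun T : End k W => T w) hy
  have hρa : ∀ w, ρ a w = w + x w := fun w => by simp [hxd]
  have hρb : ∀ w, ρ b w = w + y w := fun w => by simp [hyd]
  obtain ⟨c, hc⟩ := Module.End.exists_eigenvalue (x * y + y * x)
  obtain ⟨v, hv⟩ := hc.exists_hasEigenvector
  obtain ⟨w, hw0, hw1, hw2⟩ : ∃ w : W, w ≠ 0 ∧ x w = 0 ∧ x (y w) = c • w := by
    have h1 : x (y v) + y (x v) = c • v := hv.apply_eq_smul
    by_cases h : x v = 0
    · exact ⟨v, hv.2, h, by rwa [h, map_zero, add_zero] at h1⟩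
    · refine ⟨x v, h, hxx v, ?_⟩
      have := congrArg x h1
      rwa [map_add, hxx, zero_add, map_smul] at this
  have hinv : ∀ U : Submodule k W, U ≤ U.comap (ρ a) → U ≤ U.comap (ρ b) →
      ∀ h, U ≤ U.comap (ρ h) := by
    intro U h1 h3 h
    let K : Submonoid H :=
      { carrier := {h | U ≤ U.comap (ρ h)}
        mul_mem' := fun {s t} hs ht u hu => by
          rw [Submodule.mem_comap, H9.rho_mul_apply]
          exact hs (ht hu)
        one_mem' := fun u hu => by simpa using hu }
    have h4 : h ∈ closure ({a, b} : Set H) := hS ▸ mem_top h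
    induction h4 using closure_induction with
    | mem s hs => rcases hs with rfl | rfl <;> assumption
    | one => exact K.one_mem
    | mul s t _ _ hs ht => exact K.mul_mem hs ht
    | inv s _ hs =>
      have h5 : s⁻¹ = s ^ (orderOf s - 1) := by
        rw [inv_eq_iff_mul_eq_one, ← pow_succ', Nat.sub_add_cancel (orderOf_pos s),
          pow_orderOf_eq_one]
      rw [h5]
      exact K.pow_mem hs _
  obtain ⟨U, hU0, hU, hUg⟩ : ∃ U : Submodule k W, U ≠ ⊥ ∧ (∀ h, U ≤ U.comap (ρ h)) ∧
      ∀ u ∈ U, ρ g u = u := by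
    by_cases h : y w = 0
    · have hyw := h
      have h1 : ∀ h, ρ h w = w := by
        intro h
        have h4 : h ∈ closure ({a, b} : Set H) := hS ▸ mem_top h
        induction h4 using closure_induction with
        | mem s hs =>
          rcases hs with rfl | rfl
          · rw [hρa, hw1, add_zero]
          · rw [hρb, hyw, add_zero]
        | one => simp
        | mul s t _ _ hs ht => rw [H9.rho_mul_apply, ht, hs]
        | inv s _ hs =>
          conv_lhs => rw [← hs]
          rw [← H9.rho_mul_apply, inv_mul_cancel, map_one, End.one_apply]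
      have h3 : ∀ h, ∀ u ∈ Submodule.span k {w}, ρ h u = u := by
        intro h u hu
        obtain ⟨d, rfl⟩ := Submodule.mem_span_singleton.1 hu
        rw [map_smul, h1]
      exact ⟨Submodule.span k {w}, by simpa using hw0,
        fun h u hu => by rw [Submodule.mem_comap, h3 h u hu]; exact hu, h3 g⟩
    · set U := Submodule.span k {w, y w} with hUd
      have hwU : w ∈ U := Submodule.subset_span (by simp)
      have hywU : y w ∈ U := Submodule.subset_span (by simp)
      have hU := hinv U (by
          rw [hUd, Submodule.span_le]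
          rintro _ (rfl | rfl)
          · simpa [hρa, hw1] using hwU
          · simpa [hρa, hw2] using U.add_mem hywU (U.smul_mem c hwU))
        (by
          rw [hUd, Submodule.span_le]
          rintro _ (rfl | rfl)
          · simpa [hρb] using U.add_mem hwU hywU
          · simpa [hρb, hyy] using hywU)
      have hli : LinearIndependent k ![w, y w] := by
        rw [LinearIndependent.pair_iff]
        intro s t hst
        have h1 := congrArg y hst
        rw [map_add, map_smul, map_smul, hyy, smul_zero, add_zero, map_zero, smul_eq_zero] at h1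
        have h3 := h1.resolve_right h
        rw [h3, zero_smul, zero_add, smul_eq_zero] at hst
        exact ⟨h3, hst.resolve_right h⟩
      have hfin : finrank k U = 2 := by
        have := finrank_span_eq_card hli
        rwa [Matrix.range_cons, Matrix.range_cons, Matrix.range_empty, Set.union_empty,
          Set.singleton_union] at this
      have h1 := dih_finrank_two hp2 h2 hS (by rintro _ (rfl | rfl) <;> assumption) hfin
        (Representation.subrepresentation ρ U hU) hg
      exact ⟨U, fun h0 => hw0 (by simpa [h0] using hwU), hU, fun u hu =>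
        congrArg (fun T : End k U => (T ⟨u, hu⟩ : W)) h1⟩
  have hq : ∀ (h : H) (w : W), Representation.quotient ρ U hU h (Submodule.Quotient.mk w) =
      Submodule.Quotient.mk (ρ h w) := fun h w => rfl
  have h1 := ih _ (by
      have := Submodule.finrank_quotient_add_finrank U
      have h3 := Submodule.one_le_finrank_iff.2 hU0
      omega) (W ⧸ U) (Representation.quotient ρ U hU) rfl
    (LinearMap.ext fun w => by
      obtain ⟨w, rfl⟩ := Submodule.Quotient.mk_surjective U w
      have : (Representation.quotient ρ U hU a - 1) (Submodule.Quotient.mk w) =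
        Submodule.Quotient.mk (x w) := rfl
      rw [End.mul_apply, this]
      exact congrArg Submodule.Quotient.mk (hxx w))
    (LinearMap.ext fun w => by
      obtain ⟨w, rfl⟩ := Submodule.Quotient.mk_surjective U w
      have : (Representation.quotient ρ U hU b - 1) (Submodule.Quotient.mk w) =
        Submodule.Quotient.mk (y w) := rfl
      rw [End.mul_apply, this]
      exact congrArg Submodule.Quotient.mk (hyy w))
  refine eq_one_of_sq_sub_one (H9.natCast_ne_zero_of_coprime k p hg)
    (by rw [← map_pow, pow_orderOf_eq_one, map_one]) (LinearMap.ext fun w => ?_)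
  have h3 : ρ g w - w ∈ U := by
    rw [← Submodule.Quotient.eq, ← hq, h1]
    rfl
  change ρ g (ρ g w - w) - (ρ g w - w) = 0
  rw [hUg _ h3, sub_self]

end linear

variable {p : ℕ}

theorem stable_of_dih {G : Type*} [Group G] [Finite G] [hp : Fact p.Prime] (hp2 : p ≠ 2)
    (h2 : Dih G) (P : Subgroup G) [P.Normal] (hP : IsPGroup p P) (x : G)
    (hx : ∃ k, x ^ p ^ k = 1) (hq : Quad x P) :
    ∀ g ∈ normalClosure ({x} : Set G), (orderOf g).Coprime p → g ∈ centralizer (P : Set G) := by
  set C := centralizer (P : Set G) with hC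
  set f := QuotientGroup.mk' C with hf
  have h1 : f x ∈ pCore p (G ⧸ C) := by
    refine baer_suzuki fun y => ?_
    obtain ⟨y, rfl⟩ := QuotientGroup.mk'_surjective C y
    set H := closure {x, y * x * y⁻¹} with hH
    have hxH : x ∈ H := subset_closure (by simp)
    have hyH : y * x * y⁻¹ ∈ H := subset_closure (by simp)
    have key : ∀ g ∈ H, (orderOf g).Coprime p → g ∈ C := by
      intro g hg hc
      have hn : ∀ g : G, g ∈ normalizer (P : Set G) := fun g => le_normalizer_of_normal (mem_top g)
      obtain ⟨W, _, _, _, ρ, ι, S⟩ := H9.exists_secRep p H.subtype P ((frattini P).map P.subtype)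
        (map_subtype_le _) (fun g => hn g) (fun g => le_normalizer_frattini le_rfl (hn g))
        (commutator_le_frattini_map hP) fun a ha => pow_mem_frattini_map hP ha
      have h3 : ∀ z : H, Quad (z : G) P → (ρ z - 1) * (ρ z - 1) = 0 := fun z hz => by
        rw [← pow_two]
        exact (S.sub_one_pow_eq_zero_iff z 2).2 fun a ha => by
          have := hz a ha
          simp only [Function.iterate_succ, Function.iterate_zero, Function.comp_apply, id_eq,
            coe_subtype, this]
          exact one_mem _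
      have h4 := dih_quadratic_pair hp2 (h2.of_injective _ H.subtype_injective)
        (a := ⟨x, hxH⟩) (b := ⟨_, hyH⟩) (by
          apply map_injective H.subtype_injective
          rw [MonoidHom.map_closure, ← MonoidHom.range_eq_map, range_subtype, Set.image_pair]
          rfl) (hx.imp fun _ h => Subtype.ext h)
        (hx.imp fun _ h => Subtype.ext (by simp [h])) (g := ⟨g, hg⟩) (by rwa [← orderOf_coe])
        _ W ρ rfl (h3 _ hq) (h3 _ (hq.conj (hn y)))
      have h5 := (S.rho_eq_one_iff _).1 h4
      have h6 : ⁅P, zpowers g⁆ = ⊥ := by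
        refine commutator_eq_bot_of_le_frattini
          (coprime_card_of_isPGroup (by rwa [Nat.card_zpowers]) hP) ?_
        refine (le_centMod_iff.1 (zpowers_le_of_mem ⟨le_normalizer_frattini le_rfl (hn g),
          fun a ha => ?_⟩)).2
        rw [← commutatorElement_inv]
        exact inv_mem (h5 a ha)
      exact commutator_eq_bot_iff_le_centralizer'.1 h6 (mem_zpowers g)
    have h3 : closure {f x, f y * f x * (f y)⁻¹} = H.map f := by
      rw [hH, MonoidHom.map_closure, Set.image_pair, map_mul, map_mul, map_inv]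
    rw [h3]
    rintro ⟨_, g, hg, rfl⟩
    obtain ⟨k, hk⟩ := PRes.exists_pow_pow_coprime hp.out g
    exact ⟨k, Subtype.ext ((QuotientGroup.eq_one_iff _).2 (key _ (pow_mem hg _) hk))⟩
  intro g hg hc
  have h3 : f g ∈ pCore p (G ⧸ C) := normalClosure_le_normal (N := (pCore p (G ⧸ C)).comap f)
    (by rintro _ rfl; exact h1) hg
  obtain ⟨k, hk⟩ := pCore_isPGroup p ⟨_, h3⟩
  exact FrobNPC.mem_of_pow_mem_of_coprime (Nat.Coprime.pow_right k hc)
    ((QuotientGroup.eq_one_iff _).1 (congrArg Subtype.val hk))

end stable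

theorem Dih.stableIn {X : Type*} [Group X] [Finite X] (hX : Dih X) {p : ℕ} [Fact p.Prime]
    (hp2 : p ≠ 2) (M : Subgroup X) : H1.StableIn p M :=
  H1.stableIn_of_top fun P _ hP x hx hq => stable_of_dih hp2 (hX.subgroup M) P hP x hx hq

end CfsgLib.GD
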