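import Cfsg.Agent.Lib.GD.Quo
import Cfsg.Agent.Lib.GD.Num
import Cfsg.Agent.Lib.GD.Stable

/-!
# Maximal subgroups containing the centralizer of an involution: Bender's method
-/

set_option autoImplicit false

namespace CfsgLib.GD.LD

open Subgroup Cfsg CfsgLib.FT CfsgLib.FT.BGN CfsgLib.Cop CfsgLib.GW CfsgLib.GW.LD
open scoped commutatorElement

universe u

variable {G : Type u} [Group G] [Finite G]

theorem eq_of_central {S : Subgroup G} {x y t v : G} (h : DF ⊤ S x y t) (hv : orderOf v = 2)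
    (hc : v ∈ 𝐂(S)) : v = t := by
  have h1 : v ∈ S := zpowers_le.1 (le_sylow_of_norm h.syl (isPGroup_zpowers_inv hv) le_top
    (zpowers_le_of_mem (cent_le_norm _ hc)))
  by_cases hA : v ∈ zpowers x
  · exact (h.uniq hA (mul_self_of_inv hv)).resolve_left (ne_one_of_inv hv)
  have h2 := h.refl_inv h1 hA x (mem_zpowers x)
  rw [← hc x h.xS, mul_inv_cancel_right] at h2
  have h3 : orderOf x ∣ 2 := orderOf_dvd_of_pow_eq_one (by rw [sq]; nth_rw 2 [h2]; simp)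
  have := Nat.le_of_dvd two_pos (h.four_dvd.trans h3)
  omega

/-- No maximal subgroup over the centralizer of an involution `u` has its core in `C(u)`. -/
def All (G : Type u) [Group G] : Prop :=
  ∀ u : G, orderOf u = 2 → ∀ M, IsCoatom M → 𝐂[u] ≤ M → ¬ Od M ≤ 𝐂[u]

theorem All.fitC (h : All G) (hG : Hyp G) {t : G} (ht : orderOf t = 2) {M : Subgroup G}
    (hM : IsCoatom M) (hle : 𝐂[t] ≤ M) : M ⊓ 𝐂(fittingOf M) ≤ fittingOf M := by
  refine (dichotomy hG hM.1).resolve_right fun ⟨L, hL⟩ => h t ht M hM hle ?_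
  have hL' : TE M L := hL.elim (·.toTE) (·.toTE)
  obtain ⟨s, h4⟩ := hG.toSimp.exists_four ht
  obtain ⟨e, he, h2, -⟩ := hG.toSimp.exists_e h4
  obtain ⟨n, -, hn⟩ := (Nat.dvd_prime_pow Nat.prime_two (m := 2)).1 (orderOf_dvd_of_pow_eq_one
    (x := e) (by rw [show 2 ^ 2 = 2 * 2 from rfl, pow_mul, sq e, h2, sq, h4.tt]))
  have h3 : t ∈ L := h2 ▸ hL'.mul_self_mem hG.dih (hle he) (isPGroup_zpowers_iff.2 ⟨n, hn⟩)
  exact fun o ho => U4.mem_cent1.2 (hL'.cent h3 o ho)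

theorem All.two (h : All G) (hG : Hyp G) {t : G} (ht : orderOf t = 2) {M : Subgroup G}
    (hM : IsCoatom M) (hle : 𝐂[t] ≤ M) : pCoreOf 2 M = ⊥ := by
  by_contra h0
  have hp := H1.pCoreOf_isPGroup (p := 2) M
  obtain ⟨s, h4⟩ := hG.toSimp.exists_four ht
  obtain ⟨S, x, hS⟩ := hG.toSimp.exists_frame h4
  obtain ⟨v, hv, h2, h3⟩ := exists_inv_cent hS.syl.isPGroup (K := pCoreOf 2 M)
    ((hS.S_le.trans hle).trans (H1.le_normalizer_pCoreOf M)) fun ho =>
      h0 (U4.eq_bot_of_forall fun z hz => eq_one_of_two_odd hp hz (odd_orderOf_of_mem ho hz))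
  rw [eq_of_central hS h2 h3] at hv
  refine h t ht M hM hle ((U4.le_cent_of_inf_eq_bot ((Od_le M).trans (H1.le_normalizer_pCoreOf M))
    ((H1.pCoreOf_le M).trans (le_norm_Od M)) (U4.eq_bot_of_forall fun z hz =>
      eq_one_of_two_odd hp hz.2 (odd_of_mem_Od hz.1))).trans (U4.cent_le_cent1 hv))

theorem le_cent_of_te (hG : Hyp G) {M Q L : Subgroup G} (hM : M ≠ ⊤) (hL : TE M L) {t : G}
    (ht : orderOf t = 2) (htL : t ∈ L) {p : ℕ} (hp : p.Prime) (hp2 : p ≠ 2) (hQ : IsPGroup p Q)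
    (hQM : Q ≤ M) (hn : M ⊓ 𝐂[t] ≤ 𝐍(Q)) : Q ≤ 𝐂[t] := by
  rw [← U4.cent_zpowers, ← comm_eq_bot_iff]
  exact commutator_eq_bot_of_commutator_commutator_eq_bot
    (zpowers_le_of_mem (hn ⟨hL.le htL, U4.self_mem_cent1 t⟩))
    (coprime_zpowers_inv ht (odd_card_of_isPGroup hp hp2 hQ)) (comm_eq_bot_iff.2
      ((commutator_le_Od hG hM ht (hL.le htL) hp hp2 hQ hQM hn).trans
        (le_centralizer_comm (zpowers_le_of_mem (hL.cent htL)))))

/-- a well-chosen maximal subgroup properly containing `C(t)` -/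
structure Top (t : G) (H : Subgroup G) : Prop where
  ot : orderOf t = 2
  max : IsCoatom H
  le : 𝐂[t] ≤ H
  all : All G
  two : pCoreOf 2 H = ⊥
  choice : ∀ M, IsCoatom M → 𝐂[t] ≤ M → ∀ q : ℕ, q.Prime → pCoreOf q M ≠ ⊥ →
    Inverts t (pCoreOf q M) → ∃ r : ℕ, r.Prime ∧ pCoreOf r H ≠ ⊥ ∧ Inverts t (pCoreOf r H)

theorem Top.cj {t : G} {H : Subgroup G} (h : Top t H) (g : G) : Top (g * t * g⁻¹) (g •ᶜ H) := by
  refine ⟨by rw [U4.orderOf_conj, h.ot], isCoatom_map_conj h.max g, cj_cent1 g t ▸ map_mono h.le,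
    h.all, by rw [H1.pCoreOf_map_conj, h.two, Subgroup.map_bot], fun M hM hle q hq h0 hi => ?_⟩
  have := inverts_cj hi g⁻¹
  rw [← H1.pCoreOf_map_conj, show g⁻¹ * (g * t * g⁻¹) * g⁻¹⁻¹ = t by group] at this
  obtain ⟨r, hr, h1, h2⟩ := h.choice (g⁻¹ •ᶜ M) (isCoatom_map_conj hM _)
    (by rwa [← cj_cent1, cj_le_iff] at hle) q hq
    (by rwa [H1.pCoreOf_map_conj, Ne, cj_eq_bot_iff]) this
  exact ⟨r, hr, by rwa [H1.pCoreOf_map_conj, Ne, cj_eq_bot_iff],
    H1.pCoreOf_map_conj H g ▸ inverts_cj h2 g⟩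

namespace Top
variable {t : G} {H : Subgroup G} (h : Top t H) (hG : Hyp G)
include h

omit [Finite G] in
theorem mem : t ∈ H := h.le (U4.self_mem_cent1 t)

omit [Finite G] in
theorem ne_two {p : ℕ} (hp : pCoreOf p H ≠ ⊥) : p ≠ 2 := fun e => hp (e ▸ h.two)

theorem odd (p : ℕ) [hp : Fact p.Prime] : Odd (Nat.card (pCoreOf p H)) := by
  by_cases e : p = 2
  · rw [e, h.two, card_bot]; exact odd_one
  · exact odd_card_of_isPGroup hp.1 e (H1.pCoreOf_isPGroup H)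

include hG

theorem fitC : H ⊓ 𝐂(fittingOf H) ≤ fittingOf H := h.all.fitC hG h.ot h.max h.le

theorem cent_le {X Y : Subgroup G} (h0 : X ≠ ⊥) (h1 : X ≤ H) (h2 : H ≤ 𝐍(X)) (h3 : X ≤ Y) :
    𝐂(Y) ≤ H :=
  (centralizer_le h3).trans ((cent_le_norm X).trans (hG.toSimp.norm_eq h.max h0 h1 h2).le)

theorem cent_le' {p : ℕ} [Fact p.Prime] (hp : pCoreOf p H ≠ ⊥) {M : Subgroup G}
    (h3 : Zp p H ≤ M) : 𝐂(pCoreOf p H ⊓ M) ≤ H :=
  h.cent_le hG (Zp_ne_bot hp) (inf_le_left.trans (H1.pCoreOf_le H)) (le_norm_Zp p H)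
    (le_inf inf_le_left h3)

theorem not_cent : ¬ fittingOf H ≤ 𝐂[t] := fun e => ne_one_of_inv h.ot (mem_bot.1
  ((eq_bot_of_cent_fit (h.fitC hG) h.two (isPGroup_zpowers_inv h.ot) (zpowers_le_of_mem h.mem)
    (le_centralizer_comm (U4.cent_zpowers t ▸ e))).le (mem_zpowers t)))

theorem exists_not_cent : ∃ (p : ℕ) (_ : Fact p.Prime), ¬ pCoreOf p H ≤ 𝐂[t] := by
  by_contra hc
  push Not at hc
  exact h.not_cent hG (H1.fittingOf_le_of_forall fun p _ => hc p ‹_›)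

/-- the cores of `M` for primes in `π` lie in `H` -/
theorem pc_le (h2 : Two H) {M : Subgroup G}
    (hC : ∀ (p : ℕ) [Fact p.Prime], pCoreOf p H ≠ ⊥ → 𝐂(pCoreOf p H ⊓ M) ≤ H)
    {q : ℕ} [Fact q.Prime] (hq : pCoreOf q H ≠ ⊥) : pCoreOf q M ≤ H :=
  let ⟨p, _, hp, h0⟩ := h2 q
  (L1 hp (hC q hq)).trans (hC p h0)

theorem exists_inv (h2 : Two H) {M : Subgroup G} (hM : IsCoatom M) (hF : fittingOf H ≤ M)
    (ht : t ∈ M) (hC : M ⊓ 𝐂(fittingOf M) ≤ fittingOf M) (hne : M ≠ H) :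
    ∃ (q : ℕ) (_ : Fact q.Prime), pCoreOf q M ≠ ⊥ ∧
      pCoreOf q M ⊓ H = ⊥ ∧ Inverts t (pCoreOf q M) := by
  by_contra hc
  push Not at hc
  obtain ⟨r, hr, e, -⟩ := H1.bender_fitting hne.symm hF (H1.fittingOf_le_of_forall fun q _ => by
      by_cases hq : pCoreOf q H = ⊥
      · have h3 := L2 (h.fitC hG) (inf_le_left.trans hF) hq
        by_contra h4
        exact hc q ‹_› (fun e => h4 (e.le.trans bot_le)) h3 (inverts_pc h.ot ht
          (le_bot_iff.1 (h3 ▸ inf_le_inf_left _ h.le))).1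
      · exact h.pc_le hG h2 (fun p _ hp => h.cent_le' hG hp
          (inf_le_left.trans ((H1.pCoreOf_le_fittingOf p H).trans hF))) hq) (h.fitC hG) hC
    (fun q _ hq => inf_le_right.trans
      (hG.toSimp.norm_eq h.max hq (H1.pCoreOf_le H) (H1.le_normalizer_pCoreOf H)).le)
    fun q _ hq => inf_le_right.trans
      (hG.toSimp.norm_eq hM hq (H1.pCoreOf_le M) (H1.le_normalizer_pCoreOf M)).le
  obtain ⟨q, _, h3, h4⟩ := h2 r
  have := Fact.mk hr
  exact h4 (le_bot_iff.1 (pc_inf h3 H H ▸ le_inf le_rfl (e ▸ H1.pCoreOf_le_fittingOf q H)))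

theorem U0 (h2 : Two H) {M : Subgroup G} (hM : IsCoatom M) (hF : fittingOf H ≤ M)
    (ht : 𝐂[t] ≤ M) : M = H := by
  by_contra hne
  obtain ⟨q, hq, h0, h1, h3⟩ := h.exists_inv hG h2 hM hF (ht (U4.self_mem_cent1 t))
    (h.all.fitC hG h.ot hM ht) hne
  obtain ⟨r, hr, h4, h5⟩ := h.choice M hM ht q hq.1 h0 h3
  have := Fact.mk hr
  exact h0 (le_bot_iff.1 (h1 ▸ le_inf le_rfl ((le_centralizer_comm ((le_comm_of_inverts h5
    (h.odd r)).trans (h3.commutator_le_cent (mul_self_of_inv h.ot)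
      (((H1.pCoreOf_le_fittingOf r H).trans hF).trans (H1.le_normalizer_pCoreOf M))))).trans
    (h.cent_le hG h4 (H1.pCoreOf_le H) (H1.le_normalizer_pCoreOf H) le_rfl))))

theorem ne_top {X : Subgroup G} (h0 : X ≠ ⊥) (h1 : X ≤ H) : 𝐍(X) ≠ ⊤ :=
  hG.toSimp.norm_ne_top h0 fun e => h.max.1 (top_le_iff.1 (e ▸ h1))

theorem U1 (h2 : Two H) {M : Subgroup G} (hM : IsCoatom M) (hF : fittingOf H ≤ M)
    (ht : t ∈ M) : M = H := by
  by_contra hne
  obtain ⟨p, hp, h0⟩ := h.exists_not_cent hG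
  have hP := H1.le_normalizer_pCoreOf (p := p) H
  have hPF := H1.pCoreOf_le_fittingOf p H
  have hX : ⁅pCoreOf p H, zpowers t⁆ ≤ pCoreOf p H :=
    commutator_le_left_of_le_normalizer (zpowers_le_of_mem (hP h.mem))
  obtain ⟨K, hK, h4⟩ := exists_max (h.ne_top hG (X := ⁅pCoreOf p H, zpowers t⁆)
    (fun e => h0 (U4.cent_zpowers t ▸ comm_eq_bot_iff.1 e)) (hX.trans (H1.pCoreOf_le H)))
  rw [h.U0 hG h2 hK ((H1.fittingOf_le_of_forall fun q _ => by
      by_cases e : q = p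
      · subst e; exact normalizer_commutator_ge_left _ _
      · exact ((pc_le_cent e H).trans (centralizer_le hX)).trans (cent_le_norm _)).trans h4)
    ((le_normalizer_commutator (h.le.trans hP) (U4.cent_zpowers t ▸ cent_le_norm _)).trans h4)]
    at h4
  have h5 := (cent_le_norm _).trans h4
  rcases dichotomy hG hM.1 with hC | ⟨L, hL⟩
  · obtain ⟨q, hq, h0, h1, h3⟩ := h.exists_inv hG h2 hM hF ht hC hne
    exact h0 (le_bot_iff.1 (h1 ▸ le_inf le_rfl ((le_centralizer_comm (h3.commutator_le_cent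
      (mul_self_of_inv h.ot) ((hPF.trans hF).trans (H1.le_normalizer_pCoreOf M)))).trans h5)))
  have hL' : TE M L := hL.elim (·.toTE) (·.toTE)
  have h6 : L ≤ H := (hL'.cent.trans (centralizer_le (commutator_le_Od hG hM.1 h.ot ht hp.1
    (h.ne_two fun e => h0 (e.le.trans bot_le)) (H1.pCoreOf_isPGroup H) (hPF.trans hF)
    ((inf_le_right.trans h.le).trans hP)))).trans h5
  have h7 := h6.trans (le_norm_fittingOf H)
  have ho := cop_fit h.two (isPGroup_zpowers_inv h.ot)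
  rw [card_zpowers_inv h.ot, Nat.coprime_two_left] at ho
  have h8 : L ⊓ fittingOf H ≤ 𝐂(L) := le_centralizer_comm (hL'.cent.trans (centralizer_le
    ((le_Od (M := L) inf_le_left (H1.le_normalizer_inf le_normalizer h7)
      (GW.odd_card_of_le ho inf_le_right)).trans (Od_le_Od hL'.le hL'.norm))))
  have h9 : ⁅⁅L, fittingOf H⁆, L⁆ = ⊥ :=
    comm_eq_bot_iff.2 ((comm_le_inf h7 (hF.trans hL'.norm)).trans h8)
  have h10 := commutator_commutator_eq_bot_of_rotate h9 (by rwa [commutator_comm (fittingOf H)])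
  rw [hL'.perf, comm_eq_bot_iff] at h10
  haveI := fittingOf_nil H
  exact hL'.ne (eq_bot_of_perf hL'.perf (isSolvable_of_le (K := fittingOf H) inferInstance
    ((le_inf h6 h10).trans (h.fitC hG))))

theorem U1' (h2 : Two H) {X : Subgroup G} (h0 : X ≠ ⊥) (h1 : X ≤ H) (hF : fittingOf H ≤ 𝐍(X))
    (ht : t ∈ 𝐍(X)) : 𝐂(X) ≤ H := by
  obtain ⟨K, hK, h4⟩ := exists_max (h.ne_top hG h0 h1)
  exact (cent_le_norm X).trans (h.U1 hG h2 hK (hF.trans h4) (h4 ht) ▸ h4)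

theorem star (h2 : Two H) {M : Subgroup G} (hM : IsCoatom M) (ht : t ∈ M)
    (hC : M ⊓ 𝐂(fittingOf M) ≤ fittingOf M) (hF : fittingOf M ≤ H)
    (hW : ∀ (r : ℕ) [Fact r.Prime], pCoreOf r H ≠ ⊥ → ∃ W, W ≠ ⊥ ∧ W ≤ pCoreOf r H ⊓ M ∧
      ∀ (q : ℕ) [Fact q.Prime], q ≠ r → W ≤ 𝐂(pCoreOf q M)) : M = H := by
  have h1 : ∀ (r : ℕ) [Fact r.Prime], pCoreOf r H ≠ ⊥ → 𝐂(pCoreOf r M ⊓ H) ≤ M := fun r _ hr => by
    obtain ⟨W, w0, w1, w2⟩ := hW r hr
    have h3 : pCoreOf r M ≠ ⊥ := fun e => w0 (eq_bot_of_cent_fit hC e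
      ((H1.pCoreOf_isPGroup H).to_le (w1.trans inf_le_left)) (w1.trans inf_le_right)
      (le_cent_fit fun q _ => by
        by_cases e' : q = r
        · subst e'; rw [e, cent_bot]; exact le_top
        · exact w2 q e'))
    rw [inf_eq_left.2 ((H1.pCoreOf_le_fittingOf r M).trans hF)]
    exact (cent_le_norm _).trans
      (hG.toSimp.norm_eq hM h3 (H1.pCoreOf_le M) (H1.le_normalizer_pCoreOf M)).le
  refine h.U1 hG h2 hM (H1.fittingOf_le_of_forall fun q _ => ?_) ht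
  by_cases hq : pCoreOf q H = ⊥
  · exact hq.le.trans bot_le
  obtain ⟨p, _, hp, h0⟩ := h2 q
  exact (L1 hp (h1 q hq)).trans (h1 p h0)

end Top

/-- the configuration: `Y = [C_P(s), t] ≠ 1` -/
structure Conf (t s : G) (H Y : Subgroup G) (p : ℕ) : Prop extends Top t H where
  four : Four t s
  ne : Y ≠ ⊥
  Yle : Y ≤ pCoreOf p H ⊓ 𝐂[s]
  comm : ⁅Y, zpowers t⁆ = Y
  nS : V t s ≤ 𝐍(Y)
  nc : ∀ g ∈ H, g * t * g⁻¹ ≠ s

namespace Conf
variable {t s : G} {H Y : Subgroup G} {p : ℕ} [hp : Fact p.Prime] (h : Conf t s H Y p) (hG : Hyp G)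
include h

omit [Finite G] hp in
theorem YP : Y ≤ pCoreOf p H := h.Yle.trans inf_le_left

omit [Finite G] hp in
theorem pne : pCoreOf p H ≠ ⊥ := fun e => h.ne (le_bot_iff.1 (e ▸ h.YP))

omit [Finite G] hp in
theorem Yp : IsPGroup p Y := (H1.pCoreOf_isPGroup H).to_le h.YP

omit [Finite G] hp in
theorem not_cent : ¬ Y ≤ 𝐂[t] := fun e =>
  h.ne (h.comm ▸ comm_eq_bot_iff.2 (U4.cent_zpowers t ▸ e))

include hG

omit hp in
theorem exists_conj : ∃ d : G, Top s (d •ᶜ H) ∧ d •ᶜ H ≠ H := by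
  obtain ⟨d, e⟩ := hG.toSimp.exists_conj h.ot h.four.os
  refine ⟨d, e ▸ h.cj d, fun e' => h.nc d ?_ e⟩
  exact (hG.toSimp.norm_eq h.max (fun e' => h.pne (le_bot_iff.1 (e' ▸ H1.pCoreOf_le H))) le_rfl
    le_normalizer).le (mem_normalizer_of_map_conj_eq e')

theorem not_two (h2 : Two H) : False := by
  have h4 := h.four
  obtain ⟨d, hs, hne⟩ := h.exists_conj hG
  obtain ⟨e, hu⟩ : ∃ e : G, Top (t * s) (e •ᶜ H) :=
    let ⟨e, he⟩ := hG.toSimp.exists_conj h.ot h4.ots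
    ⟨e, he ▸ h.cj e⟩
  have pi : ∀ (g : G) (q : ℕ), pCoreOf q (g •ᶜ H) = ⊥ ↔ pCoreOf q H = ⊥ := fun g q => by
    rw [H1.pCoreOf_map_conj, cj_eq_bot_iff]
  have two : ∀ g : G, Two (g •ᶜ H) := fun g q =>
    let ⟨r, hr, a, b⟩ := h2 q
    ⟨r, hr, a, fun e => b ((pi g r).1 e)⟩
  have pd := pi d
  have pe := pi e
  have hcyc : IsCyclic ↥(fittingOf H ⊓ 𝐂(fittingOf H)) →
      IsCyclic ↥(fittingOf (e •ᶜ H) ⊓ 𝐂(fittingOf (e •ᶜ H))) := fun hc => by
    rw [U4.fit_conj, centralizer_map_conj, ← map_conj_inf]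
    exact isCyclic_cj hc e
  have t2 := two d
  have t3 := two e
  generalize d •ᶜ H = K at *
  generalize e •ᶜ H = L at *
  clear pi two
  have hYH := h.YP.trans (H1.pCoreOf_le H)
  have hYF := h.YP.trans (H1.pCoreOf_le_fittingOf p H)
  have hYK : Y ≤ K := (h.Yle.trans inf_le_right).trans hs.le
  have htK : t ∈ K := hs.le h4.symm.s_cent
  obtain ⟨M, hM, hYM⟩ := exists_max (h.toTop.ne_top hG h.ne hYH)
  have hCM := (cent_le_norm Y).trans hYM
  have hSM := h.nS.trans hYM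
  have htM := hSM (t_mem_V t s)
  have hsM := hSM (s_mem_V t s)
  have hYM' := le_normalizer.trans hYM
  have c1 : ∀ (r : ℕ) [Fact r.Prime], pCoreOf r H ≠ ⊥ → 𝐂(pCoreOf r H ⊓ M) ≤ H := fun r _ hr =>
    h.cent_le' hG hr (((Zp_le_cent r H).trans (centralizer_le hYF)).trans hCM)
  have k1 : ∀ (q : ℕ) [Fact q.Prime], q ≠ p → pCoreOf q K ≤ M := fun q _ hq =>
    (le_cent_of_cent_le h4.tt h.comm (H1.pCoreOf_isPGroup K).isNilpotent (hs.odd q)
      (H1.le_normalizer_pCoreOf K htK) (hYK.trans (H1.le_normalizer_pCoreOf K))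
      (coprime_of_isPGroup_ne h.Yp (H1.pCoreOf_isPGroup K) hq.symm)
      (le_cent_of_comm inf_le_left (hYK.trans (H1.le_normalizer_pCoreOf K)) h.YP
        ((inf_le_right.trans h.le).trans (H1.le_normalizer_pCoreOf H)) (pc_inf hq K H))).trans hCM
  have hC : M ⊓ 𝐂(fittingOf M) ≤ fittingOf M := by
    refine (dichotomy hG hM.1).resolve_right fun ⟨J, hJ⟩ => ?_
    have hJ' : TE M J := hJ.elim (·.toTE) (·.toTE)
    have a1 : J ≤ 𝐂(Y) := hJ'.cent.trans (centralizer_le (h.comm ▸ (commutator_mono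
      (le_inf h.YP hYM') le_rfl).trans (commutator_le_Od hG hM.1 h.ot htM hp.1 (h.ne_two h.pne)
      ((H1.pCoreOf_isPGroup H).to_le inf_le_left) inf_le_right (H1.le_normalizer_inf
        ((inf_le_right.trans h.le).trans (H1.le_normalizer_pCoreOf H))
        (inf_le_left.trans le_normalizer)))))
    have a2 : s ∈ 𝐂(Y) := fun y hy => U4.mem_cent1.1 (h.Yle hy).2
    have a3 : t ∉ 𝐂(Y) := fun e => h.not_cent fun y hy => U4.mem_cent1.2 (e y hy)
    have a4 : s ∈ J := ((hJ'.exists_mem_V hG.dih h4 hSM).resolve_left fun e => a3 (a1 e)).resolve_right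
      fun e => a3 ((mul_mem_cancel_right a2).1 (a1 e))
    refine hs.not_cent hG (H1.fittingOf_le_of_forall fun r hr => ?_)
    by_cases e0 : pCoreOf r K = ⊥
    · exact e0.le.trans bot_le
    have a5 : pCoreOf r K ⊓ M ≤ 𝐂[s] := le_cent_of_te hG hM.1 hJ' h4.os a4 hr.1 (hs.ne_two e0)
      ((H1.pCoreOf_isPGroup K).to_le inf_le_left) inf_le_right (H1.le_normalizer_inf
        ((inf_le_right.trans hs.le).trans (H1.le_normalizer_pCoreOf K))
        (inf_le_left.trans le_normalizer))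
    by_cases e : r = p
    swap
    · exact (le_inf le_rfl (k1 r e)).trans a5
    subst e
    rw [← U4.cent_zpowers] at a5 ⊢
    exact comm_eq_bot_iff.1 (commutator_eq_bot_of_pxq h.Yp (H1.pCoreOf_isPGroup K)
      (coprime_zpowers_inv h4.os (hr.1.odd_of_ne_two (hs.ne_two e0)))
      (hYK.trans (H1.le_normalizer_pCoreOf K))
      (zpowers_le_of_mem (H1.le_normalizer_pCoreOf K hs.mem))
      (comm_eq_bot_iff.2 (le_centralizer_comm (zpowers_le_of_mem a2)))
      ((inf_le_inf_left _ hCM).trans a5))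
  have c2 : ∀ (r : ℕ) [Fact r.Prime], pCoreOf r K ≠ ⊥ → 𝐂(pCoreOf r K ⊓ M) ≤ K := fun r _ hr => by
    by_cases e : r = p
    swap
    · exact hs.cent_le' hG hr (inf_le_left.trans (k1 r e))
    subst e
    have hn := hYK.trans (le_norm_Zp r K)
    refine (centralizer_le (le_inf (inf_le_left.trans inf_le_left) (inf_le_right.trans hCM) :
      Zp r K ⊓ 𝐂(Y) ≤ _)).trans (hs.U1' hG t2 (fun e => ?_)
        (inf_le_left.trans (inf_le_left.trans (H1.pCoreOf_le K)))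
        ((le_centralizer_comm (inf_le_left.trans (Zp_le_cent r K))).trans (cent_le_norm _))
        (inf_normalizer_le_normalizer_inf ⟨le_norm_Zp r K hs.mem,
          normalizer_le_normalizer_centralizer Y (h.nS (s_mem_V t s))⟩))
    exact inf_centralizer_ne_bot_of_isNilpotent (isPGroup_sup' hn
      ((H1.pCoreOf_isPGroup K).to_le inf_le_left) h.Yp).isNilpotent le_sup_left
      (sup_le le_normalizer hn) (Zp_ne_bot hr)
      (le_bot_iff.1 (e ▸ inf_le_inf_left _ (centralizer_le (le_sup_right (a := Zp r K)))))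
  have q1 : ∀ (q : ℕ) [Fact q.Prime], pCoreOf q H = ⊥ → pCoreOf q M ⊓ H = ⊥ := fun q _ hq =>
    L2 (h.fitC hG) (inf_le_right.trans ((centralizer_le (le_inf hYF hYM')).trans hCM)) hq
  have q2 : ∀ (q : ℕ) [Fact q.Prime], pCoreOf q H = ⊥ →
      Inverts t (pCoreOf q M) ∧ Odd (Nat.card (pCoreOf q M)) := fun q _ hq =>
    inverts_pc h.ot htM (le_bot_iff.1 (q1 q hq ▸ inf_le_inf_left _ h.le))
  have q3 : ∀ (q : ℕ) [Fact q.Prime], pCoreOf q H = ⊥ → pCoreOf q M ≤ L := fun q _ hq => by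
    have hMQ := H1.le_normalizer_pCoreOf (p := q) M
    have a1 : Y ≤ 𝐂(pCoreOf q M) := h.comm ▸ (q2 q hq).1.commutator_le_cent h4.tt (hYM'.trans hMQ)
    have hQ := (H1.pCoreOf_isPGroup (p := q) M).to_le (inf_le_left (b := K))
    have a2 : pCoreOf q M ⊓ K = ⊥ := eq_bot_of_cent_fit (hs.fitC hG) ((pd q).2 hq) hQ inf_le_right
      (le_cent_fit fun r _ => by
        by_cases hr : pCoreOf r K = ⊥
        · rw [hr, cent_bot]; exact le_top
        have hrq : r ≠ q := fun e => hr (e ▸ (pd q).2 hq)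
        have hK := inf_le_right.trans (H1.le_normalizer_pCoreOf (p := r) K) (a := pCoreOf q M ⊓ K)
        refine le_centralizer_comm ?_
        by_cases e : r = p
        swap
        · exact le_cent_of_comm le_rfl hK inf_le_left ((k1 r e).trans hMQ) (pc_inf hrq K M)
        subst e
        exact comm_eq_bot_iff.1 (commutator_eq_bot_of_pxq h.Yp (H1.pCoreOf_isPGroup K)
          (H1.coprime_card_of_isPGroup_of_ne hrq.symm hQ) (hYK.trans (H1.le_normalizer_pCoreOf K))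
          hK (comm_eq_bot_iff.2 (a1.trans (centralizer_le inf_le_left))) (le_cent_of_comm
            inf_le_left hK inf_le_left ((inf_le_right.trans hCM).trans hMQ) (pc_inf hrq K M))))
    have a3 := (inverts_pc hs.ot hsM (le_bot_iff.1 (a2 ▸ inf_le_inf_left _ hs.le))).1
    refine fun x hx => hu.le (U4.mem_cent1_comm.1 (U4.mem_cent1.2 ?_))
    calc t * s * x = t * (s * x * s⁻¹) * t⁻¹ * (t * s) := by group
      _ = _ := by rw [a3 x hx, (q2 q hq).1 _ (inv_mem hx), inv_inv]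
  have w : ∀ {A : Subgroup G} {u : G}, Top u A → ∀ (r : ℕ) [Fact r.Prime],
      𝐂(pCoreOf r A ⊓ M) ≤ A → pCoreOf r A ⊓ M ≠ ⊥ := fun hA r _ hr e => by
    rw [e, cent_bot] at hr
    exact hA.max.1 (top_le_iff.1 hr)
  by_cases h0 : ∀ (q : ℕ) [Fact q.Prime], pCoreOf q H = ⊥ → pCoreOf q M = ⊥
  · have key : ∀ {A : Subgroup G} {u : G}, Top u A → Two A → u ∈ M →
        (∀ q, pCoreOf q A = ⊥ ↔ pCoreOf q H = ⊥) → (∀ (r : ℕ) [Fact r.Prime], pCoreOf r A ≠ ⊥ →
          𝐂(pCoreOf r A ⊓ M) ≤ A) → M = A := fun hA a2 hu pa c =>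
      hA.star hG a2 hM hu hC (H1.fittingOf_le_of_forall fun q _ => by
        by_cases hq : pCoreOf q H = ⊥
        · exact (h0 q hq).le.trans bot_le
        · exact hA.pc_le hG a2 c fun e => hq ((pa q).1 e)) fun r _ hr =>
        ⟨_, w hA r (c r hr), le_rfl, fun q _ hq => by
          by_cases hq' : pCoreOf q H = ⊥
          · rw [h0 q hq', cent_bot]; exact le_top
          · exact le_centralizer_comm (L1 hq.symm (c q fun e => hq' ((pa q).1 e)))⟩
    exact hne ((key hs t2 hsM pd c2).symm.trans (key h.toTop h2 htM (fun _ => Iff.rfl) c1))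
  push Not at h0
  obtain ⟨q, _, hq, hQ⟩ := h0
  have hMQ := H1.le_normalizer_pCoreOf (p := q) M
  have nQ : ¬ pCoreOf q M ≤ H := fun e => hQ (le_bot_iff.1 (q1 q hq ▸ le_inf le_rfl e))
  set Z := fittingOf H ⊓ 𝐂(fittingOf H)
  have hZM : Z ≤ M := inf_le_right.trans ((centralizer_le hYF).trans hCM)
  have hZH : Z ≤ H := inf_le_left.trans (fittingOf_le H)
  have hZn : H ≤ 𝐍(Z) := le_normalizer_inf_centralizer (le_norm_fittingOf H) (le_norm_fittingOf H)
  have z0 : ⁅Z, zpowers t⁆ ≤ Z := commutator_le_left_of_le_normalizer (zpowers_le_of_mem (hZn h.mem))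
  have z1 : ⁅Z, zpowers t⁆ = ⊥ := by
    by_contra e
    exact nQ ((le_centralizer_comm ((q2 q hq).1.commutator_le_cent h4.tt (hZM.trans hMQ))).trans
      (h.U1' hG h2 e (z0.trans hZH) ((le_centralizer_comm (z0.trans inf_le_right)).trans
        (cent_le_norm _)) (normalizer_commutator_ge_right _ _ (mem_zpowers t))))
  have z2 : IsCyclic Z := by
    by_contra e
    obtain ⟨z, hz, hz1, e'⟩ := exists_centralizer_ne_bot_of_not_isCyclic (A := Z)
      ⟨⟨fun a b => Subtype.ext (b.2.2 a a.2.1)⟩⟩ e (hZM.trans hMQ)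
      (coprime_mono (cop_fit hq (H1.pCoreOf_isPGroup M)).symm inf_le_left le_rfl) hQ
    have a := zpowers_le_of_mem hz
    refine e' (le_bot_iff.1 (q1 q hq ▸ inf_le_inf_left _ (U4.cent_zpowers z ▸ h.U1' hG h2
      (by simpa using hz1) (a.trans hZH) ((le_centralizer_comm (a.trans inf_le_right)).trans
        (cent_le_norm _)) (cent_le_norm _ (le_centralizer_comm (a.trans (comm_eq_bot_iff.1 z1))
          (mem_zpowers t))))))
  have z3 := hcyc z2
  set Z' := fittingOf L ⊓ 𝐂(fittingOf L)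
  have hZ' : L ≤ 𝐍(Z') := le_normalizer_inf_centralizer (le_norm_fittingOf L) (le_norm_fittingOf L)
  have htL : t ∈ L := hu.le h4.mul.symm.s_cent
  have z4 : ∀ (r : ℕ) [Fact r.Prime], pCoreOf r H = ⊥ → Z' ≤ 𝐂(pCoreOf r M) := fun r _ hr =>
    le_centralizer_comm ((le_comm_of_inverts (q2 r hr).1 (q2 r hr).2).trans ((commutator_mono
      (q3 r hr) (zpowers_le_of_mem htL)).trans (U4.B14.der_le_cent_of_cyclic z3 hZ')))
  have z5 : ∀ (r : ℕ) [Fact r.Prime], Zp r L ≤ Z' := fun r _ =>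
    le_inf (inf_le_left.trans (H1.pCoreOf_le_fittingOf r L)) (Zp_le_cent r L)
  have z6 : Z' ≤ M := (z4 q hq).trans ((cent_le_norm _).trans
    (hG.toSimp.norm_eq hM hQ (H1.pCoreOf_le M) hMQ).le)
  have c3 : ∀ (r : ℕ) [Fact r.Prime], pCoreOf r L ≠ ⊥ → 𝐂(pCoreOf r L ⊓ M) ≤ L := fun r _ hr =>
    hu.cent_le' hG hr ((z5 r).trans z6)
  have := hu.star hG t3 hM (mul_mem htM hsM) hC (H1.fittingOf_le_of_forall fun r _ => by
      by_cases hr : pCoreOf r H = ⊥
      · exact q3 r hr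
      · exact hu.pc_le hG t3 c3 fun e => hr ((pe r).1 e)) fun r _ hr =>
    ⟨Zp r L, Zp_ne_bot hr, le_inf inf_le_left ((z5 r).trans z6), fun q' _ hq' => by
      by_cases e : pCoreOf q' H = ⊥
      · exact (z5 r).trans (z4 q' e)
      · exact (le_inf inf_le_left ((z5 r).trans z6)).trans
          (le_centralizer_comm (L1 hq'.symm (c3 q' fun e' => e ((pe q').1 e'))))⟩
  exact hQ (this ▸ (pe q).2 hq)

end Conf

end CfsgLib.GD.LD
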