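import Cfsg.Agent.Lib.GD.IIb1

/-!
# Maximal subgroups containing the centralizer of an involution: characteristic `p`
-/

set_option autoImplicit false

namespace CfsgLib.GD.LD

open Subgroup Cfsg CfsgLib.FT CfsgLib.FT.BGN CfsgLib.Cop CfsgLib.H1 CfsgLib.GW CfsgLib.GW.LD
open scoped commutatorElement

universe u

variable {G : Type u} [Group G] [Finite G]

namespace Conf
variable {t s : G} {H Y : Subgroup G} {p : ℕ} [hp : Fact p.Prime] (h : Conf t s H Y p) (hG : Hyp G)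
  (h1 : ∀ (q : ℕ) [Fact q.Prime], q ≠ p → pCoreOf q H = ⊥)
include h hG

theorem stable (M : Subgroup G) : StableIn p M :=
  hG.dih.stableIn (h.ne_two h.pne) M

omit hG in
theorem oddp {Q : Subgroup G} (hQ : IsPGroup p Q) : Odd (Nat.card Q) :=
  odd_card_of_isPGroup hp.1 (h.ne_two h.pne) hQ

omit hp in
theorem exists_cent_le {g : G} (hg : V t s ≤ g •ᶜ H) : ∃ u ∈ V t s, u ≠ 1 ∧ 𝐂[u] ≤ g •ᶜ H := by
  obtain ⟨S, x, hS⟩ := hG.toSimp.exists_frame h.four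
  have h4 := h.four.conj g⁻¹
  obtain ⟨c, hc, e⟩ := (hS.syl.mono (hS.S_le.trans h.le) le_top).exists_conj_le h4.isPGroup_V
    (by rw [V_conj]; exact le_cj_iff.1 hg)
  rw [← V_conj] at e
  have h5 := hG.dih.le_V (h4.conj c) (isPGroup_zpowers_inv h.ot) (zpowers_le_of_mem
    fun z hz => U4.mem_cent1.1 (hS.S_le (e hz))) (mem_zpowers t)
  rw [V_conj, V_conj, cj_cj, mem_map_conj_iff] at h5
  refine ⟨_, h5, ?_, ?_⟩
  · rw [← inv_inv (c * g⁻¹), inv_inv (c * g⁻¹)⁻¹]; exact U4.conj_ne_one_iff.2 h.four.t1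
  · rw [← inv_inv (c * g⁻¹), inv_inv (c * g⁻¹)⁻¹, ← cj_cent1, mul_inv_rev, inv_inv, ← cj_cj]
    exact map_mono (cj_le_of_norm h.le (le_normalizer (inv_mem hc)))

omit hp in
theorem cent_le_cj {g : G} (hg : V t s ≤ g •ᶜ H) : 𝐂(V t s) ≤ g •ᶜ H :=
  let ⟨_, hu, _, e⟩ := h.exists_cent_le hG hg
  (U4.cent_le_cent1 hu).trans e

omit hp in
theorem mem_of_cent_le {g : G} (hg : 𝐂[t] ≤ g •ᶜ H) : g ∈ H := by
  obtain ⟨S, x, hS⟩ := hG.toSimp.exists_frame h.four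
  have h2 := hS.syl.map_conj g⁻¹
  rw [cj_top] at h2
  obtain ⟨c, hc, e⟩ := (hS.syl.mono (hS.S_le.trans h.le) le_top).exists_conj_eq
    (h2.mono (le_cj_iff.1 (hS.S_le.trans hg)) le_top)
  rw [cj_cj] at e
  have h3 := eq_of_central hS (v := c * g⁻¹ * t * (c * g⁻¹)⁻¹) (by rw [U4.orderOf_conj, h.ot]) (by
    rw [← e, centralizer_map_conj]
    exact conj_mem_map_conj fun z hz => U4.mem_cent1.1 (hS.S_le hz))
  exact inv_mem_iff.1 ((mul_mem_cancel_left hc).1 (h.le (U4.mem_cent1_of_conj_eq h3)))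

omit hp in
theorem cj_unique {u a b : G} (hu : orderOf u = 2) (ha : 𝐂[u] ≤ a •ᶜ H) (hb : 𝐂[u] ≤ b •ᶜ H) :
    a •ᶜ H = b •ᶜ H := by
  obtain ⟨c, rfl⟩ := hG.toSimp.exists_conj h.ot hu
  rw [← cj_cent1, cj_le_iff, cj_cj] at ha hb
  rw [← cj_inj (g := c⁻¹), cj_cj, cj_cj, cj_eq_of_mem (h.mem_of_cent_le hG ha),
    cj_eq_of_mem (h.mem_of_cent_le hG hb)]

theorem ne_top' {Q : Subgroup G} (hQ : IsPGroup p Q) (hY : Y ≤ Q) : 𝐍(Q) ≠ ⊤ :=
  hG.toSimp.norm_ne_top' (fun e => h.ne (le_bot_iff.1 (e ▸ hY))) (solvable_of_isPGroup hQ)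

include h1

omit hG in
theorem fit_eq : fittingOf H = pCoreOf p H := le_antisymm (H1.fittingOf_le_of_forall fun q _ => by
    by_cases hq : q = p
    · exact hq ▸ le_rfl
    · exact (h1 q hq).le.trans bot_le) (pCoreOf_le_fittingOf p H)

theorem charIn : CharIn p H := by simpa only [CharIn, ← h.fit_eq h1] using h.fitC hG

theorem norm_dSub {Q : Subgroup G} (hQ : IsSylowIn p Q H) : 𝐍(dSub Q) = H :=
  hG.toSimp.norm_eq h.max (dSub_ne_bot hQ.isPGroup fun e =>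
    h.pne (le_bot_iff.1 (e ▸ pCoreOf_le_sylow hQ))) ((dSub_le Q).trans hQ.le)
    ((h.stable hG H).le_normalizer_dSub (h.charIn hG h1) hQ)

theorem not_le {x y : G} (e : x •ᶜ H ≠ y •ᶜ H) (hx : V t s ≤ x •ᶜ H) (hy : V t s ≤ y •ᶜ H) :
    ¬ pCoreOf p (x •ᶜ H) ≤ y •ᶜ H := fun hle => by
  obtain ⟨u, hu, u1, cu⟩ := h.exists_cent_le hG hx
  obtain ⟨v, hv, v1, cv⟩ := h.exists_cent_le hG hy
  have ou := inv_of_mul_self (h.four.mul_self_of_mem hu) u1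
  have ov := inv_of_mul_self (h.four.mul_self_of_mem hv) v1
  obtain ⟨d, -, d1, d2⟩ := hG.toSimp.exists_swap (t := u) (s := v)
    ⟨ou, ov, h.four.V_le_cent hv u hu, fun e' => e (h.cj_unique hG ou cu (e' ▸ cv))⟩
  have e1 : (d * x) •ᶜ H = y •ᶜ H :=
    h.cj_unique hG ov (by rw [← d1, ← cj_cent1, ← cj_cj]; exact map_mono cu) cv
  have e2 : (d * y) •ᶜ H = x •ᶜ H :=
    h.cj_unique hG ou (by rw [← d2, ← cj_cent1, ← cj_cj]; exact map_mono cv) cu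
  have hp' : ∀ a b : G, HalfPrim (a •ᶜ H) (b •ᶜ H) := fun a b A h0 _ hA hn =>
    inf_le_right.trans (hG.toSimp.norm_eq (isCoatom_map_conj h.max a) h0 hA hn).le
  have hc : ∀ a : G, CharIn p (a •ᶜ H) := fun a => by
    rw [CharIn, pCoreOf_map_conj, centralizer_map_conj, ← map_conj_inf]
    exact map_mono (h.charIn hG h1)
  refine PrimPair.not_stable ⟨e, hp' x y, hp' y x⟩ (h.stable hG _) (h.stable hG _) (hc x) (hc y)
    hle ?_
  rw [← e1, ← e2, ← cj_cj, ← cj_cj, pCoreOf_map_conj]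
  exact map_mono hle

theorem not_cent_s {T : Subgroup G} (hT : IsPGroup p T) (hY : Y ≤ T) (hS : IsSylowIn p T (Od 𝐍(T))) :
    s ∉ 𝐂(T) := fun hc => by
  obtain ⟨d, hs, -⟩ := h.exists_conj hG
  have hp2 := h.ne_two h.pne
  have hTs : T ≤ 𝐂[s] := fun z hz => U4.mem_cent1.2 (hc z hz)
  have hR := pCoreOf_isPGroup (p := p) (d •ᶜ H)
  have hn := le_normalizer_pCoreOf (p := p) (d •ᶜ H)
  have hQ := hR.to_le (inf_le_left (b := 𝐍(T)))
  have h2 : 𝐍(T) ⊓ 𝐂[s] ≤ 𝐍(pCoreOf p (d •ᶜ H) ⊓ 𝐍(T)) :=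
    H1.le_normalizer_inf ((inf_le_right.trans hs.le).trans hn) (inf_le_left.trans le_normalizer)
  have h3 := zpowers_le_of_mem (h2 ⟨cent_le_norm _ hc, U4.self_mem_cent1 s⟩)
  have h4 := commutator_le_left_of_le_normalizer h3
  have h5 := le_sylow_of_norm hS (hQ.to_le h4) (commutator_le_Od hG (h.ne_top' hG hT hY) hs.ot
    (cent_le_norm _ hc) hp.1 hp2 hQ inf_le_right h2) (h4.trans inf_le_right)
  have h6 := comm_eq_bot_iff.1 (commutator_eq_bot_of_commutator_commutator_eq_bot h3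
    (coprime_zpowers_inv hs.ot (h.oddp hQ))
    (comm_eq_bot_iff.2 (U4.cent_zpowers s ▸ h5.trans hTs)))
  refine hs.not_cent hG ?_
  rw [U4.fit_conj, h.fit_eq h1, ← pCoreOf_map_conj, ← U4.cent_zpowers]
  exact comm_eq_bot_iff.1 (commutator_eq_bot_of_pxq hT hR
    (coprime_zpowers_inv hs.ot (hp.1.odd_of_ne_two hp2)) ((hTs.trans hs.le).trans hn)
    (zpowers_le_of_mem (hn hs.mem)) (comm_eq_bot_iff.2 (U4.cent_zpowers s ▸ hTs))
    ((inf_le_inf_left _ (cent_le_norm _)).trans h6))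

theorem norm_dSub' {Q : Subgroup G} {g : G} (hQ : IsSylowIn p Q (g •ᶜ H)) :
    𝐍(dSub Q) = g •ᶜ H := by
  have := hQ.map_conj g⁻¹
  rw [map_conj_inv_map_conj] at this
  have := h.norm_dSub hG h1 this
  rwa [dSub_map_conj, normalizer_map_conj, cj_eq_iff, inv_inv] at this

theorem sylow_top {Q : Subgroup G} {g : G} (hQ : IsSylowIn p Q (g •ᶜ H)) : IsSylowIn p Q ⊤ :=
  sylow_of_norm' hQ le_top (inf_le_right.trans
    ((normalizer_le_normalizer_dSub Q).trans (h.norm_dSub' hG h1 hQ).le))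

theorem exists_cj {Q : Subgroup G} (hQ : IsSylowIn p Q ⊤) : ∃ g : G, 𝐍(dSub Q) = g •ᶜ H := by
  obtain ⟨T, hT⟩ := IsSylowIn.exists_in (p := p) H
  obtain ⟨g, -, rfl⟩ := hQ.exists_conj_eq
    (h.sylow_top hG h1 (g := 1) (by rwa [map_conj_one]))
  exact ⟨g, h.norm_dSub' hG h1 (hT.map_conj g)⟩

theorem glob {W : Subgroup G} (hW : W ≠ ⊤) (hS : V t s ≤ W) (hY : Y ≤ W)
    (hT : ∀ X, X ≠ ⊤ → W ≤ X → ∃ T, IsSylowIn p T (Od X) ∧ W ≤ 𝐍(T)) : ∃ g : G, W ≤ g •ᶜ H := by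
  obtain ⟨X0, a0, m0⟩ := Set.exists_max_image {X : Subgroup G | X ≠ ⊤ ∧ W ≤ X}
    (fun X => (Nat.card X).factorization p) (Set.toFinite _) ⟨W, hW, le_rfl⟩
  obtain ⟨X, ⟨⟨a1, a2⟩, a3⟩, m1⟩ := Set.exists_max_image {X : Subgroup G | (X ≠ ⊤ ∧ W ≤ X) ∧
    (Nat.card X0).factorization p ≤ (Nat.card X).factorization p}
    (fun X => (Nat.card (Od X)).factorization p) (Set.toFinite _) ⟨X0, a0, le_rfl⟩
  obtain ⟨T, t1, t2⟩ := hT X a1 a2
  have ht := t_mem_V t s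
  have hYT : Y ≤ T := le_sylow_of_norm t1 h.Yp (h.comm ▸ (commutator_mono (le_inf h.YP (hY.trans a2))
    le_rfl).trans (commutator_le_Od hG a1 h.ot (a2 (hS ht)) hp.1 (h.ne_two h.pne)
      ((pCoreOf_isPGroup H).to_le inf_le_left) inf_le_right (H1.le_normalizer_inf
      ((inf_le_right.trans h.le).trans (le_normalizer_pCoreOf H)) (inf_le_left.trans le_normalizer))))
    (hY.trans t2)
  obtain ⟨Q, q1, q2⟩ := IsSylowIn.exists_ge t1.isPGroup (t1.le.trans (Od_le X))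
  have q3 : Q ≤ 𝐍(T) := by
    rw [← t1.eq_of_le (q2.isPGroup.to_le inf_le_left) (le_inf q1 t1.le) inf_le_right]
    exact H1.le_normalizer_inf le_normalizer (q2.le.trans (le_norm_Od X))
  have n1 := h.ne_top' hG t1.isPGroup hYT
  have key : ∀ K, K ≠ ⊤ → W ≤ K → Q ≤ K → IsSylowIn p Q K := fun K k1 k2 k3 =>
    sylow_of_fact_le q2 k3 ((m0 K ⟨k1, k2⟩).trans a3)
  have q4 := key _ n1 t2 q3
  have t3 : IsSylowIn p T (Od 𝐍(T)) := sylow_of_fact_le t1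
    (le_Od le_normalizer le_rfl (h.oddp t1.isPGroup))
    (m1 _ ⟨⟨n1, t2⟩, a3.trans (fact_le_of_sylow q2 q3)⟩)
  have hD := dFam_dSub Q
  have n2 := le_norm_dSub (h.stable hG _) q4 (le_trans (fun x hx => by
    have hx' := q3 (hD.1 hx)
    have hxp := (q2.isPGroup.to_le hD.1).to_le (zpowers_le_of_mem hx)
    refine le_sylow_of_norm t3 hxp ?_ (zpowers_le_of_mem hx') (mem_zpowers x)
    have k1 := conjClosure_le_of_le (zpowers_le_of_mem hx')
    have k2 := le_normalizer_conjClosure (zpowers x) 𝐍(T)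
    by_cases h4 : 4 ∣ Nat.card (conjClosure (zpowers x) 𝐍(T))
    swap
    · exact ((nilp2_of_not_four_dvd h4).le_Od (le_conjClosure _ _) (h.oddp hxp)).trans
        (Od_le_Od k1 k2)
    have k3 : ∀ v ∈ conjClosure (zpowers x) 𝐍(T), orderOf v = 2 → v ∈ 𝐂(T) := fun v hv ho =>
      h.stable hG _ T le_normalizer le_rfl t1.isPGroup x hx' ((q2.isPGroup ⟨x, hD.1 hx⟩).imp
        fun _ h => congrArg Subtype.val h) (quad_of_mem_of_comm hD.2.1 (q1.trans hD.2.2.1) hx)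
        (mem_pResidualOf hv (by
          rw [ho]; exact (Nat.coprime_primes Nat.prime_two hp.1).2 (h.ne_two h.pne).symm))
    have k4 : t ∉ 𝐂(Y) := fun e => h.not_cent fun y hy => U4.mem_cent1.2 (e y hy)
    have k5 : s ∈ 𝐂(Y) := fun y hy => U4.mem_cent1.1 (h.Yle hy).2
    exfalso
    rcases hG.dih.exists_mem_V h.four ((hS.trans t2).trans k2) h4 with e | e | e
    · exact k4 (centralizer_le hYT (k3 _ e h.ot))
    · exact h.not_cent_s hG h1 t1.isPGroup hYT t3 (k3 _ e h.four.os)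
    · exact k4 ((mul_mem_cancel_right k5).1 (centralizer_le hYT (k3 _ e h.four.ots))))
    (le_pCoreOf le_normalizer le_rfl t1.isPGroup))
  obtain ⟨g, hg⟩ := h.exists_cj hG h1 (sylow_of_norm' (key _ (hG.toSimp.norm_ne_top' (dSub_ne_bot
    q2.isPGroup fun e => h.ne (le_bot_iff.1 (e ▸ hYT.trans q1))) (solvable_of_isPGroup
    (q2.isPGroup.to_le hD.1))) (t2.trans n2) hD.2.2.1) le_top
    (inf_le_right.trans (normalizer_le_normalizer_dSub Q)))
  exact ⟨g, hg ▸ t2.trans n2⟩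

omit h1 in
theorem exists_R {A X : Subgroup G} (hA : IsPGroup p A) (hS : V t s ≤ 𝐍(A)) (h2 : A ≤ X)
    (h3 : V t s ≤ X) : ∃ R : Subgroup G, IsPGroup p R ∧ A ≤ R ∧ V t s ≤ 𝐍(R) ∧ R ≤ 𝐍(Od X) ∧
      IsSylowIn p (R ⊓ Od X) (Od X) := by
  have := Fact.mk Nat.prime_two
  have hn := h2.trans (le_norm_Od X)
  obtain ⟨R, r1, r2, r3⟩ := exists_inv_sylow_ge (H1.le_normalizer_sup (h3.trans (le_norm_Od X)) hS)
    (h.four.coprime_V (odd_sup hn (h.oddp hA) (odd_Od X)))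
    (Or.inl (solvable_of_isPGroup h.four.isPGroup_V)) hA le_sup_right hS
  have r4 := r1.le.trans (sup_le le_normalizer hn)
  exact ⟨R, r1.isPGroup, r3, r2, r4, r1.inf_of_le_normalizer le_sup_left r4⟩

theorem exists_ge {R : Subgroup G} (hR : IsPGroup p R) (hS : V t s ≤ 𝐍(R)) (hY : Y ≤ R) :
    ∃ g : G, R ⊔ V t s ≤ g •ᶜ H :=
  h.glob hG h1 (fun e => h.ne_top' hG hR hY (top_le_iff.1 (e ▸ sup_le le_normalizer hS)))
    le_sup_right (hY.trans le_sup_left) fun X _ hX =>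
    let ⟨T, _, b, c, d, e⟩ := h.exists_R hG hR hS (le_sup_left.trans hX) (le_sup_right.trans hX)
    ⟨_, e, H1.le_normalizer_inf (sup_le (b.trans le_normalizer) c) (hX.trans (le_norm_Od X))⟩

theorem not_one : False := by
  have := Fact.mk Nat.prime_two
  have h4 := h.four
  obtain ⟨d, hs, hne⟩ := h.exists_conj hG
  obtain ⟨D, hYD, ⟨d1, d2, a, b, hab, ha, hb⟩, hmax⟩ := Finite.exists_le_maximal
    (p := fun D : Subgroup G => IsPGroup p D ∧ V t s ≤ 𝐍(D) ∧ ∃ a b : G, a •ᶜ H ≠ b •ᶜ H ∧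
      D ⊔ V t s ≤ a •ᶜ H ∧ D ⊔ V t s ≤ b •ᶜ H) (a := Y) ⟨h.Yp, h.nS, d, 1, by rwa [map_conj_one],
      sup_le ((h.Yle.trans inf_le_right).trans hs.le) (V_comm t s ▸ h4.symm.V_le_cent1.trans hs.le),
      by rw [map_conj_one]
         exact sup_le (h.YP.trans (pCoreOf_le H)) (h4.V_le_cent1.trans h.le)⟩
  have hsol : Group.IsSolvable (V t s) := solvable_of_isPGroup h4.isPGroup_V
  -- a larger invariant `p`-subgroup lies in at most one conjugate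
  have uniq : ∀ {A : Subgroup G} {x y : G}, IsPGroup p A → V t s ≤ 𝐍(A) → D < A →
      A ⊔ V t s ≤ x •ᶜ H → A ⊔ V t s ≤ y •ᶜ H → x •ᶜ H = y •ᶜ H := fun a1 a2 a3 a4 a5 => by
    by_contra e
    exact a3.not_ge (hmax ⟨a1, a2, _, _, e, a4, a5⟩ a3.le)
  have big : ∀ {x y : G}, x •ᶜ H ≠ y •ᶜ H → D ⊔ V t s ≤ x •ᶜ H → D ⊔ V t s ≤ y •ᶜ H →
      ∃ A : Subgroup G, IsPGroup p A ∧ V t s ≤ 𝐍(A) ∧ D < A ∧ A ⊔ V t s ≤ x •ᶜ H ∧ A ≤ 𝐍(D) :=
    fun {x y} e hx hy => by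
    have n := le_normalizer_pCoreOf (p := p) (x •ᶜ H)
    have p1 := isPGroup_sup' ((le_sup_left.trans hx).trans n) (pCoreOf_isPGroup _) d1
    have p2 : V t s ≤ 𝐍(pCoreOf p (x •ᶜ H) ⊔ D) :=
      H1.le_normalizer_sup ((le_sup_right.trans hx).trans n) d2
    exact ⟨(pCoreOf p (x •ᶜ H) ⊔ D) ⊓ 𝐍(D), p1.to_le inf_le_left,
      H1.le_normalizer_inf p2 (d2.trans le_normalizer),
      lt_inf_normalizer_of_isPGroup p1 (lt_of_le_of_ne le_sup_right fun e' =>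
        h.not_le hG h1 e (le_sup_right.trans hx) (le_sup_right.trans hy)
          ((le_sup_left.trans e'.ge).trans (le_sup_left.trans hy))),
      sup_le (inf_le_left.trans (sup_le (pCoreOf_le _) (le_sup_left.trans hx)))
        (le_sup_right.trans hx), inf_le_right⟩
  obtain ⟨A, a1, a2, a3, a4, a5⟩ := big hab ha hb
  obtain ⟨B, b1, b2, b3, b4, b5⟩ := big hab.symm hb ha
  have hW : A ⊔ B ⊔ V t s ≤ 𝐍(D) := sup_le (sup_le a5 b5) d2
  have lA : A ≤ A ⊔ B ⊔ V t s := le_sup_left.trans le_sup_left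
  have lB : B ≤ A ⊔ B ⊔ V t s := le_sup_right.trans le_sup_left
  obtain ⟨g, hg⟩ := h.glob hG h1 (W := A ⊔ B ⊔ V t s)
    (fun e => h.ne_top' hG d1 hYD (top_le_iff.1 (e ▸ hW))) le_sup_right
    ((hYD.trans a3.le).trans lA) fun X _ hX => by
    have hSX := le_sup_right.trans hX
    obtain ⟨R, r1, r2, r3, r4, r5⟩ := h.exists_R hG a1 a2 (lA.trans hX) hSX
    obtain ⟨R', s1, s2, s3, s4, s5⟩ := h.exists_R hG b1 b2 (lB.trans hX) hSX
    obtain ⟨x, hx⟩ := h.exists_ge hG h1 r1 r3 ((hYD.trans a3.le).trans r2)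
    obtain ⟨y, hy⟩ := h.exists_ge hG h1 s1 s3 ((hYD.trans b3.le).trans s2)
    rw [uniq a1 a2 a3 ((sup_le_sup_right r2 _).trans hx) a4] at hx
    rw [uniq b1 b2 b3 ((sup_le_sup_right s2 _).trans hy) b4] at hy
    have hSO := hSX.trans (le_norm_Od X)
    obtain ⟨c, hc, e⟩ := conj_invariant_sylowOf hSO (h4.coprime_V (odd_Od X)) (Or.inl hsol)
      (sylow_iff_hall.1 s5) (sylow_iff_hall.1 r5) (H1.le_normalizer_inf s3 hSO)
      (H1.le_normalizer_inf r3 hSO)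
    have hDR := a3.le.trans r2
    have e1 : R ⊓ Od X ≤ b •ᶜ H := e ▸ cj_le_of_norm (inf_le_left.trans (le_sup_left.trans hy))
      (le_normalizer (h.cent_le_cj hG (le_sup_right.trans hb) hc.2))
    have e2 : D ⊔ R ⊓ Od X ≤ D := hmax ⟨r1.to_le (sup_le hDR inf_le_left), H1.le_normalizer_sup d2
      (H1.le_normalizer_inf r3 hSO), a, b, hab, (sup_le_sup_right (sup_le hDR inf_le_left) _).trans hx,
      sup_le (sup_le (le_sup_left.trans hb) e1) (le_sup_right.trans hb)⟩ le_sup_left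
    refine ⟨_, r5, ?_⟩
    rw [le_antisymm (le_inf (le_sup_right.trans e2) inf_le_right) (inf_le_inf_right _ hDR)]
    exact H1.le_normalizer_inf hW (hX.trans (le_norm_Od X))
  exact hab ((uniq a1 a2 a3 a4 ((sup_le lA le_sup_right).trans hg)).trans
    (uniq b1 b2 b3 ((sup_le lB le_sup_right).trans hg) b4))

end Conf

end CfsgLib.GD.LD
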