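import Cfsg.Agent.Lib.Wal.H5BAut
import Cfsg.Agent.Lib.GW.Psl

/-!
# Automorphisms of `PSL₂(q)` induced by `GL₂(q)`
-/

set_option autoImplicit false

namespace CfsgLib.GD.LA

open Subgroup Matrix MatrixGroups CfsgLib.H1 CfsgLib.H5 CfsgLib.BSW CfsgLib.GW.PA CfsgLib.H5.JB

variable {F : Type*} [Field F]

theorem cj_iff {P : GL (Fin 2) F} {Y Z : SL(2, F)} :
    conjSL2 P Y = Z ↔ P.val * Y.val = Z.val * P.val := by
  rw [← Units.mul_inv_eq_iff_eq_mul]
  exact Subtype.ext_iff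

theorem cj_neg (P : GL (Fin 2) F) (Y : SL(2, F)) : conjSL2 P (-Y) = -conjSL2 P Y := by
  rw [cj_iff, SpecialLinearGroup.coe_neg, SpecialLinearGroup.coe_neg, Matrix.mul_neg,
    Matrix.neg_mul, cj_iff.1 rfl]

theorem cj_mul (P Q : GL (Fin 2) F) (Y : SL(2, F)) :
    conjSL2 (P * Q) Y = conjSL2 P (conjSL2 Q Y) := by
  rw [cj_iff, Units.val_mul, Matrix.mul_assoc, cj_iff.1 (rfl : conjSL2 Q Y = _),
    ← Matrix.mul_assoc, cj_iff.1 (rfl : conjSL2 P (conjSL2 Q Y) = _), Matrix.mul_assoc]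

theorem cj_one (Y : SL(2, F)) : conjSL2 1 Y = Y := by
  rw [cj_iff, Units.val_one, Matrix.one_mul, Matrix.mul_one]

/-- Conjugation of `PSL₂` by an invertible matrix, as an endomorphism. -/
def pcH (P : GL (Fin 2) F) : PSL(2, F) →* PSL(2, F) :=
  QuotientGroup.map _ _ (conjSL2 P).toMonoidHom fun x hx => by
    rw [mem_comap, SL2_mem_center_iff']
    rcases SL2_mem_center_iff'.1 hx with rfl | rfl
    · exact Or.inl (map_one _)
    · exact Or.inr (by change conjSL2 P (-1) = -1; rw [cj_neg, map_one])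

theorem pcH_piP (P : GL (Fin 2) F) (Y : SL(2, F)) :
    pcH P (piP F Y) = piP F (conjSL2 P Y) := rfl

theorem pcH_mul (P Q : GL (Fin 2) F) (x : PSL(2, F)) : pcH (P * Q) x = pcH P (pcH Q x) := by
  obtain ⟨Y, rfl⟩ := piP_surj x
  rw [pcH_piP, pcH_piP, pcH_piP, cj_mul]

theorem pcH_one (x : PSL(2, F)) : pcH 1 x = x := by
  obtain ⟨Y, rfl⟩ := piP_surj x
  rw [pcH_piP, cj_one]

/-- Conjugation of `PSL₂` by invertible matrices. -/
def pc : GL (Fin 2) F →* MulAut PSL(2, F) where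
  toFun P := MonoidHom.toMulEquiv (pcH P) (pcH P⁻¹)
    (by ext x; simp [← pcH_mul, pcH_one]) (by ext x; simp [← pcH_mul, pcH_one])
  map_one' := by ext x; exact pcH_one x
  map_mul' P Q := by ext x; exact pcH_mul P Q x

theorem pc_piP (P : GL (Fin 2) F) (Y : SL(2, F)) : pc P (piP F Y) = piP F (conjSL2 P Y) := rfl

theorem pc_toGL (g : SL(2, F)) : pc (SpecialLinearGroup.toGL g) = MulAut.conj (piP F g) := by
  ext x
  obtain ⟨Y, rfl⟩ := piP_surj x
  rw [pc_piP, MulAut.conj_apply, ← map_inv, ← map_mul, ← map_mul]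
  congr 1

theorem fld_pc (ρ : F ≃+* F) (P : GL (Fin 2) F) :
    fld ρ * pc P = pc (GeneralLinearGroup.map (ρ : F →+* F) P) * fld ρ := by
  ext x
  obtain ⟨Y, rfl⟩ := piP_surj x
  rw [MulAut.mul_apply, MulAut.mul_apply, pc_piP, fld_apply, fld_apply, pmap_piP, pmap_piP, pc_piP]
  congr 1
  symm
  rw [cj_iff]
  have := congrArg (fun M : Matrix (Fin 2) (Fin 2) F => (ρ : F →+* F).mapMatrix M)
    (cj_iff.1 (rfl : conjSL2 P Y = _))
  simp only [map_mul] at this
  exact this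

/-- Scalar matrices. -/
def Sc (A : Matrix (Fin 2) (Fin 2) F) : Prop := A 0 1 = 0 ∧ A 1 0 = 0 ∧ A 0 0 = A 1 1

theorem ent {A B C D : Matrix (Fin 2) (Fin 2) F} : A * B = C * D ↔
    (A 0 0 * B 0 0 + A 0 1 * B 1 0 = C 0 0 * D 0 0 + C 0 1 * D 1 0 ∧
     A 0 0 * B 0 1 + A 0 1 * B 1 1 = C 0 0 * D 0 1 + C 0 1 * D 1 1) ∧
    (A 1 0 * B 0 0 + A 1 1 * B 1 0 = C 1 0 * D 0 0 + C 1 1 * D 1 0 ∧
     A 1 0 * B 0 1 + A 1 1 * B 1 1 = C 1 0 * D 0 1 + C 1 1 * D 1 1) := by
  simp only [← Matrix.ext_iff, Fin.forall_fin_two, Matrix.mul_apply, Fin.sum_univ_two]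

theorem pc_eq_one {P : GL (Fin 2) F} (h : Sc P.val) : pc P = 1 := by
  ext x
  obtain ⟨Y, rfl⟩ := piP_surj x
  obtain ⟨h1, h2, h3⟩ := h
  rw [pc_piP, MulAut.one_apply]
  congr 1
  rw [cj_iff, ent, h1, h2, h3]
  exact ⟨⟨by ring, by ring⟩, by ring, by ring⟩

theorem trace_cj (P : GL (Fin 2) F) (Y : SL(2, F)) :
    conjSL2 P Y 0 0 + conjSL2 P Y 1 1 = Y 0 0 + Y 1 1 := by
  have : (P.val * Y.val * P⁻¹.val).trace = Y.val.trace := by
    rw [Matrix.trace_mul_cycle, Units.inv_mul, Matrix.one_mul]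
  rw [Matrix.trace_fin_two, Matrix.trace_fin_two] at this
  exact this

theorem cj_eq_of_trace (h2 : (2 : F) ≠ 0) {P : GL (Fin 2) F} {Y : SL(2, F)}
    (ht : Y 0 0 + Y 1 1 ≠ 0) (h : pc P (piP F Y) = piP F Y) : conjSL2 P Y = Y := by
  rw [pc_piP] at h
  refine (piP_eq_iff.1 h).resolve_right fun e => ht ?_
  have h1 := trace_cj P Y
  rw [e, SL2_neg_apply, SL2_neg_apply] at h1
  exact (mul_eq_zero.1 (by linear_combination -h1 : (2 : F) * (Y 0 0 + Y 1 1) = 0)).resolve_left h2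

theorem sc_of_fix (h2 : (2 : F) ≠ 0) {P : GL (Fin 2) F} (h1 : pc P (up 1) = up 1)
    (h3 : pc P (lo 1) = lo 1) : Sc P.val := by
  have e1 := ent.1 (cj_iff.1 (cj_eq_of_trace h2 (by rw [uv_trace]; exact h2) h1))
  have e2 := ent.1 (cj_iff.1 (cj_eq_of_trace h2 (by rw [uv_trace]; exact h2) h3))
  simp only [uv00, uv01, uv10, uv11] at e1 e2
  exact ⟨by linear_combination -e2.1.1, by linear_combination -e1.1.1,
    by linear_combination e1.1.2⟩

theorem sc_of_pc_eq_one (h2 : (2 : F) ≠ 0) {P : GL (Fin 2) F} (h : pc P = 1) : Sc P.val :=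
  sc_of_fix h2 (by rw [h]; rfl) (by rw [h]; rfl)

theorem eq_one_of_fld_mem (h2 : (2 : F) ≠ 0) {ρ : F ≃+* F} (h : fld ρ ∈ (pc (F := F)).range) :
    ρ = 1 := by
  obtain ⟨P, hP⟩ := h
  have h1 : pc P = 1 := pc_eq_one (sc_of_fix h2
    (by rw [hP, fld_apply, pmap_up, map_one]) (by rw [hP, fld_apply, pmap_lo, map_one]))
  ext c
  refine up_inj h2 ?_
  have := DFunLike.congr_fun (hP.symm.trans h1) (up c)
  rwa [fld_apply, pmap_up] at this

theorem aut_eq [Finite F] (h2 : (2 : F) ≠ 0) (α : MulAut PSL(2, F)) :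
    ∃ (P : GL (Fin 2) F) (ρ : F ≃+* F), α = pc P * fld ρ := by
  obtain ⟨h, ρ, s, hs, e1, e2⟩ := aut_form h2 α
  obtain ⟨H, rfl⟩ := piP_surj h
  let D : GL (Fin 2) F := GeneralLinearGroup.mkOfDetNeZero !![s, 0; 0, 1]
    (by rw [det_fin_two_of]; simpa using hs)
  have D00 : D.val 0 0 = s := rfl
  have D01 : D.val 0 1 = 0 := rfl
  have D10 : D.val 1 0 = 0 := rfl
  have D11 : D.val 1 1 = 1 := rfl
  refine ⟨SpecialLinearGroup.toGL H * D, ρ, MulEquiv.ext fun x => hom_ext (φ := α.toMonoidHom)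
    (ψ := (pc (SpecialLinearGroup.toGL H * D) * fld ρ).toMonoidHom) (fun c => ?_) (fun c => ?_) x⟩
  · change α (up c) = pc (SpecialLinearGroup.toGL H * D) (fld ρ (up c))
    rw [e1, fld_apply, pmap_up, map_mul, pc_toGL, MulAut.mul_apply, MulAut.conj_apply, up, up,
      pc_piP]
    congr 3
    symm
    rw [cj_iff, ent]
    simp [D00, D01, D10, D11, uv00, uv01, uv10, uv11]
  · change α (lo c) = pc (SpecialLinearGroup.toGL H * D) (fld ρ (lo c))
    rw [e2, fld_apply, pmap_lo, map_mul, pc_toGL, MulAut.mul_apply, MulAut.conj_apply, lo, lo,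
      pc_piP]
    congr 3
    symm
    rw [cj_iff, ent]
    simp only [D00, D01, D10, D11, uv00, uv01, uv10, uv11]
    refine ⟨⟨by ring, by ring⟩, ?_, by ring⟩
    field_simp
    simp [mul_comm]

theorem normal_range [Finite F] (h2 : (2 : F) ≠ 0) : (pc (F := F)).range.Normal := by
  constructor
  rintro _ ⟨P, rfl⟩ γ
  obtain ⟨Q, ρ, rfl⟩ := aut_eq h2 γ
  refine ⟨Q * GeneralLinearGroup.map (ρ : F →+* F) P * Q⁻¹, ?_⟩
  rw [mul_assoc (pc Q), fld_pc, map_mul, map_mul, map_inv]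
  group

theorem exists_conj_of_isSquare {P : GL (Fin 2) F} (h : IsSquare P.val.det) :
    ∃ g : PSL(2, F), pc P = MulAut.conj g := by
  obtain ⟨r, hr⟩ := h
  have hr0 : r ≠ 0 := by
    rintro rfl
    exact P.det_ne_zero (by rw [hr, mul_zero])
  let g : SL(2, F) := ⟨r⁻¹ • P.val, by
    rw [det_smul, hr, Fintype.card_fin]; field_simp⟩
  refine ⟨piP F g, ?_⟩
  rw [← pc_toGL]
  ext x
  obtain ⟨Y, rfl⟩ := piP_surj x
  rw [pc_piP, pc_piP]
  congr 1
  symm
  rw [cj_iff]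
  change r⁻¹ • P.val * Y.val = _ * r⁻¹ • P.val
  rw [Matrix.smul_mul, Matrix.mul_smul, cj_iff.1 rfl]

theorem isSquare_of_fix [Finite F] (h2 : (2 : F) ≠ 0) {ρ : F ≃+* F} (h1 : ρ ≠ 1)
    (hρ : ∀ x, ρ (ρ x) = x) {k : F} (hk : ρ k = k) : IsSquare k := by
  classical
  obtain ⟨u, hu⟩ : ∃ u, ρ u ≠ u := by
    by_contra h
    push Not at h
    exact h1 (RingEquiv.ext h)
  set w := u - ρ u with hw
  have hw0 : w ≠ 0 := sub_ne_zero.2 hu.symm
  have hρw : ρ w = -w := by rw [hw, map_sub, hρ]; ring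
  have := Fintype.ofFinite (fix ρ)
  let k' : fix ρ := ⟨k, mem_fix.2 hk⟩
  let w' : fix ρ := ⟨w * w, mem_fix.2 (by rw [map_mul, hρw]; ring)⟩
  have h3 : ¬ IsSquare w' := by
    rintro ⟨c, hc⟩
    have h4 : w * w = c * c := congrArg Subtype.val hc
    have h5 : ρ c = c := mem_fix.1 c.2
    have h6 : ρ w = w := by
      rcases mul_self_eq_mul_self_iff.1 h4 with e | e
      · rw [e, h5]
      · rw [e, map_neg, h5]
    rw [hρw] at h6
    exact hw0 ((mul_eq_zero.1 (by linear_combination -h6 : (2 : F) * w = 0)).resolve_left h2)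
  by_cases h4 : IsSquare k'
  · exact h4.map (fix ρ).subtype
  have k0 : k' ≠ 0 := by rintro e; exact h4 (e ▸ IsSquare.zero)
  have w0 : w' ≠ 0 := by rintro e; exact h3 (e ▸ IsSquare.zero)
  rw [← quadraticChar_neg_one_iff_not_isSquare] at h3 h4
  have h5 : IsSquare (k' * w') := by
    rw [← quadraticChar_one_iff_isSquare (mul_ne_zero k0 w0), map_mul, h3, h4]
    norm_num
  obtain ⟨c, hc⟩ := h5
  have h6 : k * (w * w) = c * c := congrArg Subtype.val hc
  exact ⟨c / w, by field_simp; linear_combination h6⟩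

theorem isSquare_of_norm [Finite F] (h2 : (2 : F) ≠ 0) {ρ : F ≃+* F} (h1 : ρ ≠ 1)
    (hρ : ∀ x, ρ (ρ x) = x) {d l : F} (hl : ρ l = l) (h0 : l ≠ 0) (h : d * ρ d = l * l) :
    IsSquare d := by
  obtain ⟨y, hy0, hy⟩ : ∃ y : F, y ≠ 0 ∧ d * ρ y = l * y := by
    by_cases he : d + l = 0
    · obtain ⟨u, hu⟩ : ∃ u, ρ u ≠ u := by
        by_contra h
        push Not at h
        exact h1 (RingEquiv.ext h)
      refine ⟨u - ρ u, sub_ne_zero.2 hu.symm, ?_⟩
      rw [map_sub, hρ]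
      linear_combination (ρ u - u) * he
    · refine ⟨d + l, he, ?_⟩
      rw [map_add, hl]
      linear_combination h
  have hy1 : ρ y ≠ 0 := (map_ne_zero ρ).2 hy0
  obtain ⟨c, hc⟩ := isSquare_of_fix h2 h1 hρ (k := l / (y * ρ y))
    (by rw [map_div₀, map_mul, hρ, hl, mul_comm])
  refine ⟨c * y, ?_⟩
  field_simp at hc
  refine mul_right_cancel₀ hy1 ?_
  linear_combination hy + y * hc

theorem invol_form [Finite F] (h2 : (2 : F) ≠ 0) {α : MulAut PSL(2, F)} (h : α * α = 1) :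
    α ∈ (pc (F := F)).range ∨
      ∃ (g : PSL(2, F)) (ρ : F ≃+* F), α = MulAut.conj g * fld ρ ∧ ρ * ρ = 1 := by
  obtain ⟨P, ρ, rfl⟩ := aut_eq h2 α
  by_cases h1 : ρ = 1
  · exact Or.inl ⟨P, by rw [h1, map_one, mul_one]⟩
  right
  have h3 : pc (P * GeneralLinearGroup.map (ρ : F →+* F) P) * fld (ρ * ρ) = 1 := by
    rw [← h, map_mul, map_mul, mul_assoc (pc P) (fld ρ), ← mul_assoc (fld ρ), fld_pc]
    group
  have h4 : ρ * ρ = 1 := eq_one_of_fld_mem h2 ⟨_⁻¹, by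
    rw [map_inv, inv_eq_of_mul_eq_one_right h3]⟩
  have hρ : ∀ x, ρ (ρ x) = x := fun x => DFunLike.congr_fun h4 x
  rw [h4, map_one, mul_one] at h3
  obtain ⟨e1, e2, e3⟩ := sc_of_pc_eq_one h2 h3
  have hm : ∀ i j, (GeneralLinearGroup.map (ρ : F →+* F) P).val i j = ρ (P.val i j) :=
    fun _ _ => rfl
  simp only [Units.val_mul, Matrix.mul_apply, Fin.sum_univ_two, hm] at e1 e2 e3
  have hd := P.det_ne_zero
  rw [det_fin_two] at hd
  set a := P.val 0 0
  set b := P.val 0 1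
  set c := P.val 1 0
  set d := P.val 1 1
  have hn : (a * d - b * c) * ρ (a * d - b * c) = (a * ρ a + b * ρ c) * (a * ρ a + b * ρ c) := by
    rw [map_sub, map_mul, map_mul]
    linear_combination (-(a * ρ a + b * ρ c)) * e3 - (c * ρ a + d * ρ c) * e1
  have hl0 : a * ρ a + b * ρ c ≠ 0 := by
    intro e
    rw [e, mul_zero] at hn
    exact mul_ne_zero hd ((map_ne_zero ρ).2 hd) hn
  have hl : ρ (a * ρ a + b * ρ c) = a * ρ a + b * ρ c := by
    rw [map_add, map_mul, map_mul, hρ, hρ]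
    refine mul_left_cancel₀ hd ?_
    linear_combination c * d * e1 + c * b * e3 - a * b * e2
  obtain ⟨g, hg⟩ := exists_conj_of_isSquare (P := P)
    (by rw [det_fin_two]; exact isSquare_of_norm h2 h1 hρ hl hl0 hn)
  exact ⟨g, ρ, by rw [hg], h4⟩

theorem trace_zero (h2 : (2 : F) ≠ 0) {P : GL (Fin 2) F} (h : pc P * pc P = 1) (h1 : pc P ≠ 1) :
    P.val 0 0 + P.val 1 1 = 0 := by
  rw [← map_mul] at h
  obtain ⟨e1, e2, e3⟩ := sc_of_pc_eq_one h2 h
  simp only [Units.val_mul, Matrix.mul_apply, Fin.sum_univ_two] at e1 e2 e3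
  by_contra ht
  exact h1 (pc_eq_one ⟨mul_left_cancel₀ ht (by linear_combination e1),
    mul_left_cancel₀ ht (by linear_combination e2),
    mul_left_cancel₀ ht (by linear_combination e3)⟩)

theorem lin_of_comm {A B : Matrix (Fin 2) (Fin 2) F} (hA : ¬ Sc A) (h : A * B = B * A) :
    ∃ a b : F, B 0 0 = a + b * A 0 0 ∧ B 0 1 = b * A 0 1 ∧ B 1 0 = b * A 1 0 ∧
      B 1 1 = a + b * A 1 1 := by
  obtain ⟨h1, h2, h3⟩ := (matrix_two_commute_iff A B).1 h
  have key : ∃ t : F, B 0 0 - B 1 1 = t * (A 0 0 - A 1 1) ∧ B 0 1 = t * A 0 1 ∧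
      B 1 0 = t * A 1 0 := by
    by_cases hb : A 0 1 = 0
    · by_cases hc : A 1 0 = 0
      · have ha : A 0 0 - A 1 1 ≠ 0 := fun h => hA ⟨hb, hc, sub_eq_zero.mp h⟩
        refine ⟨(B 0 0 - B 1 1) / (A 0 0 - A 1 1), by field_simp, ?_, ?_⟩
        · field_simp; linear_combination h2
        · field_simp; linear_combination h3
      · refine ⟨B 1 0 / A 1 0, ?_, ?_, by field_simp⟩
        · field_simp; linear_combination -h3
        · field_simp; linear_combination -h1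
    · refine ⟨B 0 1 / A 0 1, ?_, by field_simp, ?_⟩
      · field_simp; linear_combination -h2
      · field_simp; linear_combination h1
  obtain ⟨t, h4, h5, h6⟩ := key
  exact ⟨B 0 0 - t * A 0 0, t, by ring, h5, h6, by linear_combination -h4⟩

theorem not_sc (h2 : (2 : F) ≠ 0) {P : GL (Fin 2) F} (ht : P.val 0 0 + P.val 1 1 = 0) :
    ¬ Sc P.val := by
  rintro ⟨e1, e2, e3⟩
  refine P.det_ne_zero ?_
  have : P.val 1 1 = 0 := mul_left_cancel₀ h2 (by linear_combination ht - e3)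
  rw [det_fin_two, e1, this]; ring

theorem cj_eq_of_odd (h2 : (2 : F) ≠ 0) {P : GL (Fin 2) F} {Z : SL(2, F)} {n : ℕ} (hn : Odd n)
    (hZ : Z ^ n = 1) (h : pc P (piP F Z) = piP F Z) : conjSL2 P Z = Z :=
  eq_of_piP_eq_of_odd h2 hn (by rw [← map_pow, hZ, map_one]) hZ h

section outer

variable (h2 : (2 : F) ≠ 0) {P : GL (Fin 2) F} (ht : P.val 0 0 + P.val 1 1 = 0)
  (hd : ¬ IsSquare P.val.det)

include h2 ht hd

theorem not_sq_neg_one {S : SL(2, F)} (hS : conjSL2 P S = S) : S * S ≠ -1 := by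
  intro e
  obtain ⟨a, b, e1, e2, e3, e4⟩ := lin_of_comm (not_sc h2 ht) (cj_iff.1 hS)
  have h3 := trace_eq_zero e
  have h4 := SL2_det S
  rw [e1, e4] at h3
  have ha : a = 0 := mul_left_cancel₀ h2 (by linear_combination h3 - b * ht)
  rw [e1, e2, e3, e4, ha] at h4
  have hb : b ≠ 0 := by
    rintro rfl
    simp at h4
  refine hd ⟨b⁻¹, ?_⟩
  rw [det_fin_two]
  field_simp
  linear_combination h4

theorem exists_odd_fix [Fintype F] (h5 : 5 ≤ Fintype.card F) :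
    ∃ z : PSL(2, F), z ≠ 1 ∧ Odd (orderOf z) ∧ pc P z = z := by
  classical
  set d := P.val.det with hdd
  have hd0 : d ≠ 0 := P.det_ne_zero
  obtain ⟨u, hu0, hu⟩ : ∃ u : F, u ≠ 0 ∧ 1 + d * u ^ 2 ≠ 0 := by
    by_contra hn
    push Not at hn
    obtain ⟨v, hv⟩ : ∃ v : F, v ∉ ({0, 1, -1} : Finset F) := by
      by_contra h
      push Not at h
      have := Finset.card_le_card (s := Finset.univ) fun v _ => h v
      have h3 : ({0, 1, -1} : Finset F).card ≤ 3 := Finset.card_le_three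
      rw [Finset.card_univ] at this
      omega
    simp only [Finset.mem_insert, Finset.mem_singleton, not_or] at hv
    have e1 := hn 1 one_ne_zero
    have e2 := hn v hv.1
    have e3 : (v - 1) * (v + 1) = 0 := mul_left_cancel₀ hd0 (by linear_combination e2 - e1)
    rcases mul_eq_zero.1 e3 with e | e
    · exact hv.2.1 (by linear_combination e)
    · exact hv.2.2 (by linear_combination e)
  rw [det_fin_two] at hdd
  set a := (1 - d * u ^ 2) / (1 + d * u ^ 2) with ha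
  set b := 2 * u / (1 + d * u ^ 2) with hb
  have hb0 : b ≠ 0 := div_ne_zero (mul_ne_zero h2 hu0) hu
  have hab : a ^ 2 + b ^ 2 * d = 1 := by rw [ha, hb]; field_simp; ring
  let Y : SL(2, F) := ⟨!![a + b * P.val 0 0, b * P.val 0 1; b * P.val 1 0, a + b * P.val 1 1], by
    rw [det_fin_two_of]
    linear_combination hab + a * b * ht - b ^ 2 * hdd⟩
  have Y00 : Y 0 0 = a + b * P.val 0 0 := rfl
  have Y01 : Y 0 1 = b * P.val 0 1 := rfl
  have Y10 : Y 1 0 = b * P.val 1 0 := rfl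
  have Y11 : Y 1 1 = a + b * P.val 1 1 := rfl
  have hY : conjSL2 P Y = Y := by
    rw [cj_iff, ent, Y00, Y01, Y10, Y11]
    exact ⟨⟨by ring, by ring⟩, by ring, by ring⟩
  have hYc : piP F Y ≠ 1 := by
    rw [Ne, piP_eq_one, SL2_mem_center_iff, Y00, Y01, Y10, Y11]
    rintro ⟨e1, e2, e3⟩
    exact not_sc h2 ht ⟨(mul_eq_zero.1 e1).resolve_left hb0, (mul_eq_zero.1 e2).resolve_left hb0,
      mul_left_cancel₀ hb0 (by linear_combination e3)⟩
  have hodd : Odd (orderOf (piP F Y)) := by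
    by_contra hn
    rw [Nat.not_odd_iff_even, even_iff_two_dvd] at hn
    have h3 := orderOf_pow_orderOf_div (orderOf_pos (piP F Y)).ne' hn
    rw [← map_pow] at h3
    exact not_sq_neg_one h2 ht hd (by rw [map_pow, hY]) (sq_eq_neg_one h2 h3)
  exact ⟨piP F Y, hYc, hodd, by rw [pc_piP, hY]⟩

omit ht hd in
theorem fix_of_comm {z w : PSL(2, F)} (h1 : z ≠ 1) (ho : Odd (orderOf z)) (hz : pc P z = z)
    (hw : w * z = z * w) : pc P w = w := by
  obtain ⟨Z, rfl, hZ⟩ := exists_odd_lift ho (pow_orderOf_eq_one z)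
  obtain ⟨W, rfl⟩ := piP_surj w
  have h3 := comm_of_piP_comm h2 ho hZ hw
  have h4 := cj_iff.1 (cj_eq_of_odd h2 ho hZ hz)
  rw [pc_piP]
  congr 1
  rw [cj_iff]
  exact matrix_two_commute_trans (A := Z.val)
    (fun e => h1 (piP_eq_one.2 (SL2_mem_center_iff.2 e))) h4.symm (congrArg Subtype.val h3.symm)

theorem inv_of_fix {s z : PSL(2, F)} (hs : orderOf s = 2) (h1 : pc P s = s)
    (ho : Odd (orderOf z)) (hz : pc P z = z) : s * z * s⁻¹ = z⁻¹ := by
  obtain ⟨Z, rfl, hZ⟩ := exists_odd_lift ho (pow_orderOf_eq_one z)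
  obtain ⟨S, rfl⟩ := piP_surj s
  have hS := sq_eq_neg_one h2 hs
  rw [pc_piP] at h1
  have h3 := (piP_eq_iff.1 h1).resolve_left fun e => not_sq_neg_one h2 ht hd e hS
  obtain ⟨a, b, f1, f2, f3, f4⟩ := lin_of_comm (not_sc h2 ht) (cj_iff.1 (cj_eq_of_odd h2 ho hZ hz))
  obtain ⟨⟨e1, e2⟩, e3, e4⟩ := ent.1 (cj_iff.1 h3)
  simp only [SL2_neg_apply] at e1 e2 e3 e4
  rw [← map_inv, ← map_inv, ← map_mul, ← map_mul]
  congr 1
  rw [mul_inv_eq_iff_eq_mul]
  apply SL2_ext <;> simp only [SL2_mul_apply, SL2_inv_00, SL2_inv_01, SL2_inv_10, SL2_inv_11,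
    f1, f2, f3, f4]
  · linear_combination b * e1 - b * S 0 0 * ht
  · linear_combination b * e2 - b * S 0 1 * ht
  · linear_combination b * e3 - b * S 1 0 * ht
  · linear_combination b * e4 - b * S 1 1 * ht

end outer

theorem inv_of_fix_inner (h2 : (2 : F) ≠ 0) {P : GL (Fin 2) F} (ht : P.val 0 0 + P.val 1 1 = 0)
    {T : SL(2, F)} (hT : T * T = -1) (h1 : pc P (piP F T) = piP F T)
    (h3 : pc P ≠ MulAut.conj (piP F T)) {Y : SL(2, F)} (hY : T * Y = Y * T) :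
    pc P (piP F Y) = (piP F Y)⁻¹ := by
  have hTc := SL2_not_mem_center_of_trace (trace_sq_ne h2 hT)
  have htT := trace_eq_zero hT
  rw [pc_piP] at h1
  have h4 : conjSL2 P T = -T := by
    refine (piP_eq_iff.1 h1).resolve_left fun e => h3 ?_
    obtain ⟨a, b, f1, f2, f3, f4⟩ := lin_of_comm (A := T.val)
      (fun e => hTc (SL2_mem_center_iff.2 e)) (cj_iff.1 e).symm
    have ha : a = 0 := mul_left_cancel₀ h2 (by linear_combination ht - f1 - f4 - b * htT)
    ext x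
    obtain ⟨W, rfl⟩ := piP_surj x
    rw [pc_piP, MulAut.conj_apply, ← map_inv, ← map_mul, ← map_mul]
    congr 1
    have h5 : T * W = T * W * T⁻¹ * T := by group
    generalize T * W * T⁻¹ = V at h5
    obtain ⟨⟨e1, e2⟩, e3, e4⟩ := ent.1 (congrArg Subtype.val h5 : T.val * W.val = V.val * T.val)
    rw [cj_iff, ent, f1, f2, f3, f4, ha]
    exact ⟨⟨by linear_combination b * e1, by linear_combination b * e2⟩,
      by linear_combination b * e3, by linear_combination b * e4⟩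
  obtain ⟨a, b, f1, f2, f3, f4⟩ := SL2_exists_lin hTc hY
  obtain ⟨⟨e1, e2⟩, e3, e4⟩ := ent.1 (cj_iff.1 h4)
  simp only [SL2_neg_apply] at e1 e2 e3 e4
  rw [pc_piP, ← map_inv]
  congr 1
  rw [cj_iff, ent]
  simp only [SL2_inv_00, SL2_inv_01, SL2_inv_10, SL2_inv_11, f1, f2, f3, f4]
  exact ⟨⟨by linear_combination b * e1 - b * P.val 0 0 * htT,
    by linear_combination b * e2 - b * P.val 0 1 * htT⟩,
    by linear_combination b * e3 - b * P.val 1 0 * htT,
    by linear_combination b * e4 - b * P.val 1 1 * htT⟩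

theorem exists_anti [Finite F] (h2 : (2 : F) ≠ 0) {T : SL(2, F)} (hT : T * T = -1) :
    ∃ S : SL(2, F), S * T * S⁻¹ = -T := by
  have ht := trace_eq_zero hT
  have hd := SL2_det T
  obtain ⟨x, y, z, e1, e2⟩ : ∃ x y z : F, x * -x - y * z = 1 ∧
      2 * T 0 0 * x + T 1 0 * y + T 0 1 * z = 0 := by
    by_cases hb : T 0 1 = 0
    · have ha : T 0 0 ≠ 0 := by
        intro e
        rw [e, hb] at hd
        simp at hd
      refine ⟨T 1 0, -(2 * T 0 0), (1 + T 1 0 ^ 2) / (2 * T 0 0), ?_, ?_⟩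
      · field_simp; ring
      · rw [hb]; ring
    · obtain ⟨m, n, h⟩ := exists_ab (F := F)
      refine ⟨m + T 0 0 * n, n * T 0 1,
        -(2 * T 0 0 * m + T 0 0 ^ 2 * n - n) / T 0 1, ?_, ?_⟩
      · field_simp
        linear_combination -h
      · field_simp
        linear_combination (T 0 0 * n) * ht - n * hd
  let S : SL(2, F) := ⟨!![x, y; z, -x], by rw [det_fin_two_of, e1]⟩
  have S00 : S 0 0 = x := rfl
  have S01 : S 0 1 = y := rfl
  have S10 : S 1 0 = z := rfl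
  have S11 : S 1 1 = -x := rfl
  refine ⟨S, ?_⟩
  rw [mul_inv_eq_iff_eq_mul]
  apply SL2_ext <;> simp only [SL2_mul_apply, SL2_neg_apply, S00, S01, S10, S11]
  · linear_combination e2
  · linear_combination y * ht
  · linear_combination z * ht
  · linear_combination e2 - 2 * x * ht

theorem exists_torus' [Fintype F] (h2 : (2 : F) ≠ 0) {T : SL(2, F)} (h : T * T = -1) :
    ∃ (g : SL(2, F)) (z : ℕ), orderOf g = 4 * z ∧
      zpowers g = centralizer {T} ∧ (Fintype.card F = 4 * z + 1 ∨ Fintype.card F + 1 = 4 * z) := by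
  obtain ⟨hc, hn⟩ := SL2_centralizer (trace_sq_ne h2 h)
  obtain ⟨g, hg⟩ := (isCyclic_iff_exists_zpowers_eq_top.mp hc)
  have e : zpowers (g : SL(2, F)) = centralizer {T} := by
    have := congrArg (Subgroup.map (centralizer ({T} : Set SL(2, F))).subtype) hg
    rwa [MonoidHom.map_zpowers, ← MonoidHom.range_eq_map, range_subtype] at this
  have h4 : 4 ∣ Nat.card (centralizer ({T} : Set SL(2, F))) := by
    rw [← orderOf_eq_four h2 h]
    exact Subgroup.orderOf_dvd_natCard _ (mem_centralizer_singleton_iff.2 rfl)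
  obtain ⟨z, hz⟩ := h4
  rw [hz, Nat.card_eq_fintype_card] at hn
  have := Fintype.card_pos (α := F)
  refine ⟨g, z, ?_, e, by omega⟩
  rw [← Nat.card_zpowers, e, hz]

theorem card_Rv [Finite F] (h2 : (2 : F) ≠ 0) {x y : F} (h : ¬ (x = 0 ∧ y = 0)) :
    Nat.card (Rv x y) = Nat.card F := by
  refine (Nat.card_congr (MonoidHom.ofInjective ?_).toEquiv).symm
  intro a b e
  have h1 := piP_uv_inj h2 e
  have h3 := congrArg (fun g : SL(2, F) => g 0 1) h1
  have h4 := congrArg (fun g : SL(2, F) => g 1 0) h1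
  simp only [uv01, uv10, neg_inj] at h3 h4
  refine Multiplicative.toAdd.injective ?_
  by_cases hx : x = 0
  · exact mul_right_cancel₀ (pow_ne_zero 2 fun hy => h ⟨hx, hy⟩) h4
  · exact mul_right_cancel₀ (pow_ne_zero 2 hx) h3

end CfsgLib.GD.LA
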