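import Cfsg.Agent.Lib.GD.Basic
import Cfsg.Agent.Lib.GD.LinA

/-!
# The local structure of `PSL₂(q) ⊴ X ≤ PΓL₂(q)` with dihedral Sylow `2`-subgroups

Sketch.  Conjugation embeds `X` in `Aut(PSL₂(F))`; by `aut_form` each `g ∈ X` acts as
`(inner) ∘ diag(s) ∘ (field automorphism ρ_g)`, and `g ↦ ρ_g` is a homomorphism (or argue
elementwise).  An involution `a ∈ X` has `ρ_a = 1`: if `ρ = ρ_a ≠ 1` then `ρ² = 1`, `q = q₀²`;
coset `L ρ` (`s` a square): the coset contains the `2`-element inducing `ρ`, which centralizes the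
four-group `⟨mI, mJ⟩` of `PSL₂(F_p)` (`fld_mI`, `fld_mJ`) and is not in it (`Dih.le_V`);
coset `L δ ρ` (`s` a non-square): `A ρ(A)` scalar `= λ` gives `λ ∈ F_{q₀}`,
`N(det A) = λ²`, so `det A` is a square, absurd.
So `a` is induced by `A ∈ GL₂(F)` with trace `0`, `A² = - det A`; elements of odd order have
unique odd order lifts to `SL₂(F)` (`exists_odd_lift`, `comm_of_piP_comm`), centralizers of
non-scalar matrices are `F[A]` (`SL2_exists_lin`), `S A S⁻¹ = -A` implies that `S` inverts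
`F[A] ⊓ SL₂` (`conj_eq_inv_of_anti`).  `inner` is the analogue of `GW.pslIn_PSL2`
(`k` = image of a generator of the torus `C_{SL₂}(T)`, of order `q - ε = 2 κ · …`; use `psl_rad`).
For an outer involution the norm one group of `F[A]` has order `q + ε = 2 · odd`, `≥ 6`.
`odd`: if `s` inverts `g` of odd order then `ρ_g² = 1`, so `ρ_g = 1` and `g` is inner (`aut_odd`).
-/

set_option autoImplicit false

namespace CfsgLib.GD

open Subgroup Cfsg CfsgLib.FT.BGN CfsgLib.FT.U4 CfsgLib.GW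

theorem Tor.map' {G X : Type*} [Group G] [Group X] [Finite G] [Finite X] {M L : Subgroup G}
    {t k : G} (h : Tor M L t k) (f : G →* X) (hf : Function.Injective f) {M' : Subgroup X}
    (hinv : ∀ s ∈ M', Four (f t) s → s * f k * s⁻¹ = (f k)⁻¹) :
    Tor M' (L.map f) (f t) (f k) := by
  have hc : ∀ a b : G, f a ∈ 𝐂[f b] ↔ a ∈ 𝐂[b] := fun a b => by
    rw [mem_cent1, mem_cent1, ← map_mul, ← map_mul, hf.eq_iff]
  have hz : ∀ x ∈ zpowers (f k), ∃ y ∈ zpowers k, f y = x := fun x hx => by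
    rwa [← MonoidHom.map_zpowers] at hx
  have hz' : ∀ y ∈ zpowers k, f y ∈ zpowers (f k) := fun y hy => by
    rw [← MonoidHom.map_zpowers]
    exact mem_map_of_mem f hy
  have ho : ∀ a, orderOf (f a) = orderOf a := orderOf_injective f hf
  have hi : ∀ y, L.map f ⊓ 𝐂[f y] = (L ⊓ 𝐂[y]).map f := fun y => by
    ext z
    constructor
    · rintro ⟨⟨w, hw, rfl⟩, h7⟩
      exact mem_map_of_mem f ⟨hw, (hc _ _).mp h7⟩
    · rintro ⟨w, hw, rfl⟩
      exact ⟨mem_map_of_mem f hw.1, (hc _ _).mpr hw.2⟩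
  refine ⟨mem_map_of_mem f h.kL, (hc _ _).2 h.kt, hz' _ h.tk, ?_, hinv, fun x hx h1 => ?_, ?_, ?_,
    ?_⟩
  · rintro _ ⟨y, hy, rfl⟩ h1 h2
    exact hz' _ (h.mem y hy ((hc _ _).1 h1) fun e => h2 (by rw [← map_mul, e, map_one]))
  · obtain ⟨y, hy, rfl⟩ := hz x hx
    rintro _ ⟨⟨w, hw, rfl⟩, h2⟩
    exact (hc _ _).mpr (h.cent y hy (fun e => h1 (by rw [← map_mul, e, map_one]))
      ⟨hw, (hc _ _).mp h2⟩)
  · rw [hi, card_map_of_injective hf, ho, h.card]
  · obtain ⟨ε, h1, h2⟩ := h.index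
    refine ⟨ε, h1, ?_⟩
    have e : (𝐂[f t]).comap f = 𝐂[t] := Subgroup.ext fun a => hc a t
    rw [← relIndex_comap, e, ho, h2]
  · obtain ⟨R, h1, h2, h3, h4, h5, h6⟩ := h.rad
    refine ⟨R.map f, map_mono h1, ?_, le_normalizer_map f (mem_map_of_mem f h3), ?_, ?_, ?_⟩
    · rintro _ ⟨y, hy, rfl⟩
      rw [← map_inv, ← map_mul, ← map_mul, h2 y hy, map_inv]
    · rcases h4 with rfl | ⟨h4, q, hq, h7⟩
      · exact Or.inl (Subgroup.map_bot f)
      · exact Or.inr ⟨by rwa [card_map_of_injective hf, ho], q, hq, h7.map f⟩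
    · rintro _ ⟨y, hy, rfl⟩ hy1
      rw [hi, h5 y hy fun e => hy1 (by rw [e, map_one])]
    · rintro _ ⟨s, hs, rfl⟩ h4' c hck hc1 hco l T hl hl2 hT hp hn hb
      obtain ⟨d, hd, rfl⟩ := hz c hck
      have e : (T.comap f).map f = T := map_comap_eq_self (hT.trans (map_le_range f L))
      have h7 : T.comap f ≤ L := (comap_mono hT).trans (comap_map_eq_self_of_injective hf L).le
      have h8 : T.comap f ⊓ 𝐂[d] = ⊥ := eq_bot_of_forall fun x hx => hf (by
        rw [map_one]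
        exact eq_one_of_mem_inf hb hx.1 ((hc _ _).mpr hx.2))
      rcases h6 s hs ⟨ho t ▸ h4'.ot, ho s ▸ h4'.os, hf (by rw [map_mul, map_mul, h4'.comm]),
          fun e => h4'.ne (by rw [e])⟩ d hd (fun e => hc1 (by rw [e, map_one])) (ho d ▸ hco) l
        (T.comap f) hl hl2 h7 (hp.comap_of_injective f hf) (le_normalizer_comap f hn) h8 with h9 | h9
      · exact Or.inl (e ▸ map_mono h9)
      · refine Or.inr (e ▸ (map_mono h9).trans ?_)
        rintro _ ⟨_, ⟨y, hy, rfl⟩, rfl⟩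
        exact ⟨f y, mem_map_of_mem f hy, by simp⟩

open Matrix MatrixGroups CfsgLib.H1 CfsgLib.H5 PA LA in
open CfsgLib.BSW (piP piP_surj piP_eq_one piP_eq_iff piP_neg piP_comm_iff SL2_neg_apply cent_piP
  SL2_sq_of_trace_zero) in
theorem tor_psl {F : Type*} [Field F] [Fintype F] (h2 : (2 : F) ≠ 0) {T : SL(2, F)}
    (hT : T * T = -1) : ∃ a : SL(2, F), T * a = a * T ∧
      Tor (⊤ : Subgroup PSL(2, F)) ⊤ (piP F T) (piP F a) := by
  have hTi : T⁻¹ = -T := by rw [inv_eq_iff_mul_eq_one, mul_neg, hT, neg_neg]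
  have hTc : T ∉ center SL(2, F) := SL2_not_mem_center_of_trace (trace_sq_ne h2 hT)
  have hanti : ∀ S : SL(2, F), Four (piP F T) (piP F S) → S * T * S⁻¹ = -T := fun S h4 => by
    have hS := sq_eq_neg_one h2 h4.os
    refine (piP_comm_iff.mp h4.comm.symm).resolve_left fun e => h4.ne ?_
    rcases SL2_eq_or_eq_inv (trace_sq_ne h2 hT) (mul_inv_eq_iff_eq_mul.mp e).symm
      ((trace_eq_zero hS).trans (trace_eq_zero hT).symm) with e | e
    · rw [e]
    · rw [e, hTi, piP_neg]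
  obtain ⟨a, z, ha, hc, hq⟩ := exists_torus' h2 hT
  have hz0 : 0 < z := by have := orderOf_pos a; omega
  have hk : orderOf (piP F a) = 2 * z := by
    refine Nat.dvd_antisymm (orderOf_dvd_of_pow_eq_one ?_) ?_
    · rw [← map_pow, piP_eq_one]
      refine SL2_mem_center_of_sq h2 ?_
      rw [← pow_mul, show 2 * z * 2 = orderOf a by omega, pow_orderOf_eq_one]
    · have h1 := pow_orderOf_eq_one (piP F a)
      rw [← map_pow, piP_eq_one] at h1
      have h3 := SL2_sq_eq_one_of_mem_center h1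
      rw [← pow_mul, ← orderOf_dvd_iff_pow_eq_one, ha, show 4 * z = 2 * z * 2 by ring] at h3
      exact Nat.dvd_of_mul_dvd_mul_right two_pos h3
  have hzp : ∀ x, x ∈ zpowers (piP F a) ↔ ∃ X : SL(2, F), X * T = T * X ∧ piP F X = x := fun x => by
    rw [← MonoidHom.map_zpowers, hc]
    exact exists_congr fun X => and_congr_left' mem_cent1
  have hsq : ∀ X : SL(2, F), X * T * X⁻¹ = -T → X * X = -1 := fun X e => by
    refine SL2_sq_of_trace_zero ?_
    have h1 := SL2_trace_conj T X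
    rw [show T * X * T⁻¹ = -X by
      rw [mul_inv_eq_iff_eq_mul, neg_mul, mul_inv_eq_iff_eq_mul.1 e, neg_mul, neg_neg],
      SL2_neg_apply, SL2_neg_apply] at h1
    exact mul_left_cancel₀ h2 (by linear_combination -h1)
  have hlift : ∀ x ∈ zpowers (piP F a), x ≠ 1 → Odd (orderOf x) → ∃ X : SL(2, F), piP F X = x ∧
      Odd (orderOf X) ∧ X ∉ center SL(2, F) ∧ X * T = T * X := by
    intro x hx h1 ho
    obtain ⟨X, hX, rfl⟩ := (hzp x).1 hx
    obtain ⟨Y, hY, hY1⟩ := exists_odd_lift ho (pow_orderOf_eq_one _)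
    refine ⟨Y, hY, ho.of_dvd_nat (orderOf_dvd_of_pow_eq_one hY1),
      fun e => h1 (hY ▸ piP_eq_one.mpr e), ?_⟩
    rcases piP_eq_iff.1 hY with rfl | rfl
    · exact hX
    · rw [neg_mul, mul_neg, hX]
  have hKT' : T * a = a * T := mem_cent1'.mp (hc ▸ mem_zpowers a)
  have hle : zpowers (piP F a) ≤ 𝐂[piP F T] := zpowers_le.2 (mem_cent1.2 (by
    rw [← map_mul, ← map_mul, hKT']))
  have hcard : Nat.card ↥(𝐂[piP F T]) = 2 * (2 * z) := by
    obtain ⟨S, hS⟩ := exists_anti h2 hT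
    have h1 : (zpowers (piP F a)).relIndex 𝐂[piP F T] = 2 := by
      rw [relIndex_eq_two_iff]
      refine ⟨piP F S, mem_cent1.2 (piP_comm_iff.2 (Or.inr hS)), fun b hb => ?_⟩
      obtain ⟨B, rfl⟩ := piP_surj b
      have h3 : ∀ Y : SL(2, F), piP F Y ∈ zpowers (piP F a) ↔ Y * T * Y⁻¹ = T := fun Y => by
        rw [hzp, mul_inv_eq_iff_eq_mul]
        refine ⟨?_, fun e => ⟨Y, e, rfl⟩⟩
        rintro ⟨X, hX, e⟩
        rcases piP_eq_iff.1 e with rfl | rfl
        · exact hX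
        · rwa [neg_mul, mul_neg, neg_inj] at hX
      have h4 : B * S * T * (B * S)⁻¹ = -(B * T * B⁻¹) := by
        rw [← neg_mul, ← mul_neg, ← hS]; group
      rw [← map_mul, h3, h3, h4]
      rcases piP_comm_iff.1 (mem_cent1.1 hb) with e | e
      · rw [e]
        exact Or.inr ⟨rfl, (ne_neg_self h2 T).symm⟩
      · rw [e, neg_neg]
        exact Or.inl ⟨rfl, (ne_neg_self h2 T).symm⟩
    rw [← card_mul_relIndex hle, h1, Nat.card_zpowers, hk, mul_comm]
  refine ⟨a, hKT', mem_top _, hle (mem_zpowers _), (hzp _).2 ⟨T, rfl, rfl⟩, ?_, ?_, ?_, ?_, ?_, ?_⟩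
  · intro x _ hx h1
    obtain ⟨X, rfl⟩ := piP_surj x
    rcases piP_comm_iff.1 (mem_cent1.1 hx) with e | e
    · exact (hzp _).2 ⟨X, mul_inv_eq_iff_eq_mul.1 e, rfl⟩
    · exact absurd (JB.piP_sq (hsq X e)) h1
  · intro s _ h4
    obtain ⟨S, rfl⟩ := piP_surj s
    rw [← map_inv, ← map_mul, ← map_mul, conj_eq_inv_of_anti h2 hT (hanti S h4) hKT', map_inv]
  · intro x hx h1 g hg
    obtain ⟨X, hX, rfl⟩ := (hzp x).1 hx
    have h3 : X 0 0 + X 1 1 ≠ 0 := fun e => h1 (JB.piP_sq (SL2_sq_of_trace_zero e))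
    have h4 : X ∉ center SL(2, F) := fun e => h1 (by rw [piP_eq_one.2 e, mul_one])
    have h5 := hg.2
    rw [cent_piP (Or.inl h3)] at h5
    obtain ⟨Y, hY, rfl⟩ := h5
    rw [mem_cent1, ← map_mul, ← map_mul, SL2_commute_trans h4 (mem_cent1'.1 hY) hX]
  · rw [top_inf_eq, hcard, hk]
  · obtain ⟨ε, hε, hq'⟩ := psl_exists_eps hq
    refine ⟨ε, hε, ?_⟩
    have h3 := index_mul_card (𝐂[piP F T])
    rw [hcard] at h3
    zify at h3
    rw [psl_card_mul h2 hε hq'] at h3
    rw [relIndex_top_right, hk]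
    refine mul_right_cancel₀ (show (2 * (2 * z) : ℤ) ≠ 0 by positivity) (h3.trans ?_)
    push_cast
    ring
  · -- eigenvectors of `T`
    have hdT := SL2_det T
    have htT := trace_eq_zero hT
    have key : ∀ c ∈ zpowers (piP F a), c ≠ 1 → Odd (orderOf c) → ∀ (l : ℕ) (P : Subgroup _), l.Prime →
        l ≠ 2 → IsPGroup l P → c ∈ 𝐍(P) → P ⊓ 𝐂[c] = ⊥ → P ≠ ⊥ →
        ∃ x y j : F, ¬ (x = 0 ∧ y = 0) ∧ P ≤ Rv x y ∧ T 0 0 * x + T 0 1 * y = j * x ∧
          T 1 0 * x + T 1 1 * y = j * y := by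
      intro c hc h1 ho l P hl hl2 hp hn hb hP
      obtain ⟨C, rfl, hCo, hCc, hCT⟩ := hlift c hc h1 ho
      obtain ⟨x, y, hxy, hle, e⟩ := psl_rad h2 hCo hl hl2 hp hn hb hP
      obtain ⟨α, β, e1, e2, e3, e4⟩ := SL2_exists_lin hCc hCT
      obtain ⟨j, hj⟩ := exists_smul (z := T 0 0 * x + T 0 1 * y) (w := T 1 0 * x + T 1 1 * y)
        hxy (by rw [e1, e2, e3, e4]; linear_combination β * e)
      exact ⟨x, y, j, hxy, hle, hj⟩
    have hsq : ∀ x y j : F, ¬ (x = 0 ∧ y = 0) → T 0 0 * x + T 0 1 * y = j * x →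
        T 1 0 * x + T 1 1 * y = j * y → j ^ 2 = -1 := by
      intro x y j hxy e1 e2
      by_contra hj
      have hj' : j ^ 2 + 1 ≠ 0 := fun e => hj (by linear_combination e)
      refine hxy ⟨(mul_eq_zero.mp (?_ : (j ^ 2 + 1) * x = 0)).resolve_left hj',
        (mul_eq_zero.mp (?_ : (j ^ 2 + 1) * y = 0)).resolve_left hj'⟩
      · linear_combination (-(T 0 0 + j)) * e1 - T 0 1 * e2 - x * hdT +
          (T 0 0 * x + T 0 1 * y) * htT
      · linear_combination (-(T 1 1 + j)) * e2 - T 1 0 * e1 - y * hdT +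
          (T 1 0 * x + T 1 1 * y) * htT
    have hpar : ∀ x y x' y' j : F, j ^ 2 = -1 → T 0 0 * x + T 0 1 * y = j * x →
        T 1 0 * x + T 1 1 * y = j * y → T 0 0 * x' + T 0 1 * y' = j * x' →
        T 1 0 * x' + T 1 1 * y' = j * y' → ¬ (x = 0 ∧ y = 0) → Rv x' y' ≤ Rv x y := by
      intro x y x' y' j hj e1 e2 e3 e4 hxy
      have h1 : 2 * (x' * y - y' * x) = 0 := by
        linear_combination (T 1 0 * x + T 1 1 * y) * e3 + j * x' * e2 -
          (T 0 0 * x + T 0 1 * y) * e4 - j * y' * e1 - (x' * y - y' * x) * hdT +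
          (x' * y - y' * x) * hj
      obtain ⟨l, rfl, rfl⟩ := exists_smul hxy
        (sub_eq_zero.mp ((mul_eq_zero.mp h1).resolve_left h2))
      exact Rv_smul_le l x y
    by_cases hv : ∃ x y j : F, ¬ (x = 0 ∧ y = 0) ∧ T 0 0 * x + T 0 1 * y = j * x ∧
        T 1 0 * x + T 1 1 * y = j * y
    · obtain ⟨x, y, i, hxy, e1, e2⟩ := hv
      have hi := hsq x y i hxy e1 e2
      refine ⟨Rv x y, le_top, ?_, ?_, ?_, fun g hg h1 => ?_, ?_⟩
      · intro g hg
        obtain ⟨c, rfl⟩ := mem_Rv.mp hg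
        rw [← map_inv, ← map_mul, ← map_mul, uv_conj, e1, e2, uv_smul, hi, ← map_inv, uv_inv,
          neg_one_mul]
      · obtain ⟨α, β, f1, f2, f3, f4⟩ := SL2_exists_lin hTc hKT'
        refine mem_normalizer_fintype fun g hg => ?_
        obtain ⟨c, rfl⟩ := mem_Rv.mp hg
        rw [← map_inv, ← map_mul, ← map_mul, uv_conj,
          show a 0 0 * x + a 0 1 * y = (α + β * i) * x by
            rw [f1, f2]; linear_combination β * e1,
          show a 1 0 * x + a 1 1 * y = (α + β * i) * y by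
            rw [f3, f4]; linear_combination β * e2]
        exact Rv_smul_le _ x y (mem_Rv.mpr ⟨c, rfl⟩)
      · right
        have h4 : Fintype.card F % 4 ≠ 3 :=
          FiniteField.isSquare_neg_one_iff.1 ⟨i, by rw [← hi, sq]⟩
        rw [card_Rv h2 hxy, hk, Nat.card_eq_fintype_card]
        refine ⟨by omega, ?_⟩
        obtain ⟨p, hp⟩ := CharP.exists F
        obtain ⟨n, hp', hn⟩ := FiniteField.card F p
        exact ⟨p, hp', IsPGroup.of_card (n := n)
          (by rw [card_Rv h2 hxy, Nat.card_eq_fintype_card, hn])⟩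
      · rw [top_inf_eq, cent_eq_Rv h2 hg h1]
      · intro s _ h4 c hc h1 ho l P hl hl2 _ hp hn hb
        obtain ⟨S, rfl⟩ := piP_surj s
        have hST := hanti S h4
        by_cases hP : P = ⊥
        · exact Or.inl (hP ▸ bot_le)
        obtain ⟨x', y', j, hxy', hle, e3, e4⟩ := key c hc h1 ho l P hl hl2 hp hn hb hP
        rcases sq_eq_sq_iff_eq_or_eq_neg.mp ((hsq x' y' j hxy' e3 e4).trans hi.symm) with e | e
        · subst e
          exact Or.inl (hle.trans (hpar x y x' y' j hi e1 e2 e3 e4 hxy))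
        · right
          have hTS : T * S = -(S * T) := by
            rw [mul_inv_eq_iff_eq_mul.mp hST, neg_mul, neg_neg]
          have f1 : (T * S) 0 0 = (-(S * T)) 0 0 := by rw [hTS]
          have f2 : (T * S) 0 1 = (-(S * T)) 0 1 := by rw [hTS]
          have f3 : (T * S) 1 0 = (-(S * T)) 1 0 := by rw [hTS]
          have f4 : (T * S) 1 1 = (-(S * T)) 1 1 := by rw [hTS]
          simp only [SL2_mul_apply, SL2_neg_apply] at f1 f2 f3 f4
          have hdS := SL2_det S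
          refine hle.trans ((hpar (S 0 0 * x + S 0 1 * y) (S 1 0 * x + S 1 1 * y) x' y' j
            (by rw [e, neg_sq, hi]) ?_ ?_ e3 e4 ?_).trans ?_)
          · rw [e]
            linear_combination x * f1 + y * f2 - S 0 0 * e1 - S 0 1 * e2
          · rw [e]
            linear_combination x * f3 + y * f4 - S 1 0 * e1 - S 1 1 * e2
          · rintro ⟨g1, g2⟩
            refine hxy ⟨?_, ?_⟩
            · linear_combination S 1 1 * g1 - S 0 1 * g2 - x * hdS
            · linear_combination S 0 0 * g2 - S 1 0 * g1 - y * hdS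
          · intro g hg
            obtain ⟨d, rfl⟩ := mem_Rv.mp hg
            rw [← uv_conj, map_mul, map_mul, map_inv]
            exact conj_mem_conj_iff.mpr (mem_Rv.mpr ⟨d, rfl⟩)
    · refine ⟨⊥, bot_le, fun g hg => by rw [mem_bot.mp hg]; group, ?_, Or.inl rfl,
        fun g hg h1 => absurd (mem_bot.mp hg) h1, ?_⟩
      · rw [normalizer_eq_top]; exact mem_top _
      · intro s _ _ c hc h1 ho l P hl hl2 _ hp hn hb
        refine Or.inl (le_bot_iff.mpr (by_contra fun hP => hv ?_))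
        obtain ⟨x, y, j, hxy, -, e⟩ := key c hc h1 ho l P hl hl2 hp hn hb hP
        exact ⟨x, y, j, hxy, e⟩

open Matrix MatrixGroups CfsgLib.H1 CfsgLib.H5 PA LA JB in
open CfsgLib.BSW (piP piP_surj) in
theorem lin_of_psl {X : Type*} [Group X] [Finite X] (hX : Dih X) {L : Subgroup X} [L.Normal]
    (hC : 𝐂(L) = ⊥) {F : Type} [Field F] [Fintype F] (h5 : 5 ≤ Fintype.card F)
    (ho : Odd (Fintype.card F)) (e : L ≃* Matrix.ProjectiveSpecialLinearGroup (Fin 2) F) :
    Lin L := by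
  have h2 : (2 : F) ≠ 0 := by
    intro e
    have h1 : ringChar F = 2 := by
      have := ringChar.dvd (R := F) (x := 2) (by exact_mod_cast e)
      rcases (Nat.dvd_prime Nat.prime_two).mp this with h | h
      · exact absurd h CharP.ringChar_ne_one
      · exact h
    have := FiniteField.even_card_iff_char_two.mp h1
    obtain ⟨m, hm⟩ := ho
    omega
  set ι : PSL(2, F) →* X := L.subtype.comp e.symm.toMonoidHom with hι
  have hιi : Function.Injective ι := L.subtype_injective.comp e.symm.injective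
  have hιL : ∀ y, ι y ∈ L := fun y => (e.symm y).2
  have hιs : ∀ x ∈ L, ∃ y, ι y = x := fun x hx => ⟨e ⟨x, hx⟩, by simp [hι]⟩
  have hιm : (⊤ : Subgroup PSL(2, F)).map ι = L := by
    refine le_antisymm ?_ fun x hx => ?_
    · rintro _ ⟨y, -, rfl⟩; exact hιL y
    · obtain ⟨y, rfl⟩ := hιs x hx
      exact mem_map_of_mem ι (mem_top y)
  have hιo : ∀ y, orderOf (ι y) = orderOf y := orderOf_injective ι hιi
  set φ : X →* MulAut PSL(2, F) := (MulAut.congr e).toMonoidHom.comp MulAut.conjNormal with hφ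
  have hφι : ∀ g y, ι (φ g y) = g * ι y * g⁻¹ := fun g y => by simp [hφ, hι]
  have hφi : Function.Injective φ := by
    rw [injective_iff_map_eq_one]
    intro g hg
    rw [← mem_bot, ← hC]
    intro x hx
    obtain ⟨y, rfl⟩ := hιs x hx
    have := hφι g y
    rw [hg, MulAut.one_apply] at this
    exact eq_mul_inv_iff_mul_eq.1 this
  have hφc : ∀ y, φ (ι y) = MulAut.conj y := fun y => MulEquiv.ext fun w => hιi (by
    rw [hφι, MulAut.conj_apply, map_mul, map_mul, map_inv])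
  have hfix : ∀ g y, φ g y = y ↔ ι y ∈ 𝐂[g] := fun g y => by
    rw [← hιi.eq_iff, hφι, mul_inv_eq_iff_eq_mul, mem_cent1']
  have hinn : ∀ y : PSL(2, F), MulAut.conj y ∈ (pc (F := F)).range := fun y => by
    obtain ⟨Y, rfl⟩ := piP_surj y
    exact ⟨_, pc_toGL Y⟩
  have hinv : ∀ a : X, orderOf a = 2 → ∃ P : GL (Fin 2) F, pc P = φ a ∧
      P.val 0 0 + P.val 1 1 = 0 := by
    intro a ha
    have haa : φ a * φ a = 1 := by
      rw [← map_mul, ← sq, orderOf_dvd_iff_pow_eq_one.1 ha.dvd, map_one]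
    obtain ⟨P, hP⟩ : φ a ∈ (pc (F := F)).range := by
      rcases invol_form h2 haa with h | ⟨g, ρ, h1, h3⟩
      · exact h
      obtain ⟨m, n, hmn⟩ := exists_ab (F := F)
      have h4 : φ ((ι g)⁻¹ * a) = fld ρ := by rw [map_mul, map_inv, hφc, h1, inv_mul_cancel_left]
      have h6 : ∀ {Y : SL(2, F)}, Y * Y = -1 → orderOf (ι (piP F Y)) = 2 := fun hY => by
        rw [hιo]
        exact orderOf_eq_prime (by rw [sq, piP_sq hY]) (piP_ne_one h2 hY)
      have h7 : Four (ι (piP F (JB.mI F))) (ι (piP F (mJ hmn))) :=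
        ⟨h6 mI_sq, h6 (mJ_sq hmn), by rw [← map_mul, ij_comm, map_mul],
          fun e => ij_ne hmn h2 (hιi e)⟩
      have h8 : (ι g)⁻¹ * a ∈ L := by
        rcases hX.mem_V h7 (v := (ι g)⁻¹ * a)
          (hφi (by rw [map_mul, h4, ← map_mul, h3, map_one, map_one]))
          (mem_cent1_comm.1 ((hfix _ _).1 (by rw [h4, fld_mI])))
          (mem_cent1_comm.1 ((hfix _ _).1 (by rw [h4, fld_mJ]))) with e | e | e | e <;> rw [e]
        · exact one_mem _
        · exact hιL _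
        · exact hιL _
        · exact mul_mem (hιL _) (hιL _)
      obtain ⟨y, rfl⟩ := hιs a (by simpa using mul_mem (hιL g) h8)
      exact hφc y ▸ hinn y
    refine ⟨P, hP, trace_zero h2 (hP ▸ haa) fun e => ?_⟩
    rw [hP, ← map_one φ, hφi.eq_iff] at e
    rw [e, orderOf_one] at ha
    omega
  refine ⟨fun t ht ht2 => ?_, fun a ha ha2 => ?_, fun s g hs hg hsg => ?_⟩
  · obtain ⟨y, rfl⟩ := hιs t ht
    obtain ⟨T, rfl⟩ := piP_surj y
    have hT := sq_eq_neg_one h2 (hιo _ ▸ ht2)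
    obtain ⟨a, ha, h⟩ := tor_psl h2 hT
    refine ⟨ι (piP F a), hιm ▸ h.map' ι hιi fun s _ h4 => ?_⟩
    obtain ⟨P, hP, hPt⟩ := hinv s h4.os
    rw [← hφι, ← hP, inv_of_fix_inner h2 hPt hT
      (by rw [hP]; exact (hfix _ _).2 (mem_cent1.2 h4.comm))
      (fun e => h4.ne (hφi (by rw [hφc, ← e, hP]))) ha, map_inv]
  · obtain ⟨P, hP, hPt⟩ := hinv a ha2
    have hd : ¬ IsSquare P.val.det := fun h => by
      obtain ⟨g, hg⟩ := exists_conj_of_isSquare h
      exact ha (hφi (by rw [hφc, ← hg, hP] : φ (ι g) = φ a) ▸ hιL g)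
    constructor
    · obtain ⟨z, h1, h3, h4⟩ := exists_odd_fix h2 hPt hd h5
      exact ⟨ι z, ⟨hιL z, (hfix _ _).1 (hP ▸ h4)⟩, fun e => h1 (hιi (by rw [e, map_one])),
        by rwa [hιo]⟩
    · rintro z ⟨hz, hza⟩ h1 h3
      obtain ⟨z, rfl⟩ := hιs z hz
      rw [hιo] at h3
      have h4 : pc P z = z := hP ▸ (hfix _ _).2 hza
      constructor
      · rintro w ⟨hw, hwz⟩
        obtain ⟨w, rfl⟩ := hιs w hw
        refine (hfix _ _).1 (hP ▸ fix_of_comm h2 (fun e => h1 (by rw [e, map_one])) h3 h4 ?_)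
        exact hιi (by rw [map_mul, map_mul]; exact mem_cent1.1 hwz)
      · intro s hs h6
        obtain ⟨s, rfl⟩ := hιs s hs
        rw [← map_inv, ← map_inv, ← map_mul, ← map_mul, inv_of_fix h2 hPt hd (hιo _ ▸ h6.os)
          (hP ▸ (hfix _ _).2 (mem_cent1'.2 h6.comm)) h3 h4]
  · have := normal_range h2
    obtain ⟨P, hP, -⟩ := hinv s hs
    have h1 : φ (g * g) ∈ (pc (F := F)).range := by
      have h3 : φ (g * g) = φ g * (pc P)⁻¹ * (φ g)⁻¹ * pc P := by
        rw [hP, ← map_inv, ← map_inv, ← map_mul, ← map_mul, ← map_mul, ← hsg]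
        congr 1
        group
      rw [h3]
      exact mul_mem (this.conj_mem _ (inv_mem ⟨P, rfl⟩) _) ⟨P, rfl⟩
    have h3 : φ g ∈ (pc (F := F)).range :=
      (zpowers_le (H := (pc (F := F)).range.comap φ)).2 h1 (mem_zpowers_sq hg)
    obtain ⟨y, ρ, h4⟩ := aut_odd h2 (φ g) (by rwa [orderOf_injective φ hφi])
    have h6 : ρ = 1 := eq_one_of_fld_mem h2 (by
      rw [h4] at h3
      exact (mul_mem_cancel_left (hinn y)).1 h3)
    rw [h6, map_one, mul_one, ← hφc, hφi.eq_iff] at h4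
    exact h4 ▸ hιL y

end CfsgLib.GD
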