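import Cfsg.Agent.Lib.GD.IIa
import Cfsg.Agent.Lib.GD.IIb
import Cfsg.Agent.Lib.GD.III

/-!
# The Gorenstein–Walter theorem
-/

set_option autoImplicit false

namespace CfsgLib.GD

open Subgroup Cfsg CfsgLib.FT.BGN CfsgLib.FT.U4 CfsgLib.GW
open scoped commutatorElement

universe u

section

variable {G : Type*} [Group G] [Finite G]

theorem Simp.setup (hG : Simp G) {S : Subgroup G} {x y t : G} (h : DF ⊤ S x y t)
    (hi : ∀ s, Four t s → Inverts s (Ut t)) (hc : ∀ a ∈ Ut t, a ≠ 1 → 𝐂[a] ≤ 𝐂[t]) :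
    BSW.Setup (Ut t ⊔ zpowers x) t y := by
  have h1 : zpowers x ≤ 𝐂(Ut t) := zpowers_le.2 (mem_cent.2 fun w hw => by
    have := hi _ h.four' _ (inv_mem hw)
    rw [show x * y * w⁻¹ * (x * y)⁻¹ = x * (y * w⁻¹ * y⁻¹) * x⁻¹ by group,
      hi _ h.four _ (inv_mem hw), inv_inv, mul_inv_eq_iff_eq_mul] at this
    exact this.symm)
  have hle : Ut t ⊔ zpowers x ≤ 𝐂[t] := sup_le (Ut_le t) (h.AS.trans h.S_le)
  have h3 : ∀ a ∈ Ut t ⊔ zpowers x, a * a = 1 → a = 1 ∨ a = t := fun a ha e => by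
    obtain ⟨u, hu, b, hb, rfl⟩ := (mem_sup_iff_of_le_normalizer' (h1.trans (cent_le_norm _))).1 ha
    rw [mul_assoc, ← mul_assoc b, ← mem_cent.1 (h1 hb) u hu, mul_assoc, ← mul_assoc] at e
    have h4 : u * u = 1 := eq_one_of_mem_inf (h.compl le_top).2.2.1 (mul_mem hu hu) (by
      rw [eq_inv_of_mul_eq_one_left e]; exact inv_mem (h.AS (mul_mem hb hb)))
    rw [h4, one_mul] at e
    rw [eq_one_of_odd_of_mul_self (odd_of_mem_Ut hu) h4, one_mul]
    exact h.uniq hb e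
  refine ⟨h.ot, mem_sup_right h.tA, fun a ha => mem_cent1.1 (hle ha), h3,
    (Nat.le_of_dvd (orderOf_pos x) h.four_dvd).trans (Nat.card_zpowers x ▸ card_le_of_le le_sup_right),
    h.four.comm.symm, fun e => (h3 y e h.four.ss).elim h.four.s1 h.four.ne.symm, fun u hu hK => ?_,
    fun a ha a1 g hg => mem_cent1.1 ?_, fun u => hG.exists_conj h.ot⟩
  · obtain ⟨w, hw, s, hs, rfl⟩ := h.exists_mul le_top (mem_cent1.2 hu)
    have hsA : s ∉ zpowers x := fun e => hK (mul_mem (mem_sup_left hw) (mem_sup_right e))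
    rw [show w * s * (w * s) = w * (s * w * s⁻¹) * (s * s) by group,
      hi s (h.refl_four hs hsA) w hw, mul_self_of_inv (h.refl_ord hs hsA)]
    simp
  · by_cases ho : Odd (orderOf a)
    · exact hc a ((hG.dih.mem_Ut h.ot).2 ⟨hle ha, ho⟩) a1 (mem_cent1.2 hg)
    · obtain ⟨c, hc, hc2⟩ := SW.exists_inv_zpowers ho
      rw [(h3 c (zpowers_le.2 ha hc) (mul_self_of_inv hc2)).resolve_left (ne_one_of_inv hc2)] at hc
      exact cent1_le_cent1 hc (mem_cent1.2 hg)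

theorem Simp.known_of_inverts (hG : Simp G) {t s : G} (h : Four t s)
    (hi : ∀ s, Four t s → Inverts s (Ut t)) (hc : ∀ a ∈ Ut t, a ≠ 1 → 𝐂[a] ≤ 𝐂[t]) : Known G := by
  obtain ⟨S, x, hS⟩ := hG.exists_frame h
  have := hG.simple
  obtain ⟨F, i1, i2, h1, h2⟩ := (hG.setup hS hi hc).psl
  have := (hG.setup hS hi hc).four
  exact Or.inl ⟨F, i1, i2, by omega, Nat.odd_iff.2 (by omega), h2⟩

theorem Hyp.cent_le {G : Type u} [Group G] [Finite G] (hG : Hyp G) {t s : G} (h : Four t s)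
    (hmax : IsCoatom 𝐂[t]) (hi : ∀ s, Four t s → Inverts s (Ut t)) {a : G} (ha : a ∈ Ut t)
    (a1 : a ≠ 1) : 𝐂[a] ≤ 𝐂[t] := by
  obtain ⟨S, x, hS⟩ := hG.toSimp.exists_frame h
  have h1 := (inverts_zpowers (hi _ hS.four a ha)).mem_norm
  refine (cent_zpowers a ▸ cent_le_norm _ : 𝐂[a] ≤ 𝐍(zpowers a)).trans
    (hG.toSimp.norm_eq hmax (by simpa using a1) (zpowers_le.2 (Ut_le t ha)) (hS.le_of le_top
      (((hi s h).le_cent.trans (centralizer_le (zpowers_le.2 ha))).trans (cent_le_norm _)) ?_ h1)).le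
  simpa using mul_mem (inverts_zpowers (hi _ hS.four' a ha)).mem_norm (inv_mem h1)

end

/-- **The Gorenstein–Walter theorem**. -/
theorem main (G : Type u) [Group G] [Finite G] (hs : IsSimpleGroup G)
    (hna : ¬ IsMulCommutative G) (hG : Dih G) : Known G := by
  induction hn : Nat.card G using Nat.strong_induction_on generalizing G with
  | _ n ih =>
  have hp : ⁅(⊤ : Subgroup G), (⊤ : Subgroup G)⁆ = ⊤ := BSW.commutator_eq_top_of_simple hna
  by_cases h8 : 8 ∣ Nat.card G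
  swap
  · obtain ⟨F, i1, i2, h1, h2, h3⟩ := psl_of_e4 G hs hna ⟨h8, fun g h4 => by
      have h1 : orderOf (g ^ (orderOf g / 4)) = 4 := orderOf_pow_orderOf_div (orderOf_pos g).ne' h4
      refine hG.not_cyclic_of_perf hp top_ne_bot (S := zpowers (g ^ (orderOf g / 4)))
        ⟨le_top, isPGroup_zpowers_iff.2 ⟨2, h1⟩, fun ⟨m, hm⟩ => h8 ⟨m, ?_⟩⟩ inferInstance
      rw [← card_mul_index (zpowers (g ^ (orderOf g / 4))), Nat.card_zpowers, h1,
        ← relIndex_top_right, hm]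
      ring⟩
    exact Or.inl ⟨F, i1, i2, h1, Nat.odd_iff.2 (by omega), h3⟩
  have hH : Hyp G := ⟨⟨hs, hG, h8, hG.oneCl_of_perf hp⟩,
    fun X _ _ hlt hX hX' hE => ih _ (hn ▸ hlt) X hX hX' hE rfl⟩
  obtain ⟨t, -, s, -, h⟩ := hG.exists_four_of_perf hp top_ne_bot
  by_cases hU : Ut t = ⊥
  · exact hH.toSimp.known_of_inverts h (fun _ _ a ha => by rw [hU, mem_bot] at ha; simp [ha])
      fun a ha a1 => absurd (by rwa [hU, mem_bot] at ha) a1
  obtain ⟨H, h1, h2, h3⟩ := exists_Od_le hH h.ot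
  by_cases e : H = 𝐂[t]
  swap
  · exact Or.inr (a7_of_Od_le hH h.ot hU h1 h2 e h3)
  by_cases hA : A7 (⊤ : Subgroup G)
  · exact Or.inr hA
  have hi : ∀ s, Four t s → Inverts s (Ut t) := fun s h4 =>
    (inverts_Ut hH h4 (e ▸ h1)).resolve_left hA
  exact hH.toSimp.known_of_inverts h hi fun a => hH.cent_le h (e ▸ h1) hi

end CfsgLib.GD
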