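import Cfsg.Agent.Lib.GD.MixC

/-!
# The configuration `Mixed` is impossible

Port of `GW/CountB`, `CountC`, `CountD`, `Count2` (read the sketch in `Count2`); `κ = orderOf k`
is now even, `|C_L(t)| = 2 κ`, `κ ≥ 2 p` (`Tor.two_mul_le`), `N = C(t)`, `M = N(⟨y⟩)`.  Changes:
* `N(⟨y⟩) ≤ C(y)` only holds for elements of odd order (`pm`); `|M : C(y)| ≤ 2`.
* `W = ⟨x⟩ ⊔ ⟨y⟩ = ⟨x⟩ ⊔ (⟨y⟩ ⊔ ⟨c⟩)` has order `p³`.  `E = |N : N ⊓ M|` satisfies
  `E (p - 1) ≤ p³ - p` (the `N`-conjugates of `⟨y⟩` are lines of `W` other than `⟨c⟩`; inject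
  `(q, a) ↦ q.out a q.out⁻¹` as in `card_ge`), so `E ≤ p (p + 1)`.
* `elem_t`: use `lt`.  `odd_cent`: use `exists_inv_cent` for `⟨t⟩` acting on `C(T)`.
  `sylow_y`, `burnside_cent` use that `C(T)` has odd order.  `exists_O`: add `k ∈ N(O)`.
* graph count: `v² ≤ n' + p² v`, `n' = |G : C(y)| ≤ 2 n`, `n I = i E` (`ED.index_eq`),
  `16 i ≤ 45 m²`, `m ≤ p (p+1) κ`, `v ≥ I (p-1)`, `36 I ≥ 55 κ²`, `v ≥ 12 p²`.
* End.  `g = w s`: Lemma R as before.  `g = w`: then `x, y, c, k, t` normalize `Q = O_q(O) ≥ R`,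
  `|R| = 2 κ + 1` a power of the prime `q` (`Tor.rad`, `R ≠ ⊥`), `q ∤ 2 κ p`, `C_Q(c) = 1`, `Q`
  abelian.  The subgroups `C_Q(y c^j) ≥ x^j R x^{-j}` (`j < p`) are independent: the norm map
  `o ↦ ∏_{a ∈ ⟨y c^j⟩} a o a⁻¹` is `o ↦ o^p` on `C_Q(y c^j)` and trivial on `C_Q(y c^i)`, `i ≠ j`
  (its value is centralized by `c`).  So `|Q| ≥ (2 κ + 1)^p`.
  - `p ≥ 5`: `H = W ⊔ ⟨k⟩ ≤ N` has order `p² κ`, `Q ⊓ N = 1`, `Q H ≤ N(Q) ≠ G`, so
    `2 |Q| p² κ ≤ |G| = i |N|`, `|N| = E |N ⊓ M| ≤ p (p+1) · 2 · p · 2 κ`; so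
    `8 (2κ+1)^p ≤ 45 p² (p+1)³ κ²`, false (use exponent `5` for `p = 5`, `7` for `p ≥ 7`).
  - `p = 3`: `q ∤ |U|` (`lt`), `q ∤ |N|`, so `|Q| ∣ i`; by `three`, `DF.mI_eq`,
    `DF.relIndex_cent`: `3 m = |U| · orderOf x₀`, so `q ∤ m`; `Simp.num`:
    `i (a-1)² = 2 m² a (a+1)`, `a ≡ 1 (mod 8)`, so `|Q|` divides `a` or `a + 1`, and
    `(a-1)² ∣ 4 m²`, `|a - 1| ≤ 2 m ≤ 24 κ < (2κ+1)³ - 2`.
-/

set_option autoImplicit false

namespace CfsgLib.GD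

open Subgroup Cfsg CfsgLib.FT.BGN CfsgLib.FT.U4 CfsgLib.GW
open scoped commutatorElement

theorem mix_arith2 {p κ Q : ℕ} (hp : 5 ≤ p) (ho : Odd p) (hκ : 2 * p ≤ κ)
    (h1 : (2 * κ + 1) ^ p ≤ Q) (h2 : 8 * Q ≤ 45 * p ^ 2 * (p + 1) ^ 3 * κ ^ 2) : False := by
  have hk : 0 < κ := by omega
  have hk2 : 0 < κ ^ 2 := by positivity
  by_cases e : p = 5
  · subst e
    have h3 : (2 * κ) ^ 5 ≤ Q := (Nat.pow_le_pow_left (by omega) 5).trans h1
    have h4 : 10 ^ 3 * κ ^ 2 ≤ κ ^ 3 * κ ^ 2 := by gcongr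
    have e1 : (2 * κ) ^ 5 = 32 * (κ ^ 3 * κ ^ 2) := by ring
    rw [e1] at h3
    omega
  · have h7 : 7 ≤ p := by obtain ⟨a, rfl⟩ := ho; omega
    have h3 : (2 * κ) ^ 7 ≤ Q :=
      ((Nat.pow_le_pow_left (by omega) 7).trans (Nat.pow_le_pow_right (by omega) h7)).trans h1
    have h4 : (2 * p) ^ 5 * κ ^ 2 ≤ κ ^ 5 * κ ^ 2 := by gcongr
    have h5 : 45 * p ^ 2 * (p + 1) ^ 3 * κ ^ 2 ≤ 45 * p ^ 2 * (2 * p) ^ 3 * κ ^ 2 := by
      gcongr; omega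
    have h6 : 0 < p ^ 5 * κ ^ 2 := by positivity
    have e1 : (2 * κ) ^ 7 = 128 * (κ ^ 5 * κ ^ 2) := by ring
    have e2 : (2 * p) ^ 5 * κ ^ 2 = 32 * (p ^ 5 * κ ^ 2) := by ring
    have e3 : 45 * p ^ 2 * (2 * p) ^ 3 * κ ^ 2 = 360 * (p ^ 5 * κ ^ 2) := by ring
    rw [e1] at h3
    rw [e2] at h4
    rw [e3] at h5
    omega

theorem mix_arith3 {q n i m : ℕ} {a : ℤ} (hq : q.Prime) (hd : q ^ n ∣ i) (hm : ¬ q ∣ m)
    (h8 : (8 : ℤ) ∣ a - 1) (e : i * (a - 1) ^ 2 = 2 * (m : ℤ) ^ 2 * a * (a + 1)) :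
    q ^ n ≤ 2 * m + 1 := by
  obtain ⟨b, hb⟩ := h8
  obtain rfl : a = 8 * b + 1 := by omega
  have e1 : (i : ℤ) * (4 * b) ^ 2 = (m : ℤ) ^ 2 * ((8 * b + 1) * (4 * b + 1)) := by
    have : 4 * ((i : ℤ) * (4 * b) ^ 2) = 4 * ((m : ℤ) ^ 2 * ((8 * b + 1) * (4 * b + 1))) := by
      linear_combination e
    omega
  have hm0 : (m : ℤ) ≠ 0 := by
    rintro h0
    exact hm (by rw [show m = 0 by exact_mod_cast h0]; exact dvd_zero _)
  have c1 : IsCoprime (4 * b) ((8 * b + 1) * (4 * b + 1)) :=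
    IsCoprime.mul_right ⟨-2, 1, by ring⟩ ⟨-1, 1, by ring⟩
  have d1 : (4 * b) ^ 2 ∣ (m : ℤ) ^ 2 :=
    c1.pow_left.dvd_of_dvd_mul_right (e1 ▸ Dvd.intro_left _ rfl)
  have l1 : |4 * b| ≤ m := by
    have := Int.le_of_dvd (by positivity) d1
    rwa [sq_le_sq, Nat.abs_cast] at this
  have hq' : Prime (q : ℤ) := Nat.prime_iff_prime_int.1 hq
  have d2 : (q : ℤ) ^ n ∣ (8 * b + 1) * (4 * b + 1) := by
    refine hq'.pow_dvd_of_dvd_mul_left n (fun h => hm ?_)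
      (e1 ▸ Dvd.dvd.mul_right (by exact_mod_cast hd) _)
    exact_mod_cast hq'.dvd_of_dvd_pow h
  have l2 := abs_le.1 l1
  have key : ∀ z : ℤ, (q : ℤ) ^ n ∣ z → z ≠ 0 → |z| ≤ 2 * m + 1 → q ^ n ≤ 2 * m + 1 := by
    intro z hz h0 hl
    have := (Int.le_of_dvd (abs_pos.2 h0) ((dvd_abs _ _).2 hz)).trans hl
    exact_mod_cast this
  by_cases h1 : (q : ℤ) ∣ 8 * b + 1
  · have h2 : ¬ (q : ℤ) ∣ 4 * b + 1 := fun h2 => hq'.not_dvd_one (by
      have := dvd_sub (h2.mul_left 2) h1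
      rwa [show 2 * (4 * b + 1) - (8 * b + 1) = 1 by ring] at this)
    exact key _ (hq'.pow_dvd_of_dvd_mul_right n h2 d2) (by omega) (abs_le.2 ⟨by omega, by omega⟩)
  · exact key _ (hq'.pow_dvd_of_dvd_mul_left n h1 d2) (by omega) (abs_le.2 ⟨by omega, by omega⟩)

variable {G : Type*} [Group G] [Finite G]

/-- The fixed point subgroups of commuting elements with pairwise trivial common fixed points
generate their direct product. -/
theorem pow_le_card_of_indep {Q : Subgroup G} (hQ : Q ≤ 𝐂(Q)) (z : ℕ → G) {p r : ℕ}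
    (hz : ∀ j, z j ∈ 𝐍(Q)) (hc : ∀ i j, z i ∈ 𝐂[z j])
    (hd : ∀ i j, i < j → j < p → Q ⊓ 𝐂[z i] ⊓ 𝐂[z j] = ⊥)
    (hr : ∀ j < p, r ≤ Nat.card ↥(Q ⊓ 𝐂[z j])) : r ^ p ≤ Nat.card Q := by
  have key : ∀ n ≤ p, ∃ B ≤ Q, (∀ j, z j ∈ 𝐍(B)) ∧ r ^ n ≤ Nat.card B ∧
      ∀ m, n ≤ m → m < p → B ⊓ 𝐂[z m] = ⊥ := by
    intro n
    induction n with
    | zero => exact fun _ => ⟨⊥, bot_le, fun j => mem_normalizer_of_conj_mem fun a ha => by
        rw [mem_bot.1 ha]; simp, by simp, fun _ _ _ => bot_inf_eq _⟩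
    | succ n ih =>
      intro hn
      obtain ⟨B, hB, h1, h2, h3⟩ := ih (by omega)
      have hBn : B ≤ 𝐍(Q ⊓ 𝐂[z n]) :=
        (hB.trans hQ).trans (le_trans (centralizer_le (SetLike.coe_subset_coe.2 inf_le_left))
          (cent_le_norm (Q ⊓ 𝐂[z n])))
      refine ⟨B ⊔ (Q ⊓ 𝐂[z n]), sup_le hB inf_le_left, fun j =>
        normalizer_inf_normalizer_le_normalizer_sup _ _
          ⟨h1 j, mem_norm_inf (hz j) (mem_norm_cent1 (hc j n))⟩, ?_, fun m hm hm' => ?_⟩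
      · rw [card_sup_of_disjoint hBn (eq_bot_iff.2 ((inf_le_inf_left _ inf_le_right).trans
          (h3 n le_rfl (by omega)).le)), pow_succ]
        exact Nat.mul_le_mul h2 (hr n (by omega))
      · refine eq_bot_of_forall fun g hg => ?_
        obtain ⟨b, hb, a, ha, rfl⟩ := (mem_sup_iff_of_le_normalizer hBn).1 hg.1
        have e1 : z n * (b * a) * (z n)⁻¹ * (b * a)⁻¹ = z n * b * (z n)⁻¹ * b⁻¹ := by
          have := conj_eq_of_mem_cent1 (mem_cent1_comm.1 ha.2)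
          calc _ = z n * b * (z n)⁻¹ * (z n * a * (z n)⁻¹) * (b * a)⁻¹ := by group
            _ = _ := by rw [this]; group
        have h4 : z n * (b * a) * (z n)⁻¹ * (b * a)⁻¹ = 1 := by
          refine eq_one_of_mem_inf (h3 m (by omega) hm') ?_
            (mul_mem (mul_mem (mul_mem (hc n m) hg.2) (inv_mem (hc n m))) (inv_mem hg.2))
          rw [e1]
          exact mul_mem (conj_mem_of_mem_normalizer (h1 n) hb) (inv_mem hb)
        refine eq_one_of_mem_inf (hd n m (by omega) hm') ⟨mul_mem (hB hb) ha.1, ?_⟩ hg.2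
        exact mem_cent1_comm.1 (mem_cent1_of_conj_eq (mul_inv_eq_one.1 h4))
  obtain ⟨B, hB, -, h2, -⟩ := key p le_rfl
  exact h2.trans (card_le_of_le hB)

namespace Mixed

variable {L : Subgroup G} {t s k x y c : G} {p : ℕ} (h : Mixed L t s k x y c p)
include h

theorem pow_le_card {Q R : Subgroup G} (hQ : Q ≤ 𝐂(Q)) (hx : x ∈ 𝐍(Q)) (hy : y ∈ 𝐍(Q))
    (hc : c ∈ 𝐍(Q)) (hcc : ∀ a ∈ zpowers c, a ≠ 1 → Q ⊓ 𝐂[a] = ⊥) (hR : R ≤ Q) (hRy : R ≤ 𝐂[y]) :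
    Nat.card R ^ p ≤ Nat.card Q := by
  have hcy : Commute y c := mem_cent1'.1 h.cy
  refine pow_le_card_of_indep hQ (fun j => y * c ^ j) (fun j => mul_mem hy (pow_mem hc j))
    (fun i j => mem_cent1.2 ?_) (fun i j hij hj => ?_) fun j _ => ?_
  · exact ((Commute.refl y).mul_right (hcy.pow_right j)).mul_left
      ((hcy.symm.pow_left i).mul_right (Commute.pow_pow_self c i j))
  · have h1 : c ^ (j - i) ≠ 1 := pow_ne_one_of_lt_orderOf (by omega) (by rw [h.oc]; omega)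
    rw [eq_bot_iff, ← hcc _ (pow_mem (mem_zpowers c) _) h1]
    refine fun g hg => ⟨hg.1.1, mem_cent1_comm.1 ?_⟩
    have e1 : c ^ (j - i) = (y * c ^ i)⁻¹ * (y * c ^ j) := by
      rw [show j = i + (j - i) by omega, pow_add, Nat.add_sub_cancel_left]; group
    rw [e1]
    exact mul_mem (inv_mem (mem_cent1_comm.1 hg.1.2)) (mem_cent1_comm.1 hg.2)
  · rw [← card_map_conj (x ^ j) R]
    refine card_le_of_le (le_inf ?_ ?_)
    · rw [← conj_norm (pow_mem hx j)]; exact map_mono hR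
    · rw [← h.conj_y_nat j, cent1_conj]; exact map_mono hRy

theorem card_yk : Nat.card ↥(zpowers y ⊔ zpowers k) = p * orderOf k := by
  rw [card_sup_of_disjoint, Nat.card_zpowers, Nat.card_zpowers, h.oy]
  · refine le_trans ?_ (cent_le_norm _)
    rw [cent_zpowers]
    exact zpowers_le.2 (h.kcent h.yU)
  · exact eq_bot_of_forall fun a ha => h.eq_one_of_y_L ha.1 (h.k_le_L ha.2)

theorem card_cent_le : Nat.card 𝐂[t] ≤ 4 * p ^ 2 * (p + 1) * orderOf k := by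
  have hn : zpowers y ≤ 𝐍(L ⊓ 𝐂[t]) := by
    refine le_trans ?_ (cent_le_norm _)
    exact zpowers_le.2 (mem_cent.2 fun g hg => mem_cent1.1 (h.L_le hg.1))
  have h1 : 𝐂[y] ⊓ (𝐍(zpowers y) ⊓ 𝐂[t]) ≤ zpowers y ⊔ (L ⊓ 𝐂[t]) := by
    intro g hg
    obtain ⟨a, ha, l, hl, rfl⟩ := h.split g hg.1
    exact mul_mem (mem_sup_left ha) (mem_sup_right ⟨hl, (Subgroup.mul_mem_cancel_left _
      (Ut_le t (zpowers_le.2 h.yU ha))).1 hg.2.2⟩)
  have h2 := (card_le_of_le h1).trans (Nat.le_of_dvd (Nat.mul_pos Nat.card_pos Nat.card_pos)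
    (card_sup_dvd_mul hn))
  rw [Nat.card_zpowers, h.oy, h.ed.tor.card] at h2
  rw [← card_inf_mul_relIndex 𝐍(zpowers y) 𝐂[t],
    ← card_inf_mul_relIndex 𝐂[y] (𝐍(zpowers y) ⊓ 𝐂[t])]
  calc _ ≤ p * (2 * orderOf k) * 2 * (p * (p + 1)) :=
        Nat.mul_le_mul (Nat.mul_le_mul h2 (h.relIndex_cent_le inf_le_left)) h.relIndex_le
    _ = _ := by ring

theorem big_false (hG : Simp G) (h3 : p ≠ 3) {Q : Subgroup G} (hQ1 : Q ≠ ⊥)
    (ho : Odd (Nat.card Q)) (hi : Inverts t Q) (hx : x ∈ 𝐍(Q)) (hy : y ∈ 𝐍(Q)) (hk : k ∈ 𝐍(Q))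
    (hbig : (2 * orderOf k + 1) ^ p ≤ Nat.card Q) : False := by
  have hyk : zpowers y ⊔ zpowers k ≤ 𝐂[y] :=
    sup_le (zpowers_le_cent1 y) (h.k_le_L.trans h.L_le)
  have h1 : Nat.card ↥(zpowers x ⊔ (zpowers y ⊔ zpowers k)) = p * (p * orderOf k) := by
    rw [card_sup_of_disjoint (zpowers_le.2 (h.x_mem_norm (mem_zpowers k) h.cmem)),
      Nat.card_zpowers, h.ox, h.card_yk]
    refine eq_bot_of_forall fun a ha => ?_
    by_contra h1
    have h2 := zpowers_eq_of_card_prime (X := zpowers x)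
      (by rw [Nat.card_zpowers, h.ox]; exact h.prime) ha.1 h1
    exact h.x_notMem (zpowers_le.2 (hyk ha.2) (h2 ▸ mem_zpowers x))
  have h2 : zpowers x ⊔ (zpowers y ⊔ zpowers k) ≤ 𝐍(Q) :=
    sup_le (zpowers_le.2 hx) (sup_le (zpowers_le.2 hy) (zpowers_le.2 hk))
  have h4 : zpowers x ⊔ (zpowers y ⊔ zpowers k) ≤ 𝐂[t] :=
    sup_le (zpowers_le.2 (Ut_le t h.xU))
      (sup_le (zpowers_le.2 (Ut_le t h.yU)) (zpowers_le.2 h.ed.tor.kt))
  have h5 := card_le_of_le (sup_le h2 (le_normalizer (H := Q)))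
  rw [card_sup_of_disjoint h2 (by
    rw [eq_bot_iff, ← hi.inf_cent ho, inf_comm]; exact inf_le_inf_left _ h4), h1] at h5
  have h6 : 2 ≤ (𝐍(Q)).index := by
    have := index_ne_zero_of_finite (H := 𝐍(Q))
    have := mt index_eq_one.1 (hG.norm_ne_top' hQ1 (solvable_of_odd ho))
    omega
  have h7 : p * (p * orderOf k) * Nat.card Q * 2 ≤ Nat.card 𝐂[t] * (𝐂[t]).index := by
    rw [card_mul_index, ← card_mul_index 𝐍(Q)]
    exact Nat.mul_le_mul h5 h6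
  have h8 : 16 * (𝐂[t]).index ≤ 45 * (p * (p + 1) * orderOf k) ^ 2 :=
    (hG.index_le h.ed.four.ot).trans (by gcongr; exact h.mle)
  have h9 := Nat.mul_le_mul h.card_cent_le h8
  have hp := h.three_le
  refine mix_arith2 (by obtain ⟨a, ha⟩ := h.odd_p; omega) h.odd_p h.two_mul_le hbig
    (Nat.le_of_mul_le_mul_left (c := 4 * p ^ 2 * orderOf k) ?_
      (by have := orderOf_pos k; positivity))
  calc 4 * p ^ 2 * orderOf k * (8 * Nat.card Q)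
      = 16 * (p * (p * orderOf k) * Nat.card Q * 2) := by ring
    _ ≤ Nat.card 𝐂[t] * (16 * (𝐂[t]).index) := by nlinarith
    _ ≤ _ := h9
    _ = _ := by ring

theorem three_false (hG : Simp G) (h3 : p = 3) {q : ℕ} (hq : q.Prime)
    (hq' : ¬ q ∣ 2 * orderOf k) {Q : Subgroup G} (hQ : IsPGroup q Q)
    (hbig : (2 * orderOf k + 1) ^ p ≤ Nat.card Q) : False := by
  have := Fact.mk hq
  have h4 := h.ed.four
  have hq2 : q ≠ 2 := fun e => hq' (e ▸ dvd_mul_right _ _)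
  have hU : ¬ q ∣ Nat.card (Ut t) := fun hd => by
    have := h.lt q hq hd fun e => hq' (e.mul_left 2)
    have := hq.two_le
    omega
  obtain ⟨S, x₀, hS⟩ := hG.exists_frame h4
  have hS2 : ¬ q ∣ Nat.card S := fun hd => by
    obtain ⟨n, hn⟩ := IsPGroup.iff_card.1 hS.syl.isPGroup
    exact hq2 ((Nat.prime_dvd_prime_iff_eq hq Nat.prime_two).1 (hq.dvd_of_dvd_pow (hn ▸ hd)))
  have hN : ¬ q ∣ Nat.card 𝐂[t] := by
    rw [← IsComplIn.card_mul (hS.compl le_top)]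
    exact fun hd => ((Nat.Prime.dvd_mul hq).1 hd).elim hU hS2
  have hrel : ∀ s', Four t s' → 6 * (𝐂[s']).relIndex 𝐂[t] = Nat.card (Ut t) * orderOf x₀ := by
    intro s' h'
    have h1 := card_inf_mul_relIndex 𝐂[s'] (Ut t)
    rw [inf_comm, h.three h3 s' h'] at h1
    rw [← h1, mul_assoc, ← hS.relIndex_cent le_top h']
    ring
  have hm : ¬ q ∣ mI t := fun hd => by
    have h1 : 3 * mI t = Nat.card (Ut t) * orderOf x₀ := by
      have := hrel _ hS.four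
      have := hrel _ hS.four'
      rw [hS.mI_eq le_top]
      omega
    refine ((Nat.Prime.dvd_mul hq).1 (h1 ▸ hd.mul_left 3)).elim hU fun e => hS2 ?_
    rw [hS.card_S']
    exact e.mul_left 2
  obtain ⟨n, hn⟩ := IsPGroup.iff_card.1 hQ
  have hd : q ^ n ∣ (𝐂[t]).index := by
    refine (((Nat.Prime.coprime_iff_not_dvd hq).2 hN).pow_left n).dvd_of_dvd_mul_left ?_
    rw [card_mul_index, ← hn]
    exact card_subgroup_dvd_card Q
  obtain ⟨a, -, -, h5, -, -, -, -, h6, -⟩ := hG.num hS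
  have h7 := mix_arith3 hq hd hm (Dvd.dvd.trans (by
    rw [hS.card_S']
    exact_mod_cast mul_dvd_mul_left 2 hS.four_dvd) h5) h6
  have h8 := h.mle
  have h9 := h.two_mul_le
  subst h3
  rw [hn] at hbig
  generalize orderOf k = κ at *
  have : (2 * κ + 1) ^ 3 ≤ 24 * κ + 1 := by omega
  nlinarith [Nat.mul_le_mul h9 h9, Nat.zero_le (κ ^ 3)]

end Mixed

theorem mixed_false (hG : Simp G) {L : Subgroup G} {t s k x y c : G} {p : ℕ}
    (h : Mixed L t s k x y c p) : False := by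
  have h4 := h.ed.four
  obtain ⟨R, hR⟩ := h.exists_rad
  obtain ⟨y', T₀, hy', hT₀1, hT₀, hcT₀, hyT₀⟩ := h.exists_T hG hR
  have hR1 : R ≠ ⊥ := fun e1 => hT₀1 (le_bot_iff.1 (e1 ▸ hT₀))
  obtain ⟨O, hRO, hOo, hOp, hOi, hOc, hkO, hyO, hK⟩ := h.exists_O hG hR hR1
  have hcO : c ∈ 𝐍(O) := zpowers_le.2 hkO h.cmem
  have hOnil : Group.IsNilpotent O := isNilpotent_of_comm hOi.isMulCommutative
  have hcop : ∀ {A Q : Subgroup G}, IsPGroup p A → Q ≤ O → (Nat.card A).Coprime (Nat.card Q) := by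
    intro A Q hA hQ
    have := Fact.mk h.prime
    obtain ⟨n, hn⟩ := IsPGroup.iff_card.1 hA
    rw [hn]
    exact ((Nat.Coprime.coprime_dvd_left (card_dvd_of_le hQ) hOp).symm).pow_left n
  have hcc : ∀ a ∈ zpowers c, a ≠ 1 → O ⊓ 𝐂[a] = ⊥ := fun a ha h1 => by
    rw [← cent_zpowers, h.zpowers_eq_c ha h1, cent_zpowers, hOc]
  -- the element `w`
  obtain ⟨c', hc', hc'1, hne⟩ : ∃ c' ∈ zpowers c, c' ≠ 1 ∧ O ⊓ 𝐂[y * c'] ≠ ⊥ := by
    by_contra hcon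
    push Not at hcon
    refine hy' (le_trans (hK T₀ hT₀1 hT₀ hcT₀).2 (sup_le ?_ (zpowers_le_cent1 y)) hyT₀)
    refine Cop.le_of_centralizer_le_of_not_isCyclic (comm_sup_zpowers h.cy)
      (not_cyclic_sup h.oy h.oc h.y_notMem_c)
      (sup_le (zpowers_le.2 hyO) (zpowers_le.2 hcO))
      (hcop (isPGroup_sup_zpowers h.oy h.oc h.cy) le_rfl) fun a ha h1 => ?_
    by_cases h2 : a ∈ zpowers c
    · rw [hcc a h2 h1]; exact bot_le
    obtain ⟨c', hc', h3⟩ := exists_mul_mem_zpowers (h.oy ▸ h.prime) h.cy ha h2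
    by_cases h5 : c' = 1
    · rw [h5, mul_one] at h3
      exact inf_le_right.trans (cent1_le_cent1 h3)
    · exact ((inf_le_inf_left _ (cent1_le_cent1 h3)).trans (hcon c' hc' h5).le).trans bot_le
  obtain ⟨w, hw, hwy⟩ := h.exists_conj_y hc'
  have hw1 : w ≠ 1 := by
    rintro rfl
    exact hc'1 (by simpa using hwy)
  have hwc : w ∈ 𝐂[c] := h.U_le h.cmem (zpowers_le.2 h.xU hw)
  -- the subgroup `T₁`
  obtain ⟨l, hl, hld⟩ := exists_prime_dvd_card hne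
  have := Fact.mk hl
  have hnil : Group.IsNilpotent ↥(O ⊓ 𝐂[y * c']) :=
    isNilpotent_of_comm (hOi.mono inf_le_left).isMulCommutative
  have hT₁ := sylow_pcore_of_nil hnil l
  have hcT₁ : c ∈ 𝐍(piCoreOf {l} (O ⊓ 𝐂[y * c'])) := by
    refine norm_le_norm_pcore _ _ (mem_norm_inf hcO (mem_norm_cent1 ?_))
    rw [mem_cent1_comm]
    exact mul_mem (mem_cent1_comm.1 h.cy) (zpowers_le_cent1 c hc')
  have hT₁1 := hT₁.ne_bot hld
  generalize piCoreOf {l} (O ⊓ 𝐂[y * c']) = T₁ at hT₁ hcT₁ hT₁1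
  have hT₁O : T₁ ≤ O := hT₁.le.trans inf_le_left
  have hconj : ∀ g : G, ∀ a ∈ g •ᶜ O, (orderOf a).Coprime p := by
    rintro g _ ⟨a, ha, rfl⟩
    exact Nat.Coprime.coprime_dvd_left (by
      rw [← card_map_conj g O]; exact orderOf_dvd_natCard _ (mem_map_of_mem _ ha)) hOp
  have hT₂L : w⁻¹ •ᶜ T₁ ≤ L := by
    intro a ha
    refine h.mem_L_of_coprime ?_ (hconj _ a (map_mono hT₁O ha))
    have h1 : w⁻¹ •ᶜ T₁ ≤ 𝐂[y] := by
      rw [← le_conj_iff, ← cent1_conj, hwy]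
      exact hT₁.le.trans inf_le_right
    exact h1 ha
  have hcw : w⁻¹ * c * w⁻¹⁻¹ = c := conj_eq_of_mem_cent1 (inv_mem hwc)
  have hcT₂ : c ∈ 𝐍(w⁻¹ •ᶜ T₁) := by
    rw [norm_conj, ← hcw]
    exact conj_mem_map_conj hcT₁
  have hT₂c : (w⁻¹ •ᶜ T₁) ⊓ 𝐂[c] = ⊥ := by
    rw [← hcw, cent1_conj, ← map_conj_inf, conj_eq_bot_iff, eq_bot_iff, ← hOc]
    exact inf_le_inf_right _ hT₁O
  have hl2 : l ≠ 2 := by
    rintro rfl
    exact Nat.not_even_iff_odd.2 hOo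
      (even_iff_two_dvd.2 (hld.trans (card_dvd_of_le inf_le_left)))
  have hnorm : ∀ g : G, g⁻¹ •ᶜ T₁ ≤ R → c ∈ 𝐍(g⁻¹ •ᶜ T₁) → g ∈ 𝐍(O) := by
    intro g h1 h2
    refine (Subgroup.inv_mem_iff _).1 (mem_normalizer_of_conj_mem fun a ha => ?_)
    refine (hK _ (by rwa [Ne, conj_eq_bot_iff]) h1 h2).1 _ ?_ (hconj _ _ (conj_mem_map_conj ha))
    rw [cent_conj]
    exact conj_mem_map_conj (centralizer_le hT₁O (hOi.le_cent ha))
  -- the subgroup `Q`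
  obtain ⟨hRc, q, hq, hRq⟩ := hR.big.resolve_left hR1
  have := Fact.mk hq
  have hqd : q ∣ Nat.card R := hRq.card_eq_or_dvd.resolve_left fun h0 => hR1 (card_eq_one.1 h0)
  have hq' : ¬ q ∣ 2 * orderOf k := fun h2 =>
    hq.one_lt.ne' (Nat.eq_one_of_dvd_coprimes hR.cop hqd h2)
  have hQ := sylow_pcore_of_nil hOnil q
  have hQn := norm_le_norm_pcore {q} O
  have hQ1 := hQ.ne_bot (hqd.trans (card_dvd_of_le hRO))
  have hRQ : R ≤ piCoreOf {q} O := le_pcore_of_nil hOnil hRO (isPGroup_iff_isPiSubgroup.1 hRq)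
  generalize piCoreOf {q} O = Q at hQ hQn hQ1 hRQ
  rcases hR.tr l _ hl hl2 hT₂L (hT₁.isPGroup.map _) hcT₂ hT₂c with h1 | h1
  · have hxO : x ∈ 𝐍(O) := by
      have h2 := zpowers_eq_of_card_prime (X := zpowers x)
        (by rw [Nat.card_zpowers, h.ox]; exact h.prime) hw hw1
      exact zpowers_le.2 (hnorm w h1 hcT₂) (h2 ▸ mem_zpowers x)
    have hQi := hOi.mono hQ.le
    have hbig : (2 * orderOf k + 1) ^ p ≤ Nat.card Q := by
      rw [← hRc]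
      exact h.pow_le_card hQi.le_cent (hQn hxO) (hQn hyO) (hQn hcO)
        (fun a ha h1 => eq_bot_iff.2 ((inf_le_inf_right _ hQ.le).trans (hcc a ha h1).le))
        hRQ (hR.le.trans h.L_le)
    by_cases h3 : p = 3
    · exact h.three_false hG h3 hq hq' hQ.isPGroup hbig
    · exact h.big_false hG h3 hQ1 (odd_card_of_le hOo hQ.le) hQi (hQn hxO) (hQn hyO) (hQn hkO) hbig
  · have e1 : (w * s)⁻¹ •ᶜ T₁ = s⁻¹ •ᶜ (w⁻¹ •ᶜ T₁) := by rw [mul_inv_rev, GW.conj_mul]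
    have h2 := hnorm (w * s) (e1 ▸ le_conj_iff.1 h1) (e1 ▸ h.c_mem_norm_conj hcT₂)
    have hwU : w ∈ Ut t := zpowers_le.2 h.xU hw
    have h3 : w * s * (w * s) = 1 := by
      calc w * s * (w * s) = w * (s * w * s⁻¹) * (s * s) := by group
        _ = 1 := by rw [inverts_zpowers h.sx w hw, h4.ss]; group
    have hwV : w ∉ V t s := fun h5 => hw1 (eq_one_of_mem_inf h4.Ut_inf_V hwU h5)
    have h4' : Four t (w * s) := by
      refine ⟨h4.ot, inv_of_mul_self h3 fun h5 => hwV ?_,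
        mem_cent1'.1 (mul_mem (Ut_le t hwU) h4.s_cent), fun h5 => hwV ?_⟩
      · rw [eq_inv_of_mul_eq_one_left h5]; exact inv_mem (s_mem_V t s)
      · rw [← mul_inv_eq_iff_eq_mul.2 h5]; exact mul_mem (t_mem_V t s) (inv_mem (s_mem_V t s))
    refine hQ1 (h.lemmaR hG hq (fun e2 => hq' (e2 ▸ dvd_mul_right _ _))
      (fun h5 => hq' (h5.mul_left 2)) hQ.isPGroup h4' (hQn hOi.mem_norm) (hQn h2) (hQn hcO) ?_)
    rw [eq_bot_iff, ← hOc]
    exact inf_le_inf_right _ hQ.le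

end CfsgLib.GD
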