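import Cfsg.Agent.Lib.GD.MixA

/-!
# The configuration `Mixed`: the counting argument (port of `GW/CountC`)
-/

set_option autoImplicit false

namespace CfsgLib.GD

open Subgroup Cfsg CfsgLib.FT.BGN CfsgLib.FT.U4 CfsgLib.GW
open scoped commutatorElement

variable {G : Type*} [Group G] [Finite G]

theorem mix_arith1 {p κ v n n' I i E m : ℕ} (hp : 3 ≤ p) (hκ : 2 * p ≤ κ)
    (hv : v * v ≤ n' + p ^ 2 * v) (hn' : n' ≤ 2 * n) (hn : n * I = i * E) (hE : E ≤ p * (p + 1))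
    (hi : 16 * i ≤ 45 * m ^ 2) (hm : m ≤ p * (p + 1) * κ) (hvI : I * (p - 1) ≤ v)
    (hI : (2 * κ - 1) * (κ - 1) ≤ I) : False := by
  have h1 : 55 * κ ^ 2 ≤ 36 * I := by
    obtain ⟨w, rfl⟩ : ∃ w, κ = w + 6 := ⟨κ - 6, by omega⟩
    rw [show 2 * (w + 6) - 1 = 2 * w + 11 by omega, show w + 6 - 1 = w + 5 by omega] at hI
    nlinarith
  obtain ⟨r, rfl⟩ : ∃ r, p = r + 1 := ⟨p - 1, by omega⟩
  rw [Nat.add_sub_cancel] at hvI
  have hr : 2 ≤ r := by omega
  have hk2 : (2 * (r + 1)) ^ 2 ≤ κ ^ 2 := Nat.pow_le_pow_left hκ 2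
  have h2 : 12 * (r + 1) ^ 2 ≤ v := by
    have : I * 2 ≤ I * r := Nat.mul_le_mul_left _ hr
    nlinarith
  have h3 : 11 * (v * v) ≤ 24 * n := by nlinarith
  set A := (r + 1) * (r + 1 + 1) with hA
  have h4 : 176 * (I * r * (I * r) * I) ≤ 1080 * (A ^ 3 * κ ^ 2) := by
    calc 176 * (I * r * (I * r) * I) ≤ 176 * (v * v * I) := by gcongr
      _ = 16 * (11 * (v * v) * I) := by ring
      _ ≤ 16 * (24 * n * I) := by gcongr
      _ = 24 * (16 * i * E) := by rw [mul_assoc 24, hn]; ring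
      _ ≤ 24 * (45 * (A * κ) ^ 2 * A) :=
        Nat.mul_le_mul_left _ (Nat.mul_le_mul (hi.trans (by gcongr)) hE)
      _ = _ := by ring
  have h5 : 2 * A ^ 3 ≤ κ ^ 4 * r ^ 2 := by
    calc 2 * A ^ 3 ≤ 2 * ((r + 1) * (2 * r)) ^ 3 := by
          rw [hA]; gcongr; omega
      _ = 16 * (r + 1) ^ 3 * r * r ^ 2 := by ring
      _ ≤ 16 * (r + 1) ^ 3 * (r + 1) * r ^ 2 := by gcongr; omega
      _ = (2 * (r + 1)) ^ 4 * r ^ 2 := by ring
      _ ≤ _ := by gcongr
  have h6 : (55 * κ ^ 2) ^ 3 * r ^ 2 ≤ (36 * I) ^ 3 * r ^ 2 := by gcongr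
  have h7 : 0 < κ ^ 6 * r ^ 2 := by
    have : 0 < κ := by omega
    have : 0 < r := by omega
    positivity
  have h8 : 2 * A ^ 3 * κ ^ 2 ≤ κ ^ 4 * r ^ 2 * κ ^ 2 := by gcongr
  have e1 : (55 * κ ^ 2) ^ 3 * r ^ 2 = 166375 * (κ ^ 6 * r ^ 2) := by ring
  have e2 : (36 * I) ^ 3 * r ^ 2 = 46656 * (I * r * (I * r) * I) := by ring
  have e3 : κ ^ 4 * r ^ 2 * κ ^ 2 = κ ^ 6 * r ^ 2 := by ring
  have e4 : 2 * A ^ 3 * κ ^ 2 = 2 * (A ^ 3 * κ ^ 2) := by ring
  rw [e1, e2] at h6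
  rw [e3, e4] at h8
  omega

namespace Mixed

variable {L : Subgroup G} {t s k x y c : G} {p : ℕ} (h : Mixed L t s k x y c p)
include h

omit [Finite G] in
theorem zpowers_eq_c {a : G} (ha : a ∈ zpowers c) (h1 : a ≠ 1) : zpowers a = zpowers c :=
  zpowers_eq_of_card_prime (by rw [Nat.card_zpowers, h.oc]; exact h.prime) ha h1

omit [Finite G] in
theorem orderOf_of_mem_c {a : G} (ha : a ∈ zpowers c) (h1 : a ≠ 1) : orderOf a = p := by
  rw [← Nat.card_zpowers, h.zpowers_eq_c ha h1, Nat.card_zpowers, h.oc]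

theorem exists_conj_c {l : G} (hl : l ∈ L) (ho : orderOf l = p) :
    ∃ a ∈ L, a * l * a⁻¹ ∈ zpowers c := by
  obtain ⟨a, ha, h1⟩ := h.ed.tor.exists_conj_mem h.prime h.p_ne_two h.p_dvd hl ho
  refine ⟨a, ha, h.mem_c h1 ?_⟩
  rw [← ho, ← orderOf_conj a l, pow_orderOf_eq_one]

theorem exists_conj_mul {l : G} (hl : l ∈ L) (ho : orderOf l = p) :
    ∃ g, g * y * g⁻¹ = y * l := by
  obtain ⟨a, ha, h1⟩ := h.exists_conj_c hl ho
  obtain ⟨w, -, h2⟩ := h.exists_conj_y h1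
  refine ⟨a⁻¹ * w, ?_⟩
  have h3 := conj_eq_of_mem_cent1 (inv_mem (h.L_le ha))
  calc a⁻¹ * w * y * (a⁻¹ * w)⁻¹ = a⁻¹ * (w * y * w⁻¹) * a := by group
    _ = (a⁻¹ * y * a⁻¹⁻¹) * l := by rw [h2]; group
    _ = y * l := by rw [h3]

theorem mem_sup_c (hE : Dih G) {g : G} (ht : g ∈ 𝐂[t]) (hy : g ∈ 𝐂[y]) (hp : g ^ p = 1) :
    g ∈ zpowers y ⊔ zpowers c := by
  have hU : g ∈ Ut t := (hE.mem_Ut h.ed.four.ot).2
    ⟨ht, h.odd_p.of_dvd_nat (orderOf_dvd_of_pow_eq_one hp)⟩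
  obtain ⟨a, ha, m, hm, rfl⟩ := h.split_U hU hy
  have h1 : Commute a m := mem_cent.1 (h.ed.cent (h.k_le_L hm)) a ha
  have h2 : a ^ p = 1 := orderOf_dvd_iff_pow_eq_one.1 (h.oy ▸ orderOf_dvd_of_mem_zpowers ha)
  rw [h1.mul_pow, h2, one_mul] at hp
  exact mul_mem (mem_sup_left ha) (mem_sup_right (h.mem_c hm hp))

theorem mem_sup_of_cent (hE : Dih G) {l g : G} (hl : l ∈ L) (ho : orderOf l = p) (hy : g ∈ 𝐂[y])
    (hg : g ∈ 𝐂[l]) (hp : g ^ p = 1) : g ∈ zpowers y ⊔ zpowers l := by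
  obtain ⟨a, ha, h1⟩ := h.exists_conj_c hl ho
  have h2 : a * l * a⁻¹ ≠ 1 := fun e1 => h.prime.one_lt.ne' (by
    rw [← ho, ← orderOf_conj a l, e1, orderOf_one])
  have h3 := conj_eq_of_mem_cent1 (h.L_le ha)
  have h4 : a * g * a⁻¹ ∈ zpowers y ⊔ zpowers c := by
    refine h.mem_sup_c hE (h.cent_k (zpowers_le.2 h.cmem h1) h2 ?_)
      (mul_mem (mul_mem (h.L_le ha) hy) (inv_mem (h.L_le ha))) (by rw [conj_pow, hp]; group)
    rw [cent1_conj]
    exact conj_mem_map_conj hg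
  rwa [← h.zpowers_eq_c h1 h2, ← h3, zpowers_conj, zpowers_conj, ← conj_sup,
    conj_mem_conj_iff] at h4

theorem card_ge : (𝐂[t]).relIndex L * (p - 1) ≤ Nat.card {l : G // l ∈ L ∧ orderOf l = p} := by
  classical
  let A := L ⧸ (𝐂[t]).subgroupOf L
  let f : A × {a : zpowers c // a ≠ 1} → {l : G // l ∈ L ∧ orderOf l = p} := fun q =>
    ⟨((q.1.out : L) : G) * (q.2.1 : G) * ((q.1.out : L) : G)⁻¹,
      mul_mem (mul_mem q.1.out.2 (zpowers_le.2 h.cL q.2.1.2)) (inv_mem q.1.out.2), by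
        rw [orderOf_conj]
        exact h.orderOf_of_mem_c q.2.1.2 fun e1 => q.2.2 (Subtype.ext e1)⟩
  have hf : Function.Injective f := by
    rintro ⟨a, ⟨b, hb⟩, hb1⟩ ⟨a', ⟨b', hb'⟩, hb1'⟩ e1
    have e2 : ((a.out : L) : G) * b * ((a.out : L) : G)⁻¹ =
      ((a'.out : L) : G) * b' * ((a'.out : L) : G)⁻¹ := congrArg Subtype.val e1
    have h1 : b ≠ 1 := fun e3 => hb1 (Subtype.ext e3)
    have h1' : b' ≠ 1 := fun e3 => hb1' (Subtype.ext e3)
    have h2 : a = a' := by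
      rw [← QuotientGroup.out_eq' a, ← QuotientGroup.out_eq' a', QuotientGroup.eq,
        mem_subgroupOf]
      refine h.normk c h.cmem h.c1 (mem_normalizer_of_map_conj_eq ?_)
      conv_lhs => rw [← h.zpowers_eq_c hb' h1']
      rw [← zpowers_conj, ← h.zpowers_eq_c hb h1]
      congr 1
      simp only [coe_mul, InvMemClass.coe_inv]
      calc ((a.out : L) : G)⁻¹ * ((a'.out : L) : G) * b' *
          (((a.out : L) : G)⁻¹ * ((a'.out : L) : G))⁻¹ = ((a.out : L) : G)⁻¹ *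
          (((a'.out : L) : G) * b' * ((a'.out : L) : G)⁻¹) * ((a.out : L) : G) := by group
        _ = b := by rw [← e2]; group
    subst h2
    have h3 : b = b' := by simpa using e2
    subst h3
    rfl
  have := Nat.card_le_card_of_injective f hf
  rw [Nat.card_prod] at this
  have h2 : Nat.card {a : zpowers c // a ≠ 1} = Nat.card (zpowers c) - 1 := by
    have := Fintype.ofFinite (zpowers c)
    simp
  rwa [h2, Nat.card_zpowers, h.oc] at this

theorem relIndex_cent_le {D : Subgroup G} (hD : D ≤ 𝐍(zpowers y)) : (𝐂[y]).relIndex D ≤ 2 := by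
  rw [← Frob.ncard_conj_subgroup]
  refine (Set.ncard_le_ncard (t := {y, y⁻¹}) ?_).trans
    ((Set.ncard_insert_le _ _).trans (by rw [Set.ncard_singleton]))
  rintro _ ⟨g, hg, rfl⟩
  exact h.pm g (hD hg)

theorem index_cent_le : (𝐂[y]).index ≤ 2 * (𝐍(zpowers y)).index := by
  rw [← relIndex_mul_index (cent_le_norm_y (y := y))]
  exact Nat.mul_le_mul_right _ (h.relIndex_cent_le le_rfl)

theorem conj_notMem_c {g a : G} (hg : g ∈ 𝐂[t]) (ha : a ∈ zpowers y) (h1 : a ≠ 1) :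
    g * a * g⁻¹ ∉ zpowers c := by
  intro hc
  have h2 : zpowers a = zpowers y :=
    zpowers_eq_of_card_prime (by rw [Nat.card_zpowers, h.oy]; exact h.prime) ha h1
  have h3 := h.U_le (zpowers_le.2 h.cmem hc)
    (conj_mem_of_mem_normalizer (cent_le_norm_Ut t hg) h.xU)
  rw [cent1_conj, conj_mem_conj_iff] at h3
  exact h.x_notMem (cent1_le_cent1 (h2 ▸ mem_zpowers y) h3)

theorem relIndex_le : (𝐍(zpowers y)).relIndex 𝐂[t] ≤ p * (p + 1) := by
  classical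
  let A := 𝐂[t] ⧸ (𝐍(zpowers y)).subgroupOf 𝐂[t]
  let f : A × {a : zpowers y // a ≠ 1} →
      ↥(((zpowers x ⊔ zpowers y : Subgroup G) : Set G) \ (zpowers c : Subgroup G)) := fun q =>
    ⟨((q.1.out : 𝐂[t]) : G) * (q.2.1 : G) * ((q.1.out : 𝐂[t]) : G)⁻¹,
      conj_mem_of_mem_normalizer (h.wnorm q.1.out.2) (mem_sup_right q.2.1.2),
      h.conj_notMem_c q.1.out.2 q.2.1.2 fun e1 => q.2.2 (Subtype.ext e1)⟩
  have hy : ∀ a ∈ zpowers y, a ≠ 1 → zpowers a = zpowers y := fun a ha h1 =>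
    zpowers_eq_of_card_prime (by rw [Nat.card_zpowers, h.oy]; exact h.prime) ha h1
  have hf : Function.Injective f := by
    rintro ⟨a, ⟨b, hb⟩, hb1⟩ ⟨a', ⟨b', hb'⟩, hb1'⟩ e1
    have e2 : ((a.out : 𝐂[t]) : G) * b * ((a.out : 𝐂[t]) : G)⁻¹ =
      ((a'.out : 𝐂[t]) : G) * b' * ((a'.out : 𝐂[t]) : G)⁻¹ := congrArg Subtype.val e1
    have h1 : b ≠ 1 := fun e3 => hb1 (Subtype.ext e3)
    have h1' : b' ≠ 1 := fun e3 => hb1' (Subtype.ext e3)
    have h2 : a = a' := by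
      rw [← QuotientGroup.out_eq' a, ← QuotientGroup.out_eq' a', QuotientGroup.eq,
        mem_subgroupOf]
      simp only [coe_mul, InvMemClass.coe_inv]
      generalize ((a.out : 𝐂[t]) : G) = u at e2 ⊢
      generalize ((a'.out : 𝐂[t]) : G) = u' at e2 ⊢
      refine mem_normalizer_of_map_conj_eq ?_
      conv_lhs => rw [← hy _ hb' h1']
      rw [← zpowers_conj, ← hy _ hb h1]
      congr 1
      calc u⁻¹ * u' * b' * (u⁻¹ * u')⁻¹ = u⁻¹ * (u' * b' * u'⁻¹) * u := by group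
        _ = b := by rw [← e2]; group
    subst h2
    have h3 : b = b' := by simpa using e2
    subst h3
    rfl
  have := Nat.card_le_card_of_injective f hf
  rw [Nat.card_prod] at this
  have h2 : Nat.card {a : zpowers y // a ≠ 1} = Nat.card (zpowers y) - 1 := by
    have := Fintype.ofFinite (zpowers y)
    simp
  have hcW : zpowers c ≤ zpowers x ⊔ zpowers y := by
    rw [h.W_eq]; exact le_sup_right.trans le_sup_right
  rw [h2, Nat.card_zpowers, h.oy, Nat.card_coe_set_eq, ncard_diff hcW, Nat.card_zpowers,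
    h.oc] at this
  have h3 : (𝐍(zpowers y)).relIndex 𝐂[t] * (p - 1) ≤ p ^ 3 - p :=
    this.trans (Nat.sub_le_sub_right h.card_W_le _)
  have hp := h.prime.two_le
  obtain ⟨r, rfl⟩ : ∃ r, p = r + 1 := ⟨p - 1, by omega⟩
  rw [Nat.add_sub_cancel, show (r + 1) ^ 3 = (r + 1) * (r + 1 + 1) * r + (r + 1) by ring,
    Nat.add_sub_cancel] at h3
  exact Nat.le_of_mul_le_mul_right h3 (by omega)

theorem three_le : 3 ≤ p := by
  have := h.prime.two_le
  have := h.p_ne_two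
  omega

theorem two_mul_le : 2 * p ≤ orderOf k := h.ed.tor.two_mul_le h.ed.four.ot h.odd_p h.p_dvd

theorem exists_pair (hG : Simp G) : ∃ y', orderOf y' = p ∧ y' ∉ 𝐂[y] ∧ ∃ c₁ ∈ L, ∃ c₂ ∈ L,
    orderOf c₁ = p ∧ orderOf c₂ = p ∧ c₁ ≠ c₂ ∧ y' ∈ 𝐂[y * c₁] ∧ y' ∈ 𝐂[y * c₂] := by
  classical
  by_contra hcon
  push Not at hcon
  have hE := hG.dih
  have := Fintype.ofFinite G
  let Λ := {l : G // l ∈ L ∧ orderOf l = p}
  choose g hg using fun l : Λ => h.exists_conj_mul l.2.1 l.2.2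
  let f : Λ × Λ → G := fun q => g q.1 * (y * q.2) * (g q.1)⁻¹
  have hf1 : ∀ q, IsConj y (f q) := fun q => by
    refine isConj_iff.2 ⟨g q.1 * g q.2, ?_⟩
    simp only [f]
    rw [← hg q.2]; group
  have hf2 : ∀ q, orderOf (f q) = p := fun q => by
    obtain ⟨a, ha⟩ := isConj_iff.1 (hf1 q)
    rw [← ha, orderOf_conj, h.oy]
  have hf3 : ∀ q, f q ∈ 𝐂[y * q.1] := fun q => by
    rw [← hg q.1, cent1_conj]
    exact conj_mem_map_conj (mul_mem (self_mem_cent1 y) (h.L_le q.2.2.1))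
  have hf4 : ∀ l m m', f (l, m) = f (l, m') → m = m' := fun l m m' e1 =>
    Subtype.ext (by simpa [f] using e1)
  have hA : (Finset.univ.filter fun q : Λ × Λ => ¬ f q ∈ 𝐂[y]).card ≤ (𝐂[y]).index := by
    rw [ClassCount.index_centralizer_eq_ncard, Set.ncard_eq_toFinset_card']
    refine Finset.card_le_card_of_injOn f (fun q _ => by simpa using hf1 q) ?_
    rintro ⟨l, m⟩ hq ⟨l', m'⟩ hq' e1
    have h1 : l = l' := by
      by_contra hne
      refine hcon (f (l, m)) (hf2 _) (by simpa using hq) l l.2.1 l' l'.2.1 l.2.2 l'.2.2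
        (fun e2 => hne (Subtype.ext e2)) (hf3 (l, m)) ?_
      rw [e1]; exact hf3 (l', m')
    subst h1
    rw [hf4 l m m' e1]
  have hB : (Finset.univ.filter fun q : Λ × Λ => f q ∈ 𝐂[y]).card ≤
      p ^ 2 * (Finset.univ : Finset Λ).card := by
    refine Finset.card_le_mul_card_image_of_maps_to (f := Prod.fst) (fun _ _ => Finset.mem_univ _)
      _ fun l _ => ?_
    have h1 : Nat.card ↥(zpowers y ⊔ zpowers (l : G)) ≤ p ^ 2 := by
      refine Nat.le_of_dvd (pow_pos h.prime.pos 2) ((card_sup_dvd_mul ?_).trans ?_)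
      · refine le_trans ?_ (cent_le_norm _)
        rw [cent_zpowers]
        exact zpowers_le.2 (mem_cent1_comm.1 (h.L_le l.2.1))
      · rw [Nat.card_zpowers, Nat.card_zpowers, h.oy, l.2.2, pow_two]
    refine le_trans ?_ h1
    rw [← SetLike.coe_sort_coe, Nat.card_coe_set_eq, Set.ncard_eq_toFinset_card']
    refine Finset.card_le_card_of_injOn f (fun q hq => ?_) ?_
    · simp only [Finset.coe_filter, Finset.mem_filter, Finset.mem_univ, true_and,
        Set.mem_ofPred_eq] at hq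
      simp only [Set.coe_toFinset, SetLike.mem_coe]
      refine h.mem_sup_of_cent hE l.2.1 l.2.2 hq.1 ?_ (hf2 q ▸ pow_orderOf_eq_one _)
      have h2 := hf3 q
      rw [hq.2, mem_cent1_comm] at h2
      rw [mem_cent1_comm]
      exact (Subgroup.mul_mem_cancel_left _ (mem_cent1_comm.1 hq.1)).1 h2
    · rintro ⟨l₁, m⟩ hq ⟨l₂, m'⟩ hq' e1
      simp only [Finset.coe_filter, Finset.mem_filter, Finset.mem_univ, true_and,
        Set.mem_ofPred_eq] at hq hq'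
      obtain rfl := hq.2
      obtain rfl := hq'.2
      rw [hf4 _ m m' e1]
  have hC := Finset.card_filter_add_card_filter_not (s := (Finset.univ : Finset (Λ × Λ)))
    (fun q => f q ∈ 𝐂[y])
  rw [Finset.card_univ, Fintype.card_prod] at hC
  rw [Finset.card_univ] at hB
  have hv := h.card_ge
  rw [Nat.card_eq_fintype_card] at hv
  exact mix_arith1 (v := Fintype.card Λ) (n' := (𝐂[y]).index) h.three_le h.two_mul_le (by omega)
    h.index_cent_le (h.ed.index_eq hE) h.relIndex_le (hG.index_le h.ed.four.ot) h.mle hv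
    h.ed.tor.index_ge

end Mixed

end CfsgLib.GD
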