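import Cfsg.Agent.Lib.GD.T3
import Cfsg.Agent.Lib.GD.C1

/-!
# The case that every `O_q(U)` is centralized or inverted by each reflection
-/

set_option autoImplicit false

namespace CfsgLib.GD

open Subgroup Cfsg CfsgLib.FT.BGN CfsgLib.FT.U4 CfsgLib.GW
open scoped commutatorElement

universe u

section general

variable {G : Type*} [Group G] [Finite G] {t s : G}

theorem odd_fit (t : G) : Odd (Nat.card (fittingOf (Ut t))) := odd_card_of_le (odd_Ut t) (fit_le _)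

theorem cent_le_norm_fit (t : G) : 𝐂[t] ≤ 𝐍(fittingOf (Ut t)) :=
  (cent_le_norm_Ut t).trans (norm_le_norm_fit _)

theorem exists_prime_pow {f : G} (hf : f ∈ fittingOf (Ut t)) (h1 : f ≠ 1) :
    ∃ (r : ℕ) (_ : Fact r.Prime), ∃ a ∈ zpowers f, orderOf a = r ∧ a ∈ pCoreOf r (Ut t) := by
  obtain ⟨r, hr, hd⟩ := exists_prime_dvd_card (H := zpowers f) (by simpa using h1)
  obtain ⟨a, ha, ho⟩ := SW.exists_orderOf hr hd
  have := Fact.mk hr
  exact ⟨r, this, a, ha, ho, mem_pc_of_fit (zpowers_le.2 hf ha)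
    (isPGroup_of_card_eq (by rw [Nat.card_zpowers, ho]))⟩

theorem inverts_fit (h4 : Four t s) (h : ∀ (q : ℕ) [Fact q.Prime], Inverts s (pCoreOf q (Ut t))) :
    Inverts s (fittingOf (Ut t)) :=
  inverts_of_inf_cent h4.ss (odd_fit t) (cent_le_norm_fit t h4.s_cent) (eq_bot_of_forall fun f hf => by
    by_contra h1
    obtain ⟨r, _, a, ha, ho, har⟩ := exists_prime_pow hf.1 h1
    exact ne_one_of_orderOf ho (mem_bot.1 ((h r).inf_cent (odd_pc r t) ▸
      mem_inf.2 ⟨har, zpowers_le.2 hf.2 ha⟩)))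

theorem le_cent_U {A : Subgroup G} (h1 : A ≤ 𝐂[t]) (h2 : A ≤ 𝐂(fittingOf (Ut t)))
    (hA : IsPGroup 2 A) : A ≤ 𝐂(Ut t) := by
  obtain ⟨k, hk⟩ := IsPGroup.iff_card.1 hA
  refine le_centralizer_iff.1 (commutator_eq_bot_iff_le_centralizer.1
    (Cop.commutator_eq_bot_of_le_of_centralizes (N := fittingOf (Ut t)) (le_trans (le_inf
      (comm_le_left (h1.trans (cent_le_norm_Ut t))) ((commutator_mono le_rfl h2).trans
        (comm_le_right ((le_normalizer.trans (norm_le_norm_fit _)).trans (norm_le_norm_cent _)))))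
      (FT.cent_sub_Fitting (solvable_Ut t)))
    (commutator_eq_bot_iff_le_centralizer.2 (le_centralizer_iff.1 h2)) ?_))
  rw [hk]
  exact (Nat.coprime_two_left.2 (odd_fit t)).pow_left k

theorem DF.norm_le {L S : Subgroup G} {x y : G} (h : DF L S x y t) : 𝐍(S) ≤ 𝐂[t] := fun g hg => by
  refine SW.norm_le_cent_inv inferInstance h.tA h.ot (SW.Fr.mem_norm_of_conj (mem_zpowers x) ?_)
  by_contra e
  have h1 := mul_self_of_inv (h.refl_ord (conj_mem_of_mem_normalizer hg h.xS) e)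
  rw [_root_.conj_mul, conj_eq_one_iff] at h1
  exact h.xxA0 (h1 ▸ one_mem _)

theorem mem_cent_of_inverts {K : Subgroup G} {x y : G} (h1 : Inverts y K) (h2 : Inverts (x * y) K) :
    x ∈ 𝐂(K) := mem_cent.2 fun w hw => by
  have := h2 _ (inv_mem hw)
  rw [show x * y * w⁻¹ * (x * y)⁻¹ = x * (y * w⁻¹ * y⁻¹) * x⁻¹ by group,
    h1 _ (inv_mem hw), inv_inv, mul_inv_eq_iff_eq_mul] at this
  exact this.symm

theorem conj_es {e : G} (ht : t * t = 1) (e1 : e * e = t) (e3 : s * e * s⁻¹ = e⁻¹) :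
    s * (e * s) * s⁻¹ = t * (e * s) := by
  rw [show s * (e * s) * s⁻¹ = s * e * s⁻¹ * s by group, e3, ← e1, ← mul_assoc, mul_left_inj,
    inv_eq_iff_mul_eq_one, ← ht, ← e1]
  group

end general

variable {G : Type u} [Group G] [Finite G]

/-- `s` centralizes or inverts every `O_q(U)`. -/
structure NT (t s : G) : Prop extends Cx t where
  four : Four t s
  no : ∀ (q : ℕ) [Fact q.Prime], pCoreOf q (Ut t) ≤ 𝐂[s] ∨ Inverts s (pCoreOf q (Ut t))

theorem Cx.nt_or {t s : G} (h : Cx t) (h4 : Four t s) :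
    NT t s ∨ ∃ (p : ℕ) (_ : Fact p.Prime), T3 t s p := by
  refine or_iff_not_imp_right.2 fun hn => ⟨h, h4, fun q _ => by_contra fun hc => ?_⟩
  rw [not_or] at hc
  exact hn ⟨q, inferInstance, h, h4, fun e => hc.2 (inverts_of_inf_cent h4.ss (odd_pc q t)
    (cent_le_norm_pc t q h4.s_cent) e), hc.1⟩

namespace NT

variable {t s : G} (h : NT t s)
include h

theorem comm_le : ⁅Ut t, zpowers s⁆ ≤ 𝐂(fittingOf (Ut t)) := LD.le_cent_fit fun q _ =>
  comm_le_cent_of h.four.ss (H1.le_normalizer_pCoreOf _) (h.no q)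

theorem comm_le' : ⁅Ut t, zpowers s⁆ ≤ fittingOf (Ut t) :=
  (le_inf (comm_le_left (zpowers_le.2 (cent_le_norm_Ut t h.four.s_cent))) h.comm_le).trans
    (FT.cent_sub_Fitting (solvable_Ut t))

theorem mem_cent {i : G} (hi : i ∈ Ut t) (e : s * i * s⁻¹ = i⁻¹) : i ∈ 𝐂(fittingOf (Ut t)) :=
  h.comm_le (mem_commutator_of_inverted (odd_of_mem_Ut hi) e hi)

theorem mem_pc {q : ℕ} [Fact q.Prime] {i : G} (hi : i ∈ Ut t) (e : s * i * s⁻¹ = i⁻¹)
    (hq : IsPGroup q (zpowers i)) : i ∈ pCoreOf q (Ut t) :=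
  mem_pc_of_fit (mem_fit_of_cent hi (h.mem_cent hi e)) hq

theorem conj {n : G} (hn : n ∈ 𝐂[t]) : NT t (n * s * n⁻¹) :=
  (h.nt_or (four_conj h.four hn)).resolve_right fun ⟨p, _, h3⟩ => by
    have h1 := h3.conj (inv_mem hn)
    rw [show n⁻¹ * (n * s * n⁻¹) * n⁻¹⁻¹ = s by group] at h1
    exact (h.no p).elim h1.P fun e => h1.A (e.inf_cent (odd_pc p t))

theorem not_norm {A : Subgroup G} (h0 : A ≠ ⊥) (hA : A ≤ Ut t) (hn : 𝐂[t] ≤ 𝐍(A)) {d : G}
    (d1 : d * t * d⁻¹ = s) : d ∉ 𝐍(A) := fun hd => by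
  rw [h.norm_eq h0 hA hn] at hd
  exact h.four.ne ((conj_eq_of_mem_cent1 hd).symm.trans d1)

variable {S : Subgroup G} {e : G} (hS : DF ⊤ S e s t) (e1 : e * e = t) (h' : NT t (e * s))
  {q : ℕ} [Fact q.Prime] (hq0 : pCoreOf q (Ut t) ≠ ⊥) (hq : pCoreOf q (Ut t) ≤ 𝐂[s])
  (hq' : Inverts (e * s) (pCoreOf q (Ut t)))
include hS e1 hq0 hq hq'

theorem pm1 (hi : Inverts (e * s) (fittingOf (Ut t))) : False := by
  have e3 := hS.refl_inv hS.yS hS.yA e (mem_zpowers e)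
  have h1 := (h.simp.of_lt hS (lt_of_le_of_ne (fun b hb => ⟨hb.1, ?_⟩) fun e => hq0 ?_)).2.1
  · have h2 := (inverts_of_inf_cent hS.four'.ss (odd_Ut t) (cent_le_norm_Ut t hS.four'.s_cent)
      h1).le_cent
    obtain ⟨d, hd, d1, -⟩ := h.simp.exists_swap h.four
    exact h.not_norm (fun e => hq0 (le_bot_iff.1 (e ▸ le_inf (pc_le_U q t) hq))) inf_le_left
      (hS.le_of le_top ((h2.trans (centralizer_le (inf_le_left : Ut t ⊓ 𝐂[s] ≤ Ut t))).trans
        (cent_le_norm _))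
        (norm_inf_cent (Ut_le t) (cent_le_norm_Ut t (hS.S_le hS.xS)) (conj_eq_of_sqrt e1 e3))
        (mem_norm_inf (cent_le_norm_Ut t h.four.s_cent) (mem_norm_cent1 (self_mem_cent1 s)))) d1
      (h.dih.norm_le_norm_B h.four hd)
  · have h2 := comm_mem (norm_inf_cent (Ut_le t) (cent_le_norm_Ut t h.four.s_cent)
      (conj_es h.four.tt e1 e3)) hb
    exact mem_cent1_of_conj_eq (mul_inv_eq_one.1 (mem_bot.1 (hi.inf_cent (odd_fit t) ▸
      mem_inf.2 ⟨h.comm_le' (commutator_mem_commutator hb.1 (mem_zpowers s)), h2.2⟩)))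
  · rw [← hq'.inf_cent (odd_pc q t), eq_comm, inf_eq_left]
    exact ((le_inf (pc_le_U q t) hq).trans e.ge).trans inf_le_right

theorem inf_eq_bot : pCoreOf q (Ut t) ⊓ pCoreOf q (Ut s) = ⊥ := by
  by_contra hne
  obtain ⟨d, -, d1, d2⟩ := h.simp.exists_swap h.four
  have h1 : s ∈ 𝐍(pCoreOf q (Ut t) ⊓ pCoreOf q (Ut s)) :=
    mem_norm_inf (cent_le_norm_pc t q h.four.s_cent) (cent_le_norm_pc s q (self_mem_cent1 s))
  refine h.not_norm hne (inf_le_left.trans (pc_le_U q t)) (hS.le_of le_top (fun u hu => ?_) ?_ h1) d1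
    (mem_normalizer_of_map_conj_eq ?_)
  · obtain ⟨b, hb, i, hi, ei, rfl⟩ := exists_cent_mul_inv h.four.ss (odd_Ut t)
      (cent_le_norm_Ut t h.four.s_cent) hu
    exact mul_mem (mem_norm_inf (H1.le_normalizer_pCoreOf _ hb.1) (cent_le_norm_pc s q hb.2))
      (cent_le_norm _ (centralizer_le (inf_le_left.trans (H1.pCoreOf_le_fittingOf q _))
        (h.mem_cent hi ei)))
  · simpa using mul_mem (hq'.mono inf_le_left).mem_norm (inv_mem h1)
  · rw [map_conj_inf, ← pc_conj, ← pc_conj, d1, d2, inf_comm]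

include h' in
theorem pm2 {r : ℕ} [Fact r.Prime] (hr0 : pCoreOf r (Ut t) ≠ ⊥)
    (hr : pCoreOf r (Ut t) ≤ 𝐂[e * s]) : False := by
  have h4 := h.four
  have h4' := h'.four
  have hne : ¬ pCoreOf q (Ut t) ≤ 𝐂[e * s] := fun e =>
    hq0 (by rw [← hq'.inf_cent (odd_pc q t), inf_eq_left.2 e])
  have hqr : r ≠ q := by
    rintro rfl
    exact hne hr
  have e3 := hS.refl_inv hS.yS hS.yA e (mem_zpowers e)
  have e2 := conj_eq_of_sqrt e1 e3
  have hA := h.inf_eq_bot hS e1 hq0 hq hq'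
  obtain ⟨d, -, d1, d2⟩ := h.simp.exists_swap h4
  obtain ⟨d', -, d1', d2'⟩ := h.simp.exists_swap h4'
  have key : ∀ (a b : G) (l : ℕ), Four t a → b * t * b⁻¹ = a → b * a * b⁻¹ = t →
      pCoreOf l (Ut t) ≤ 𝐂[a] → pCoreOf l (Ut a) ≤ pCoreOf l (Ut t ⊓ 𝐂[a]) :=
    fun a b l ha b1 b2 hl => H1.le_pCoreOf
      (h.dih.B_symm ha ▸ le_inf (pc_le_U l a) (le_of_swap b1 b2 hl))
      (inf_le_right.trans (cent_le_norm_pc a l)) (H1.pCoreOf_isPGroup _)
  have h1 := key s d q h4 d1 d2 hq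
  have h2 := key _ d' r h4' d1' d2' hr
  have hQ := H1.pCoreOf_le (p := q) (Ut t ⊓ 𝐂[s])
  have hQ' := H1.pCoreOf_le (p := r) (Ut t ⊓ 𝐂[e * s])
  have h3 : e * s ∈ 𝐍(pCoreOf q (Ut t ⊓ 𝐂[s])) := H1.normalizer_le_normalizer_pCoreOf _ (mul_mem
    (norm_inf_cent (Ut_le t) (cent_le_norm_Ut t (hS.S_le hS.xS)) e2)
    (mem_norm_inf (cent_le_norm_Ut t h4.s_cent) (mem_norm_cent1 (self_mem_cent1 s))))
  have h3' : s ∈ 𝐍(pCoreOf r (Ut t ⊓ 𝐂[e * s])) := H1.normalizer_le_normalizer_pCoreOf _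
    (norm_inf_cent (Ut_le t) (cent_le_norm_Ut t h4.s_cent) (conj_es h4.tt e1 e3))
  have h5 : ∀ v ∈ pCoreOf q (Ut s), v ∈ 𝐂[e * s] → v = 1 := fun v hv hv' => by
    obtain ⟨b, -, b1, b2⟩ := h.simp.exists_swap h4.mul
    have b3 : b * s * b⁻¹ = s := by
      rw [← _root_.conj_mul, b1, mul_assoc] at b2
      have := mul_left_cancel (b2.trans (mul_one t).symm)
      rw [eq_inv_of_mul_eq_one_right this, h4.si]
    have h6 : e ∈ 𝐂[v] := by
      simpa using mul_mem (mem_cent1_comm.1 hv') (inv_mem (mem_cent1_comm.1 (hQ (h1 hv)).2))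
    have h7 : v ∈ pCoreOf q (Ut (t * s)) := by
      rw [← e2, pc_conj, ← conj_eq_of_mem_cent1 h6]
      exact conj_mem_map_conj hv
    refine conj_eq_one_iff.1 (eq_one_of_mem_inf hA (x := b * v * b⁻¹) ?_ ?_)
    · rw [← b2, pc_conj]
      exact conj_mem_map_conj h7
    · nth_rewrite 1 [← b3]
      rw [pc_conj]
      exact conj_mem_map_conj hv
  have h6 : ∀ v ∈ pCoreOf q (Ut s), v * (e * s) * v⁻¹ * (e * s)⁻¹ ∈ pCoreOf q (Ut t) := fun v hv =>
    h'.mem_pc (hQ (comm_mem h3 (h1 hv))).1 (inv_comm h4'.ss)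
      (pg_of_mem (H1.pCoreOf_isPGroup _) (comm_mem h3 (h1 hv)))
  have h7 : Function.Bijective fun v : pCoreOf q (Ut s) => (⟨_, h6 v v.2⟩ : pCoreOf q (Ut t)) := by
    refine (Nat.bijective_iff_injective_and_card _).2 ⟨fun v v' ev => Subtype.ext ?_, by
      rw [← d1, pc_conj, card_map_conj]⟩
    have ev' : v * (e * s) * (v : G)⁻¹ = v' * (e * s) * (v' : G)⁻¹ :=
      mul_right_cancel (congrArg Subtype.val ev)
    refine (inv_mul_eq_one.1 (h5 _ (mul_mem (inv_mem v'.2) v.2) (mem_cent1_of_conj_eq ?_))).symm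
    rw [show (v' : G)⁻¹ * v * (e * s) * ((v' : G)⁻¹ * v)⁻¹ =
      (v' : G)⁻¹ * (v * (e * s) * (v : G)⁻¹) * v' by group, ev']
    group
  have h8 : pCoreOf r (Ut (e * s)) ≤ 𝐂(pCoreOf q (Ut t)) := fun w hw => by
    obtain ⟨c, hc, i, hi, ei, rfl⟩ := exists_cent_mul_inv h4.ss
      (odd_card_of_le (odd_Ut t) (hQ'.trans inf_le_left)) h3' (h2 hw)
    refine mul_mem (FT.U4.mem_cent.2 fun a ha => ?_)
      (centralizer_le (H1.pCoreOf_le_fittingOf q _) (h.mem_cent (hQ' hi).1 ei))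
    obtain ⟨⟨v, hv⟩, ev⟩ := h7.2 ⟨a, ha⟩
    have hcB := hQ' hc.1
    have h9 : v ∈ 𝐂[c] := by
      refine mem_cent1_comm.1 (mem_cent1_of_conj_eq (mul_inv_eq_one.1 (eq_one_of_mem_inf hA ?_
        (mul_mem (conj_mem_of_mem_normalizer (cent_le_norm_pc s q hc.2) hv) (inv_mem hv)))))
      obtain ⟨c', hc', i', hi', ei', ev⟩ := exists_cent_mul_inv h4'.ss
        (odd_card_of_le (odd_Ut t) (hQ.trans inf_le_left)) h3 (h1 hv)
      have h10 := h'.mem_pc (hQ hi').1 ei' (pg_of_mem (H1.pCoreOf_isPGroup _) hi')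
      have h11 : c * c' * c⁻¹ * c'⁻¹ = 1 := eq_one_of_mem_inf (LD.pc_inf hqr _ _)
        (comm_mem (H1.le_normalizer_pCoreOf _ (mem_inf.2 ⟨(hQ hc'.1).1, hc'.2⟩)) hc.1)
        (mul_mem (conj_mem_of_mem_normalizer (H1.le_normalizer_pCoreOf _ (mem_inf.2 ⟨hcB.1, hc.2⟩)) hc'.1)
          (inv_mem hc'.1))
      rw [ev, show c * (c' * i') * c⁻¹ * (c' * i')⁻¹ =
        c * c' * c⁻¹ * c'⁻¹ * (c' * (c * i' * c⁻¹ * i'⁻¹) * c'⁻¹) by group, h11, one_mul]
      exact conj_mem_of_mem_normalizer (H1.le_normalizer_pCoreOf _ (hQ hc'.1).1) (mul_mem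
        (conj_mem_of_mem_normalizer (H1.le_normalizer_pCoreOf _ hcB.1) h10) (inv_mem h10))
    have h10 := mem_cent1_comm.1 hcB.2
    rw [← show _ = a from congrArg Subtype.val ev]
    exact mem_cent1.1 (mul_mem (mul_mem (mul_mem h9 h10) (inv_mem h9)) (inv_mem h10))
  refine hne (le_of_swap d2' d1' ((le_centralizer_iff.1 ?_).trans
    (h.cent_le hr0 (pc_le_U r t) (cent_le_norm_pc t r))))
  have h9 := map_mono (f := (MulAut.conj d').toMonoidHom) h8
  rwa [← cent_conj, ← pc_conj, ← pc_conj, d1', d2'] at h9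

end NT

theorem Cx.inverts_of_nt {t s : G} (h : Cx t) (hall : ∀ s, Four t s → NT t s) (h4 : Four t s) :
    Inverts s (Ut t) := by
  by_cases hi : ∀ s, Four t s → Inverts s (fittingOf (Ut t))
  · refine (hi s h4).mono (h.simp.Ut_le_of_fusion h.ot (fun y hy => ?_) fun y hy => (hall y hy).comm_le')
    obtain ⟨S, x, hS⟩ := h.simp.exists_frame hy
    have h1 := le_cent_U (hS.AS.trans hS.S_le)
      (zpowers_le.2 (mem_cent_of_inverts (hi _ hS.four) (hi _ hS.four'))) hS.pA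
    have h2 : S ≤ 𝐂(Ut t ⊓ 𝐂[y]) := hS.S_eq.ge.trans (sup_le (h1.trans (centralizer_le inf_le_left))
      (zpowers_le.2 (mem_cent.2 fun b hb => mem_cent1.1 hb.2)))
    obtain ⟨d, hd, d1, -⟩ := h.simp.exists_swap hy
    obtain ⟨k, hk, e⟩ := (hS.syl.mono h2 le_top).frattini_elem
      (norm_le_norm_cent _ (h.dih.norm_le_norm_B hy hd))
    refine ⟨k⁻¹, inv_mem hk, ?_⟩
    rw [← conj_eq_of_mem_cent1 (hS.norm_le e), ← d1]
    group
  exfalso
  have key : ∀ s, Four t s → ¬ Inverts s (fittingOf (Ut t)) → ∃ (q : ℕ) (_ : Fact q.Prime),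
      pCoreOf q (Ut t) ≠ ⊥ ∧ pCoreOf q (Ut t) ≤ 𝐂[s] := fun s hs hn => by
    by_contra hc
    push Not at hc
    refine hn (inverts_fit hs fun q hq => ?_)
    by_cases h0 : pCoreOf q (Ut t) = ⊥
    · intro g hg
      rw [h0, mem_bot] at hg
      simp [hg]
    · exact ((hall s hs).no q).resolve_left (hc q hq h0)
  push Not at hi
  obtain ⟨y, hy, hn⟩ := hi
  obtain ⟨q, _, hq0, hq⟩ := key y hy hn
  obtain ⟨S, x, hS⟩ := h.simp.exists_frame hy
  obtain ⟨e, he, e1, e2⟩ := hS.exists_e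
  have h' := hall _ (hS.refl_four (mul_mem (hS.AS he) hS.yS) (hS.mul_y_notMem he))
  have h1 : ¬ pCoreOf q (Ut t) ≤ 𝐂[e * y] := fun hq' =>
    hq0 (h.nt1 hy (hS.S_le (hS.AS he)) e1 e2 hq hq' h'.comm_le)
  rcases SW.mem_zpowers_or hS.pA he (mem_zpowers x) with h2 | h2
  · have hS' := hS.of_eq he h2
    have hq' := (h'.no q).resolve_left h1
    by_cases h3 : Inverts (e * y) (fittingOf (Ut t))
    · exact (hall y hy).pm1 hS' e1 hq0 hq hq' h3
    · obtain ⟨r, _, hr0, hr⟩ := key _ h'.four h3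
      exact (hall y hy).pm2 hS' e1 h' hq0 hq hq' hr0 hr
  · obtain ⟨b, hb, eb⟩ := hS.exists_conj_sq hS.yS hS.yA h2
    refine h1 ?_
    rw [← eb, cent1_conj, ← map_conj_eq_of_mem_normalizer (cent_le_norm_pc t q (hS.S_le (hS.AS hb)))]
    exact map_mono hq

end CfsgLib.GD
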