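import Cfsg.Agent.Lib.GD.Basic

/-!
# The exceptional character `α` of the principal `2`-block
-/

set_option autoImplicit false

namespace CfsgLib.GD

open Subgroup Cfsg CfsgLib.FT CfsgLib.FT.BGN CfsgLib.Blk CfsgLib.GW CfsgLib.SW
open scoped ComplexConjugate

variable {G : Type*} [Group G] [Fintype G] {t : G}

theorem dvd_of_vanish {D Z : Subgroup G} (hZ : Z ≤ D) {φ ξ : G → ℂ} (hφ : φ ∈ ZIrr D)
    (hξ : ξ ∈ ZIrr D) (h0 : ∀ g ∈ D, g ∉ Z → φ g = 0) :
    ∃ n : ℤ, cfdot Z φ ξ = Z.relIndex D * n := by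
  obtain ⟨n, hn⟩ := ZIrr_cfdot_int hφ hξ
  refine ⟨n, ?_⟩
  rw [cfdot_of_supp_subgroup hZ fun g hg => ?_, hn]
  by_cases e : g ∈ D
  exacts [h0 g e hg, (ZIrr_mem_CF hφ).1 g e]

/-- A lower bound for the degree of a real character that is constant on the elements of even
order. -/
theorem two_mul_card_le {L T : Subgroup G} {χ : G → ℂ} (hχ : IsChar L χ) (hr : cfConjC χ = χ)
    {c : ℤ} (hc : ∀ g ∈ L, ¬ Odd (orderOf g) → χ g = c) (hT : IsPGroup 2 T) (hTL : T ≤ L) {v : G}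
    (hvL : v ∈ L) (hv : v ∈ 𝐂(T)) (ho : Odd (orderOf v)) (h1 : χ v ≠ χ 1) {d : ℕ}
    (hd : χ 1 = d) : 2 * Nat.card T ≤ d := by
  classical
  have hZL := zpowers_le.2 hvL
  have hoZ : Odd (Nat.card (zpowers v)) := by rwa [Nat.card_zpowers]
  have hD : DProdIn T (zpowers v) (T ⊔ zpowers v) := dprodIn_of_sup rfl
    (by
      obtain ⟨k, hk⟩ := IsPGroup.iff_card.1 hT
      exact inf_eq_bot_of_coprime (hk ▸ (Nat.coprime_two_left.2 hoZ).pow_left k))
    fun a ha b hb => U4.mem_cent.1 (zpowers_le.2 hv hb) a ha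
  have hDL : T ⊔ zpowers v ≤ L := sup_le hTL hZL
  have hres := hχ.cfRes hZL
  choose m hm using fun l : Irr (zpowers v) => hres.cfdot_nat l.isChar
  have hsum : ∀ g, cfRes (zpowers v) χ g = ∑ l : Irr (zpowers v), m l * l g := fun g => by
    rw [cfun_sum_cfdot hres.mem_CF, Finset.sum_apply]
    exact Finset.sum_congr rfl fun l _ => by rw [hm, Pi.smul_apply, smul_eq_mul]
  obtain ⟨l, hl1, hl⟩ : ∃ l : Irr (zpowers v), l ≠ 1 ∧ m l ≠ 0 := by
    by_contra! hn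
    refine h1 ?_
    rw [← cfRes_apply (φ := χ) (mem_zpowers v), ← cfRes_one (H := zpowers v) (φ := χ), hsum, hsum]
    refine Finset.sum_congr rfl fun l _ => ?_
    by_cases e : l = 1
    · rw [e, Irr.coe_one, cf1_apply (mem_zpowers v), cf1_one]
    · rw [hn l e, Nat.cast_zero, zero_mul, zero_mul]
  have hne : l ≠ l.conj := fun e => hl1 (irr_ext ?_)
  swap
  · have h2 := (lin l).mul_conj (mem_zpowers v)
    have h3 := (lin l).pow_orderOf (mem_zpowers v)
    obtain ⟨k, hk⟩ := ho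
    rw [show conj (l v) = l v from (congrArg (fun χ : Irr _ => χ v) e).symm, ← sq] at h2
    rw [hk, pow_succ, pow_mul, h2, one_pow, one_mul] at h3
    rw [h3, one_x]
  have h2 : m l.conj = m l := by
    have := hm l.conj
    rw [Irr.coe_aut, cfdot_cfConjC_right, cfConjC, cfAut_cfRes, ← cfConjC, hr, hm, Complex.conj_natCast] at this
    exact_mod_cast this.symm
  have h3 : 2 * m l ≤ d := by
    have h4 := hsum 1
    rw [cfRes_one, hd, Finset.sum_congr rfl (g := fun l => (m l : ℂ)) fun l _ => by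
      rw [(lin l).one, mul_one]] at h4
    have h5 : d = ∑ l, m l := by exact_mod_cast h4
    rw [h5, two_mul]
    nth_rewrite 2 [← h2]
    rw [← Finset.sum_pair hne]
    exact Finset.sum_le_sum_of_subset (Finset.subset_univ _)
  obtain ⟨n, hn⟩ := dvd_of_vanish (le_sup_right : zpowers v ≤ T ⊔ zpowers v)
    (sub_mem (ZIrr_cfRes hDL hχ.mem_ZIrr) (intCast_smul_mem cf1_mem_ZIrr c))
    (hD.mem_ZIrr cf1_mem_ZIrr l.mem_ZIrr) fun g hg hgZ => by
      obtain ⟨a, ha, b, hb, rfl⟩ := hD.compl.2.2.2 g hg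
      rw [Pi.sub_apply, cfRes_apply hg, Pi.smul_apply, cf1_apply hg, smul_eq_mul, mul_one,
        hc _ (hDL hg) fun e => hgZ ?_, sub_self]
      suffices a = 1 by simpa [this] using hb
      by_contra a1
      have h6 := two_dvd_orderOf_of_mem hT ha a1
      have h7 : (a * b) ^ (orderOf (a * b) * orderOf b) = 1 := by
        rw [pow_mul, pow_orderOf_eq_one, one_pow]
      rw [(show Commute a b from hD.comm a ha b hb).mul_pow, mul_comm _ (orderOf b), pow_mul b,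
        pow_orderOf_eq_one, one_pow, mul_one] at h7
      exact ((hoZ.of_dvd_nat (Subgroup.orderOf_dvd_natCard _ hb)).mul e).not_two_dvd_nat
        (h6.trans (orderOf_dvd_of_pow_eq_one h7))
  rw [IsComplIn_relIndex hD.symm.compl, ← cfdot_cfRes_right,
    cfRes_cfProd_right hD.compl.2.2.1 l.mem_CF.1, cf1_one, one_smul, ← cfdot_cfRes_left, map_sub,
    cfRes_cfRes le_sup_right, map_smul, cfRes_cf1 le_sup_right, cfdot_sub_left, hm,
    cfdot_smul_left, ← Irr.coe_one, Irr.cfdot_eq, if_neg hl1.symm, mul_zero, sub_zero] at hn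
  have h4 : (Nat.card T : ℤ) ∣ m l := ⟨n, by exact_mod_cast hn⟩
  have := Nat.le_of_dvd (Nat.pos_of_ne_zero hl) (Int.natCast_dvd_natCast.1 h4)
  omega

namespace DF

variable {L S : Subgroup G} {x y : G} (h : DF L S x y t) (hL : 𝐂[t] ≤ L) (h1 : OneCl L)
include h hL h1

theorem exists_val {g : G} (hg : g ∈ L) (ho : ¬ Odd (orderOf g)) :
    ∃ a ∈ zpowers x, a ∉ zpowers (t * t) ∧ ∀ φ, projB (B0 2 L) φ = φ → φ g = φ a := by
  obtain ⟨v, hv, hv2⟩ := exists_inv_zpowers ho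
  obtain ⟨k, hk, e⟩ := h1 v (zpowers_le.2 hg hv) t (hL (U4.self_mem_cent1 t)) hv2 h.ot
  have ht : t ∈ zpowers (k * g * k⁻¹) := by
    rw [U4.zpowers_conj, ← e, U4.conj_mem_conj_iff]
    exact hv
  obtain ⟨π, hπ⟩ := h.exists_pi
  have hN := h.cent_le ht (mem_inf.2 ⟨mul_mem (mul_mem hk hg) (inv_mem hk), U4.self_mem_cent1 _⟩)
  have hz := (h.mem_iff_pi hπ hN).1 ht
  have h2 := (h.mem_iff (hπ.mem _ hN)).1 hz
  refine ⟨_, h2.1, h2.2, fun φ hφ => ?_⟩
  rw [← h.val_pi hπ hN hz hφ, CF_conj (φ := φ) (hφ ▸ projB_mem_CF) hk]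

theorem kap_eq {s : G} (hs : s ∈ S) (hsA : s ∉ zpowers x) :
    kap L t t s = (𝐂[s]).relIndex 𝐂[t] := by
  rw [kap, if_pos (h1 t (hL (U4.self_mem_cent1 t)) s (h.syl.le hs) h.ot (h.refl_ord hs hsA)),
    h.N0_eq hL]

omit h1 in
theorem refl : Refl L t t :=
  ⟨hL (U4.self_mem_cent1 t), h.z1, mem_zpowers _, by simp [h.tt], by simp [h.tt]⟩

theorem core : ∃ (α : G → ℂ) (a b c : ℤ), IsDirr L α ∧ cfdot L α (cf1 L) = 0 ∧ α 1 = a ∧
    cfConjC α = α ∧ (∀ g ∈ L, ¬ Odd (orderOf g) → α g = 1) ∧ b % 4 = 1 ∧ c % 4 = 1 ∧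
    b + c = a + 1 ∧ (𝐂[t]).relIndex L * (a - 1) ^ 2 = 2 * (mI t : ℤ) ^ 2 * a * (a + 1) ∧ a + 1 ≠ 0 ∧
    (𝐂[t]).relIndex L * (a + 1) * (b - 1) * (c - 1) =
      8 * (𝐂[y]).relIndex 𝐂[t] * (𝐂[x * y]).relIndex 𝐂[t] * a * b * c := by
  obtain ⟨l, α, β, γ, ε, d⟩ := h.exists_dec
  obtain ⟨μ, hμ⟩ := h.exists_gen
  have htL := hL (U4.self_mem_cent1 t)
  have ev : ∀ ν : Irr (zpowers x), Ev t ν := fun ν =>
    h.ev_iff.2 fun a ha => by rw [h.A0_iff.1 ha, (lin ν).one]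
  obtain ⟨n, hn⟩ : 4 ∣ (zpowers (t * t)).relIndex (zpowers x) := by
    rw [h.tt, zpowers_one_eq_bot, relIndex_bot_left, Nat.card_zpowers]; exact h.four_dvd
  obtain ⟨va0, ka, -, ea⟩ := h.val (c := 0) d.da.mem_ZIrr d.pa h.ev_one (fun _ => d.dot_a)
    fun ν e => absurd (ev ν) e
  obtain ⟨vb0, kb, -, eb⟩ := h.val (c := 0) d.db.mem_ZIrr d.pb d.ev (fun _ => d.dot_b)
    fun ν e => absurd (ev ν) e
  obtain ⟨vc0, kc, -, ec⟩ := h.val (c := 0) d.dc.mem_ZIrr d.swap.pb d.ev (fun _ => d.swap.dot_b)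
    fun ν e => absurd (ev ν) e
  have lt := d.l_sq h.zx
  have va := va0 t h.tA h.zA0
  have vb := vb0 t h.tA h.zA0
  have vc := vc0 t h.tA h.zA0
  rw [Irr.coe_one, cf1_apply h.tA] at va
  rw [lt] at vb vc
  rw [hn] at ea eb ec
  have f1 := d.formula_gen h.toFr (h.refl hL) hμ
  have f2 := d.formula_l h.toFr (h.refl hL)
  rw [h.kap_eq hL h1 h.yS h.yA, h.kap_eq hL h1 h.xyS h.xyA, h.N0_eq hL] at f1 f2
  have e1 := h.Th_one hμ.1 (L := L)
  have e2 := h.Th_one d.ev (L := L)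
  have e3 := h.T0_val (θ := cf1 (zpowers x) - μ) h.tA h.zA0
  rw [U4.conj_eq_of_mem_cent1 (h.S_le h.yS), ← Th] at e3
  rw [d.th μ hμ] at e1 e3
  rw [d.thl] at e2
  have e4 : μ t * μ t = 1 := by rw [← (lin μ).map_mul h.tA h.tA, h.tt, (lin μ).one]
  simp only [Pi.add_apply, Pi.sub_apply, cf1_one, cf1_apply htL, cf1_apply h.tA] at e1 e2 e3
  have e5 : ε μ t ^ 2 = 4 := by
    rw [show ε μ t = 2 * μ t by push_cast at va; linear_combination va - e3]
    linear_combination 4 * e4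
  have n1 := d.da.one_ne_zero
  have n2 := d.db.one_ne_zero
  have n3 := d.dc.one_ne_zero
  have n4 := (d.de μ hμ).one_ne_zero
  have n5 : ((𝐂[t]).relIndex L : ℂ) ≠ 0 := relIndex_cast_ne_zero _ _
  have hα : ∀ g ∈ L, ¬ Odd (orderOf g) → α g = 1 := fun g hg ho => by
    obtain ⟨a, ha, ha0, e⟩ := h.exists_val hL h1 hg ho
    rw [e α d.pa, va0 a ha ha0, Irr.coe_one, cf1_apply ha, Int.cast_one, mul_one]
  have hr : cfConjC (Th L l) = Th L l := funext fun g => by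
    change conj (Th L l g) = _
    by_cases hg : g ∈ L
    swap
    · rw [(ZIrr_mem_CF h.Th_ZIrr).1 g hg, map_zero]
    by_cases ho : Odd (orderOf g)
    · rw [Th, T0_odd h.AL h.pA (h.sub_zero' d.ev 1 (one_mem _)) ho, map_zero]
    obtain ⟨a, ha, ha0, e⟩ := h.exists_val hL h1 hg ho
    have e6 : conj (l a) = l a := mul_left_cancel₀ ((lin l).apply_ne_zero ha) (by
      obtain ⟨i, rfl⟩ := ha
      rw [(lin l).mul_conj (zpow_mem (mem_zpowers x) i), ← (lin l).map_mul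
        (zpow_mem (mem_zpowers x) i) (zpow_mem (mem_zpowers x) i),
        d.l_sq ⟨i, (Commute.refl x).mul_zpow i⟩])
    rw [d.thl]
    simp [cf1_apply hg, hα g hg ho, e β d.pb, e γ d.swap.pb, vb0 a ha ha0, vc0 a ha ha0, e6]
  have hr2 : cfConjC α = α := by
    have k1 : IsDirr L (cfConjC α) := d.da.cfAut _
    have k2 : cfdot L (cfConjC α) (Th L l) = 1 := by
      rw [cfdot_cfConjC_left, hr, d.thl]
      simp [cfdot_add_right, d.a1, d.da.cfdot_self, d.ab, d.ac]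
    have k3 : cfdot L (cfConjC α) (cf1 L) = 0 := by
      rw [cfdot_cfConjC_left, cfConjC, cfAut_cf1, d.a1, map_zero]
    have k4 : cfConjC α t = 1 := by rw [cfConjC, cfAut_apply, va]; simp
    have k5 : ∀ δ, IsDirr L δ → δ t = (-1 : ℤ) * 1 →
        cfdot L (cfConjC α) δ = -1 ∨ cfdot L (cfConjC α) δ = 0 := fun δ hδ e => by
      rcases k1.cfdot_cases hδ with e' | e' | e'
      · rw [← e'.1, k4] at e
        norm_num at e
      exacts [Or.inl e'.2, Or.inr e'.2.2]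
    rw [d.thl, cfdot_add_right, cfdot_add_right, cfdot_add_right, k3] at k2
    rcases k1.cfdot_cases d.da with e | e | e
    · exact e.1
    · rcases k5 β d.db vb with e' | e' <;> rcases k5 γ d.dc vc with e'' | e'' <;>
        rw [e.2, e', e''] at k2 <;> norm_num at k2
    · rcases k5 β d.db vb with e' | e' <;> rcases k5 γ d.dc vc with e'' | e'' <;>
        rw [e.2.2, e', e''] at k2 <;> norm_num at k2
  rw [e5, va] at f1
  rw [va, vb, vc] at f2
  rw [show ε μ 1 = α 1 + 1 by linear_combination -e1] at f1 n4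
  have ea' : α 1 = (1 + 4 * (ka * n) : ℤ) := by push_cast at ea ⊢; linear_combination ea
  refine ⟨α, 1 + 4 * (ka * n), 1 - 4 * (kb * n), 1 - 4 * (kc * n), d.da, d.a1, ea', hr2, hα,
    by omega, by omega, ?_, ?_, by omega, ?_⟩ <;> refine Int.cast_injective (α := ℂ) ?_ <;>
    push_cast [h.mI_eq hL] at ea eb ec f1 f2 ⊢ <;>
    rw [show (1 : ℂ) + 4 * (ka * n) = α 1 by linear_combination -ea]
  · linear_combination -e2 + eb + ec
  · field_simp at f1
    linear_combination f1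
  · rw [show (1 : ℂ) - 4 * (kb * n) = -β 1 by linear_combination eb,
      show (1 : ℂ) - 4 * (kc * n) = -γ 1 by linear_combination ec]
    field_simp at f2
    linear_combination f2 + (𝐂[t]).relIndex L * e2

end DF

end CfsgLib.GD
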