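import Cfsg.Agent.Lib.GD.Basic
import Cfsg.Agent.Lib.GD.ReeReal
import Cfsg.Agent.Lib.Wal.Main
import Cfsg.Agent.Lib.Wal.H5BAut
import Cfsg.Agent.Lib.H5PiClosed
import Cfsg.Agent.Lib.BSW.Friend

/-!
# `π`-homogeneous groups with dihedral or abelian Sylow `2`-subgroups
-/

set_option autoImplicit false

namespace CfsgLib.GD.PH

open Subgroup Cfsg Matrix MatrixGroups CfsgLib.H1 CfsgLib.H5 CfsgLib.BSW CfsgLib.GW.PA
  CfsgLib.H5.JB

universe u

variable {G : Type*} [Group G] {π : Set ℕ}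

theorem dih_dihedral (n : ℕ) : Dih (DihedralGroup n) := by
  intro T _
  obtain ⟨x, hx⟩ := (isCyclic_iff_exists_zpowers_eq_top.1
    (isCyclic_of_le (inf_le_right : T ⊓ zpowers (DihedralGroup.r 1) ≤ _)))
  have e : zpowers (x : DihedralGroup n) = T ⊓ zpowers (DihedralGroup.r 1) := by
    have := congrArg (Subgroup.map (T ⊓ zpowers (DihedralGroup.r 1 : DihedralGroup n)).subtype) hx
    rwa [MonoidHom.map_zpowers, ← MonoidHom.range_eq_map, range_subtype] at this
  have hr : ∀ i, DihedralGroup.r i ∈ zpowers (DihedralGroup.r 1 : DihedralGroup n) := fun i =>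
    ⟨(ZMod.cast i : ℤ), by simp⟩
  obtain ⟨k, hk⟩ := x.2.2
  refine ⟨x, x.2.1, ?_⟩
  rintro (i | i) hy hy'
  · exact absurd (e.ge ⟨hy, hr i⟩) hy'
  · refine ⟨by simp, by rw [← hk]; simp, ?_⟩
    rintro (j | j) hz hz'
    · exact absurd (e.ge ⟨hz, hr j⟩) hz'
    · exact e.ge ⟨mul_mem hy hz, hr _⟩

theorem dih_of_sylow (h : ∀ S : Sylow 2 G, Dih (S : Subgroup G)) : Dih G := by
  intro T hT
  obtain ⟨S, hS⟩ := hT.exists_le_sylow
  obtain ⟨x, hx, h1⟩ := h S (T.subgroupOf S) (hT.comap_of_injective _ Subtype.val_injective)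
  have key : ∀ y : (S : Subgroup G), y ∈ zpowers x → (y : G) ∈ zpowers (x : G) :=
    fun y ⟨n, e⟩ => ⟨n, by rw [← e]; simp⟩
  refine ⟨x, hx, fun y hy hy' => ?_⟩
  obtain ⟨e1, e2, e3⟩ := h1 ⟨y, hS hy⟩ hy fun e => hy' (key _ e)
  exact ⟨congrArg Subtype.val e1, congrArg Subtype.val e2, fun z hz hz' =>
    key _ (e3 ⟨z, hS hz⟩ hz fun e => hz' (key _ e))⟩

/-- `π'`-elements normalizing a `p`-subgroup, `p ∈ π`, centralize it. -/
def Hom (π : Set ℕ) (G : Type*) [Group G] : Prop :=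
  ∀ p : ℕ, p.Prime → p ∈ π → ∀ X : Subgroup G, IsPGroup p X → ∀ g ∈ normalizer (X : Set G),
    IsPiNum πᶜ (orderOf g) → g ∈ centralizer (X : Set G)

theorem Hom.of_injective (h : Hom π G) {X : Type*} [Group X] (f : X →* G)
    (hf : Function.Injective f) : Hom π X := fun p hp hπ Y hY g hg ho => by
  have := h p hp hπ (Y.map f) (hY.map f) (f g) (le_normalizer_map f (mem_map_of_mem f hg))
    (by rwa [orderOf_injective f hf])
  exact mem_centralizer_iff.2 fun y hy => hf (by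
    simpa using mem_centralizer_iff.1 this (f y) (mem_map_of_mem f hy))

variable [Finite G]

theorem Hom.of_surjective (h : Hom π G) {X : Type*} [Group X] (f : G →* X)
    (hf : Function.Surjective f) : Hom π X := fun p hp hπ Y hY g hg ho => by
  have := Finite.of_surjective f hf
  have := Fact.mk hp
  obtain ⟨S, hS⟩ := IsSylowIn.exists_in (p := p) (Y.comap f)
  have h1 := hS.map f
  rw [map_comap_eq_self_of_surjective hf] at h1
  have h2 := h1.eq_of_le hY h1.le le_rfl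
  obtain ⟨g, rfl⟩ := hf g
  obtain ⟨k, hk, h3⟩ := hS.frattini_elem (g := g) (le_normalizer_comap f hg)
  obtain ⟨s, hs, e⟩ : f k ∈ S.map f := h2 ▸ hk
  have e' : f (s⁻¹ * (k * g)) = f g := by rw [map_mul, map_mul, map_inv, e, inv_mul_cancel_left]
  obtain ⟨v, hv, e1, e2⟩ := exists_lift_isPiNum f (π := πᶜ) (s⁻¹ * (k * g)) (e' ▸ ho)
  have h4 := h p hp hπ S hS.isPGroup v
    (zpowers_le.2 (mul_mem (inv_mem (le_normalizer hs)) h3) hv) e2
  rw [h2, ← e', ← e1]
  refine mem_centralizer_iff.2 ?_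
  rintro _ ⟨y, hy, rfl⟩
  rw [← map_mul, mem_centralizer_iff.1 h4 y hy, map_mul]

/-- Real elements are `π'`-elements. -/
theorem Hom.real (h : Hom π G) (h2 : 2 ∉ π) {x g : G} (e : g * x * g⁻¹ = x⁻¹) :
    IsPiNum πᶜ (orderOf x) := fun p hp hd hπ => by
  have := Fact.mk hp
  set y := x ^ (orderOf x / p) with hy
  have ho : orderOf y = p := orderOf_pow_orderOf_div (orderOf_pos x).ne' hd
  have e1 : g * y * g⁻¹ = y⁻¹ := by rw [hy, ← conj_pow, e, inv_pow]
  have hn : g ∈ normalizer (zpowers y : Set G) :=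
    FT.P12.mem_norm_zpowers (e1 ▸ inv_mem (mem_zpowers y))
  obtain ⟨u, hu, v, hv, e2, -, h3, h4⟩ := exists_pi_part π g
  have h5 := h p hp hπ (zpowers y)
    (IsPGroup.of_card (n := 1) (by rw [Nat.card_zpowers, ho, pow_one])) v (zpowers_le.2 hn hv) h4
  have h6 : g * g ∈ centralizer (zpowers y : Set G) := by
    rw [H1.centralizer_zpowers_eq, mem_centralizer_singleton_iff, ← mul_inv_eq_iff_eq_mul,
      show g * g * y * (g * g)⁻¹ = g * (g * y * g⁻¹) * g⁻¹ by group, e1, ← conj_inv, e1, inv_inv]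
  have h7 : u ∈ centralizer (zpowers y : Set G) := by
    refine zpowers_le.2 ?_ (GW.mem_zpowers_sq
      (Nat.odd_iff.2 (Nat.two_dvd_ne_zero.1 fun e => h2 (h3 2 Nat.prime_two e))))
    obtain ⟨k, rfl⟩ := hu
    simpa only [← (Commute.refl g).mul_zpow] using zpow_mem h6 k
  have h8 := mem_centralizer_iff.1 (e2 ▸ mul_mem h7 h5) y (mem_zpowers y)
  rw [← h8, mul_inv_cancel_right, eq_inv_iff_mul_eq_one, ← pow_two] at e1
  rw [(Nat.prime_dvd_prime_iff_eq hp Nat.prime_two).1 (ho ▸ orderOf_dvd_of_pow_eq_one e1)] at hπ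
  exact h2 hπ

/-- Burnside's transfer theorem for a Sylow subgroup of prime order. -/
theorem Hom.notMem (h : Hom π G) [IsSimpleGroup G] (hna : ¬ IsMulCommutative G) {p m : ℕ}
    (hp : p.Prime) (hc : Nat.card G = p * m) (hm : ¬ p ∣ m) (h1 : IsPiNum πᶜ (p - 1)) :
    p ∉ π := fun hπ => by
  have := Fact.mk hp
  have := Fintype.ofFinite G
  obtain ⟨S, hS⟩ := IsSylowIn.exists_in (p := p) (⊤ : Subgroup G)
  have h2 : Nat.card S = p := by
    rw [hS.card_eq_ordProj, card_top, hc, Nat.factorization_mul hp.ne_zero (by rintro rfl; simp at hm)]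
    simp [hp.factorization_self, Nat.factorization_eq_zero_of_not_dvd hm]
  obtain ⟨-, h3⟩ := JR.burnside hS fun g hg => by
    obtain ⟨u, hu, v, hv, e2, -, h3, h4⟩ := exists_pi_part π g
    exact e2 ▸ mul_mem (FT.mem_of_coprime_relIndex (normalizer_le_normalizer_centralizer' S)
      (zpowers_le.2 hg.2 hu) (h3.coprime_compl (h1.of_dvd (FT.relIndex_cent_prime_dvd le_rfl h2))))
      (h p hp hπ S hS.isPGroup v (zpowers_le.2 hg.2 hv) h4)
  rcases (normalizer_eq_top_iff.1 (top_le_iff.1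
    (le_normalizer_piCoreOf (π := {p}ᶜ) (⊤ : Subgroup G)))).eq_bot_or_eq_top with e | e
  · rw [e, bot_sup_eq] at h3
    have := isCyclic_of_prime_card (α := G) (p := p) (by rw [← h2, h3, card_top])
    exact hna inferInstance
  · exact piCoreOf_isPi (π := {p}ᶜ) (⊤ : Subgroup G) p hp (by rw [e, card_top, hc]; simp) rfl

section psl

variable {F : Type*} [Field F] [Fintype F]

theorem exists_inverting (ho : Fintype.card F % 2 = 1) {T : SL(2, F)} (hT : (T 0 0 + T 1 1) ^ 2 ≠ 4) :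
    ∃ S : SL(2, F), S * T * S⁻¹ = T⁻¹ := by
  have hd := SL2_det T
  obtain ⟨x, y, z, e1, e2⟩ : ∃ x y z : F, x * -x - y * z = 1 ∧
      (T 0 0 - T 1 1) * x + T 1 0 * y + T 0 1 * z = 0 := by
    by_cases hb : T 0 1 = 0
    · have ha : T 0 0 - T 1 1 ≠ 0 := fun e =>
        hT (by linear_combination (T 0 0 - T 1 1) * e + 4 * hd + 4 * T 1 0 * hb)
      refine ⟨T 1 0, -(T 0 0 - T 1 1), (1 + T 1 0 ^ 2) / (T 0 0 - T 1 1), ?_, ?_⟩
      · field_simp; ring
      · rw [hb]; ring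
    · have h4 : 4 - (T 0 0 + T 1 1) ^ 2 ≠ 0 := fun e => hT (by linear_combination -e)
      obtain ⟨m, n, h⟩ := FiniteField.exists_root_sum_quadratic (R := F)
        (f := Polynomial.X ^ 2 + Polynomial.C 1)
        (g := Polynomial.C (4 - (T 0 0 + T 1 1) ^ 2) * Polynomial.X ^ 2)
        (Polynomial.degree_X_pow_add_C two_pos 1) (Polynomial.degree_C_mul_X_pow 2 h4)
        ho
      simp only [Polynomial.eval_add, Polynomial.eval_pow, Polynomial.eval_X, Polynomial.eval_C,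
        Polynomial.eval_mul] at h
      refine ⟨m + (T 0 0 - T 1 1) * n, 2 * n * T 0 1,
        -((T 0 0 - T 1 1) * (m + (T 0 0 - T 1 1) * n) / T 0 1 + 2 * n * T 1 0), ?_, ?_⟩
      · field_simp
        linear_combination -h - 4 * n ^ 2 * hd
      · field_simp
        ring
  let S : SL(2, F) := ⟨!![x, y; z, -x], by rw [det_fin_two_of, e1]⟩
  have S00 : S 0 0 = x := rfl
  have S01 : S 0 1 = y := rfl
  have S10 : S 1 0 = z := rfl
  have S11 : S 1 1 = -x := rfl
  refine ⟨S, ?_⟩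
  rw [mul_inv_eq_iff_eq_mul]
  apply SL2_ext <;> simp only [SL2_mul_apply, SL2_inv_00, SL2_inv_01, SL2_inv_10, SL2_inv_11, S00,
    S01, S10, S11]
  · linear_combination e2
  · ring
  · ring
  · linear_combination e2

theorem Hom.psl (h : Hom π PSL(2, F)) (h2 : 2 ∉ π) (h5 : 5 ≤ Fintype.card F)
    (ho : Fintype.card F % 2 = 1) : IsPiNum πᶜ (Nat.card PSL(2, F)) := fun p hp hd hπ => by
  classical
  have := Fact.mk hp
  have h2F : (2 : F) ≠ 0 := Ring.two_ne_zero fun e => by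
    have := FiniteField.even_card_iff_char_two.1 e
    omega
  have hr : ∀ T : SL(2, F), (T 0 0 + T 1 1) ^ 2 ≠ 4 → IsPiNum πᶜ (orderOf (piP F T)) :=
    fun T hT => by
      obtain ⟨S, hS⟩ := exists_inverting ho hT
      exact h.real h2 (g := piP F S) (by rw [← map_inv, ← map_inv, ← map_mul, ← map_mul, hS])
  obtain ⟨x, hx⟩ := exists_prime_orderOf_dvd_card' p hd
  obtain ⟨T, rfl⟩ := piP_surj x
  have h4 : (T 0 0 + T 1 1) ^ 2 = 4 := by_contra fun e => hr T e p hp (dvd_of_eq hx.symm) hπ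
  obtain ⟨a, b, hab⟩ : ∃ a b : F, piP F T ∈ Rv a b := by
    rcases sq_eq_sq_iff_eq_or_eq_neg.1 (h4.trans (by norm_num : (4 : F) = 2 ^ 2)) with e | e
    · obtain ⟨a, b, c, -, rfl⟩ := exists_uv e
      exact ⟨a, b, mem_Rv.2 ⟨c, rfl⟩⟩
    · obtain ⟨a, b, c, -, e'⟩ := exists_uv (g := -T)
        (by rw [SL2_neg_apply, SL2_neg_apply]; linear_combination -e)
      exact ⟨a, b, mem_Rv.2 ⟨c, piP_eq_iff.2 (Or.inr e'.symm)⟩⟩
  obtain ⟨l, -, n, hl, hn⟩ := FiniteField.card' F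
  rw [← Nat.card_eq_fintype_card] at hn
  obtain rfl : p = l := (Nat.prime_dvd_prime_iff_eq hp hl).1 (hp.dvd_of_dvd_pow
    (hn ▸ hx ▸ (orderOf_dvd_natCard _ hab).trans (card_Rv_dvd a b)))
  obtain ⟨r, hr0⟩ : ∃ r : F, r ∉ ({0, 1, -1} : Finset F) := by_contra fun e => by
    have := (Finset.card_le_card fun r (_ : r ∈ Finset.univ) =>
      not_not.1 (not_exists.1 e r)).trans Finset.card_le_three
    rw [Finset.card_univ] at this
    omega
  simp only [Finset.mem_insert, Finset.mem_singleton, not_or] at hr0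
  have h6 : r * r ≠ 1 := fun e => (mul_self_eq_one_iff.1 e).elim hr0.2.1 hr0.2.2
  obtain ⟨k, -, hk⟩ := (Nat.dvd_prime_pow hp).1 (hn ▸ card_Rv_dvd (1 : F) 0)
  have h7 := h p hp hπ (Rv 1 0) (IsPGroup.of_card hk) (piP F (dg r hr0.1))
    (mem_normalizer_fintype fun y hy => by
      obtain ⟨c, rfl⟩ := mem_Rv.1 hy
      exact mem_Rv.2 ⟨_, (dg_up hr0.1 c).symm⟩)
    (hr _ fun e => h6 (by
      have e' : (r + r⁻¹) ^ 2 = 4 := e
      have e1 := mul_inv_cancel₀ hr0.1
      have : (r * r - 1) ^ 2 = 0 := by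
        linear_combination (r * r) * e' - (r * r⁻¹ + 2 * r * r + 1) * e1
      exact sub_eq_zero.1 (pow_eq_zero_iff two_ne_zero |>.1 this)))
  have h8 := mem_centralizer_iff.1 h7 (up 1) (mem_Rv.2 ⟨1, rfl⟩)
  have h9 := dg_up hr0.1 1
  rw [← h8, mul_inv_cancel_right, mul_one] at h9
  exact h6 (up_inj h2F h9).symm

end psl

theorem Hom.known (h : Hom π G) (h2 : 2 ∉ π) [IsSimpleGroup G] (hna : ¬ IsMulCommutative G)
    (hK : Known G) : IsPiNum πᶜ (Nat.card G) := by
  rcases hK with ⟨F, _, _, h5, ho, ⟨e⟩⟩ | hA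
  · exact Nat.card_congr e.toEquiv ▸
      (h.of_injective e.symm.toMonoidHom e.symm.injective).psl h2 h5 (Nat.odd_iff.1 ho)
  have hc := hA.card
  rw [card_top] at hc
  have := Fact.mk Nat.prime_two
  obtain ⟨t, ht⟩ := exists_prime_orderOf_dvd_card' (G := G) 2 (by rw [hc]; norm_num)
  obtain ⟨-, u, hu, -, -, s, -, -, hs⟩ := hA.cent t trivial ht
  have h3 := hu ▸ h.real h2 hs
  have h2' := isPiNum_prime (π := πᶜ) Nat.prime_two h2
  have h5 := h.notMem hna (p := 5) (m := 504) (by norm_num) hc (by norm_num) (h2'.pow 2)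
  have h7 := h.notMem hna (p := 7) (m := 360) (by norm_num) hc (by norm_num) (h2'.mul h3)
  exact hc ▸ (((h2'.pow 3).mul (h3.pow 2)).mul (isPiNum_prime (by norm_num) h5)).mul
    (isPiNum_prime (by norm_num) h7)

theorem Hom.ab {G : Type u} [Group G] [Finite G] (h : Hom π G) (h2 : 2 ∉ π) [IsSimpleGroup G]
    (hna : ¬ IsMulCommutative G) (hK : AbTwo G) : IsPiNum πᶜ (Nat.card G) := by
  rcases Wal.walter G hna hK with ⟨n, -, ⟨e⟩⟩ | ⟨F, _, _, h5, ho, ⟨e⟩⟩ | ⟨t, L, q, hJ⟩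
  · intro p hp hd
    have := Fact.mk hp
    obtain ⟨x, rfl⟩ := exists_prime_orderOf_dvd_card' p hd
    obtain ⟨s, -, hs⟩ := SL2_exists_inverting (e x)
    exact h.real h2 (g := e.symm s) (e.injective (by simpa using hs)) _ hp dvd_rfl
  · exact h.known h2 hna (Or.inl ⟨F, _, _, h5, Nat.odd_iff.2 (by omega), ⟨e⟩⟩)
  obtain ⟨F, _, _, hq, ⟨e⟩⟩ := hJ.iso
  have hm := hJ.mod
  have hL := Nat.card_congr e.toEquiv ▸ (h.of_injective (L.subtype.comp e.symm.toMonoidHom)
    (L.subtype_injective.comp e.symm.injective)).psl h2 (hq ▸ hJ.five_le) (by omega)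
  by_cases h5 : q = 5
  · obtain ⟨-, hc⟩ | ⟨n, hn, e3, -⟩ := hJ.card
    · have h2F : (2 : F) ≠ 0 := Ring.two_ne_zero fun e => by
        have := FiniteField.even_card_iff_char_two.1 e
        omega
      rw [Nat.card_congr e.toEquiv, SL2C.card_PSL2 h2F, Nat.card_eq_fintype_card, hq, h5] at hL
      have p7 := isPiNum_prime (π := πᶜ) (by norm_num) (h.notMem hna (p := 7) (m := 25080)
        (by norm_num) hc (by norm_num) (hL.of_dvd (by norm_num)))
      have p11 := isPiNum_prime (π := πᶜ) (by norm_num) (h.notMem hna (p := 11) (m := 15960)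
        (by norm_num) hc (by norm_num) (hL.of_dvd (by norm_num)))
      have p19 := isPiNum_prime (π := πᶜ) (by norm_num) (h.notMem hna (p := 19) (m := 9240)
        (by norm_num) hc (by norm_num) ((hL.pow 2).of_dvd (by norm_num)))
      exact hc ▸ ((((hL.pow 2).mul p7).mul p11).mul p19).of_dvd (by norm_num)
    · exact absurd (h5 ▸ e3 ▸ dvd_pow_self 3 (Nat.succ_ne_zero _) : 3 ∣ 5) (by norm_num)
  · intro p hp hd
    have := Fact.mk hp
    obtain ⟨x, rfl⟩ := exists_prime_orderOf_dvd_card' p hd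
    rcases JR.RR.hyp_real hJ h5 hp with e2 | e2 | ⟨g, hg⟩
    · exact e2 ▸ h2
    · exact hL _ hp e2
    · exact h.real h2 hg _ hp dvd_rfl

theorem Hom.piSep (h2 : 2 ∉ π)
    (main : ∀ (X : Type u) [Group X] [Finite X], IsSimpleGroup X → ¬ IsMulCommutative X → Dih X →
      Known X) (G : Type u) [Group G] [Finite G] : Hom π G → AbTwo G ∨ Dih G → PiSep π G := by
  refine card_induction (P := fun G _ _ => Hom π G → AbTwo G ∨ Dih G → PiSep π G)
    (fun G _ _ ih h hG => ?_) G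
  by_cases hna : IsMulCommutative G
  · exact .of_isSolvable (Group.isSolvable_of_comm mul_comm')
  by_cases hs : IsSimpleGroup G
  · exact .of_isPiSubgroup_top (Or.inr fun p hp hd => hG.elim (h.ab h2 hna)
      (fun hG => h.known h2 hna (main G hs hna hG)) p hp (card_top (G := G) ▸ hd))
  have : Nontrivial G := by_contra fun e => hna (by
    have := not_nontrivial_iff_subsingleton.1 e
    infer_instance)
  obtain ⟨N, hN, h0, h1⟩ : ∃ N : Subgroup G, N.Normal ∧ N ≠ ⊥ ∧ N ≠ ⊤ := by_contra fun e =>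
    hs ⟨fun N hN => by_contra fun e' => e ⟨N, hN, (not_or.1 e').1, (not_or.1 e').2⟩⟩
  exact .of_normal_of_quotient N (ih N (card_lt_of_ne_top h1) (h.of_injective _ N.subtype_injective)
      (hG.imp (·.of_injective _ N.subtype_injective) (·.subgroup N)))
    (ih _ (card_quotient_lt h0) (h.of_surjective _ (QuotientGroup.mk'_surjective N))
      (hG.imp (·.of_surjective _ (QuotientGroup.mk'_surjective N))
        (·.of_surjective _ (QuotientGroup.mk'_surjective N))))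

end CfsgLib.GD.PH
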