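import Cfsg.Agent.Lib.GD.QuoA

/-!
# Proper subgroups of a minimal counterexample

For `M < G` let `f : M → X = M / O(M)`; `X` is `Dih`, `O(X) = 1`.  Take a minimal normal subgroup
`Lb` of `X` (if `X = 1` take `T = 1`).
* `Lb` solvable: it contains a normal `2`-subgroup; if `X` has a central involution it is a
  `2`-group (`nilp2_cent`), `T = X`; otherwise `T = Lb` is a four-group with `C(T) = T`
  (`O(C(T)) = 1`, `Dih.le_V`).  So there is a normal `2`-subgroup `T` with `C(T) ≤ T`.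
* otherwise `Lb` is perfect, so simple (`oneCl_of_perf`, `Jv_of_perf`), `C(Lb) = 1`
  (`solvable_cent`), and by `ih` it is `Lin` (`lin_of_psl`) or `A7`.  In the `A7` case there are
  no outer involutions and `16 ∤ |X|` (else a Sylow `2`-subgroup `D₁₆ = ⟨x, y⟩ ≤ C(t)` normalizes
  `⟨u⟩`, `x²` and a reflection of `Lb` centralize `u`, so all of `C_{Lb}(t)` does).

`dichotomy`: `C = C_M(F(M))`.  First case: `K = f⁻¹ T` is solvable, `[C, K] ≤ Z(F)`
(`le_fit_of_solvable`), so elements of odd order of `f C` centralize `T` (`Dih.mem_cent`) and are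
trivial: `C` is `Nilp2`, solvable, `≤ F`.  Second case: `f C = 1` or `f C ≥ Lb`; then
`C₁ = C ⊓ f⁻¹ Lb`, `C₁ ⊓ O(M) ≤ Z(C₁)`, `L = [C₁, C₁]`; `L ≤ C(O(M))` as in `GW.dichotomy`.
Centralizers of involutions lift (`GW.Quo.exists_cent`).  `zb` as `GW.Quo.not_dvd`.  `out`: `f j`
is in `Lb` (`odd`), so in `⟨k⟩`; if `f j ≠ 1` then `p ∣ κ`, `f i` is conjugate into `⟨k⟩`, say
`f i ∈ ⟨k'⟩ ∋ t'`; `C_{Lb}(f i) = ⟨k'⟩` has the unique involution `t'`, which is therefore fixed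
by `f s`, so `f s` inverts `f i` and centralizes it.

`commutator_le_Od` (as in `GW.commutator_le_Od`, for `i ∈ Q` inverted by `t` show `f i = 1`).
First case: an involution `v ∈ T` centralizing `f t` normalizes `f Q`, `[f i, v] ∈ f Q ⊓ T = 1`,
so `f i ∈ C(T) ≤ T` by `Dih.mem_cent`.  `Lin`: `W = [f Q, f t] ≤ Lb`; a four-group `⟨t, s⟩`,
`s ∈ Lb`, acts on `Z(W)`; as in `GW.PslIn.le_cent`, an involution `a ∈ {s, ts}` with
`C_{Z(W)}(a) ≠ 1` centralizes `W`, and so do its conjugates under `C_{Lb}(t)`, which must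
coincide with `a` (conjugate by `k` if `t` is inner, by an odd `z ≠ 1` of `C_{Lb}(t)` if `t` is
outer).  `A7`: `W = [W, t]` has order `p` (then `t = [e, s]` centralizes it) or `9` (then it is
a Sylow subgroup, contains `u`, but `C_W(t) = 1`).
-/

set_option autoImplicit false

namespace CfsgLib.GD

open Subgroup Cfsg CfsgLib.FT.BGN CfsgLib.FT.U4 CfsgLib.GW
open scoped commutatorElement

universe u

section Cover

variable {H : Type*} [Group H] [Finite H] {X : Type*} [Group X] [Finite X] {f : H →* X}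

omit [Finite H] [Finite X] in
theorem card_map_mul (f : H →* X) (K : Subgroup H) :
    Nat.card K = Nat.card (K.map f) * Nat.card ↥(K ⊓ f.ker) := by
  rw [← relIndex_ker, inf_comm, mul_comm, card_inf_mul_relIndex]

theorem not_dvd_ker (hZ : f.ker ≤ center H) (hP : commutator H = ⊤) {r : ℕ} [hr : Fact r.Prime]
    {S : Subgroup X} (hS : IsSylowIn r S f.range) (hc : IsCyclic S) : ¬ r ∣ Nat.card f.ker := by
  intro hd
  obtain ⟨Y, hY, hYr⟩ := exists_card_prime hr.out hd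
  obtain ⟨P, hYP⟩ := (isPGroup_of_card_eq hYr).exists_le_sylow
  obtain ⟨g, -, hg⟩ := hS.exists_conj_le (P.isPGroup'.map f) (map_le_range _ _)
  have h3 : IsCyclic ((P : Subgroup H).map f) := isCyclic_conj.1 (isCyclic_of_le' hc hg)
  have h4 : IsMulCommutative P := (f.subgroupMap P).isMulCommutative_of_isCyclic_of_ker_le_center
    fun y hy => mem_center_iff.2 fun z => Subtype.ext
      (mem_center_iff.1 (hZ (show f y = 1 from congrArg Subtype.val hy)) z)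
  obtain ⟨y, hy, hy1⟩ := exists_ne_one (ne_bot_of_card_prime (hYr ▸ hr.out))
  exact hy1 (BSW.eq_one_of_mem_commutator_of_abelian_sylow P h4 (hYP hy)
    (fun n _ => mem_center_iff.1 (hZ (hY hy)) n) (hP ▸ trivial))

/-- `f` is the quotient map by `O(H)`. -/
structure Cov (f : H →* X) : Prop where
  surj : Function.Surjective f
  ker : ∀ x, f x = 1 ↔ x ∈ Od (⊤ : Subgroup H)

namespace Cov

variable (hf : Cov f) {t s : H}
include hf

omit [Finite H] [Finite X] in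
theorem ker_eq : f.ker = Od ⊤ := Subgroup.ext hf.ker

omit [Finite X] in
theorem ord (ht : orderOf t = 2) : orderOf (f t) = 2 :=
  inv_of_mul_self (by rw [← map_mul, mul_self_of_inv ht, map_one])
    fun e => notMem_Od ht ((hf.ker t).1 e)

omit [Finite X] in
theorem four (h : Four t s) : Four (f t) (f s) :=
  h.map f (ne_one_of_inv (hf.ord h.ot)) (ne_one_of_inv (hf.ord h.os)) (ne_one_of_inv (hf.ord h.ots))

omit [Finite X] in
theorem exists_cent (ht : orderOf t = 2) {y : X} (hy : y ∈ 𝐂[f t]) : ∃ c ∈ 𝐂[t], f c = y := by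
  obtain ⟨x, rfl⟩ := hf.surj y
  have h1 : t * (x * t * x⁻¹) ∈ Od (⊤ : Subgroup H) := (hf.ker _).1 (by
    rw [map_mul, map_mul, map_mul, map_inv, conj_eq_of_mem_cent1 hy, ← map_mul,
      mul_self_of_inv ht, map_one])
  obtain ⟨z, hz, e⟩ := H5.exists_conj_of_odd (s := t) (t := x * t * x⁻¹)
    (by rw [sq, mul_self_of_inv ht]) (by rw [conj_pow, sq, mul_self_of_inv ht]; simp)
    (Nat.coprime_two_right.2 (odd_of_mem_Od h1))
  exact ⟨z * x, mem_cent1_of_conj_eq (Eq.trans (by group) e), by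
    rw [map_mul, (hf.ker z).2 (zpowers_le.2 h1 hz), one_mul]⟩

theorem Od_eq : Od (⊤ : Subgroup X) = ⊥ := eq_bot_of_forall fun y hy => by
  obtain ⟨x, rfl⟩ := hf.surj y
  exact (hf.ker x).2 (le_Od (A := (Od ⊤).comap f) le_top le_normalizer_of_normal
    (odd_card_of_forall fun u hu hu2 => notMem_Od (hf.ord hu2) hu) hy)

omit [Finite X] in
theorem solvable_comap {T : Subgroup X} (hT : Group.IsSolvable T) :
    Group.IsSolvable (T.comap f) := by
  haveI := hT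
  haveI := solvable_Od (⊤ : Subgroup H)
  refine solvable_of_ker_le_range (inclusion (fun x hx => by
    rw [mem_comap, (hf.ker x).2 hx]; exact one_mem _ : Od ⊤ ≤ T.comap f)) (f.subgroupComap T) ?_
  intro x hx
  exact ⟨⟨x, (hf.ker x).1 (congrArg Subtype.val hx)⟩, rfl⟩

theorem fitC_of_two (hX : Dih X) {T : Subgroup X} [T.Normal] (hT : IsPGroup 2 T) (hC : 𝐂(T) ≤ T) :
    FitC (⊤ : Subgroup H) := by
  have hnC : ⊤ ≤ 𝐍(⊤ ⊓ 𝐂(fittingOf (⊤ : Subgroup H))) :=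
    Cop.le_normalizer_inf_centralizer le_normalizer (fit_normal ⊤)
  set C := ⊤ ⊓ 𝐂(fittingOf (⊤ : Subgroup H)) with hCd
  haveI : C.Normal := normal_of_le_normalizer_top hnC
  have h1 : C ⊓ T.comap f ≤ fittingOf ⊤ := le_fit_of_solvable le_top le_normalizer_of_normal
    (isSolvable_of_le (hf.solvable_comap (isSolvable_of_isPGroup hT)) inf_le_right)
    (inf_le_left.trans inf_le_right)
  refine le_fit_of_solvable le_top hnC (solvable_of_nilp2 fun c hc ho =>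
    Od_inf_le le_top ⟨(hf.ker c).1 ?_, hc⟩) inf_le_right
  have hco : Odd (orderOf (f c)) := ho.of_dvd_nat (orderOf_map_dvd f c)
  by_cases h2 : f c ∈ 𝐂(T)
  · exact eq_one_of_two_odd hT (hC h2) hco
  rw [mem_cent] at h2
  push Not at h2
  obtain ⟨y, hy, hne⟩ := h2
  obtain ⟨k, rfl⟩ := hf.surj y
  have h3 : ⁅k, c⁆ ∈ T.comap f := by
    have := mul_mem (show k ∈ T.comap f from hy) (Normal.conj_mem inferInstance _
      (inv_mem (show k ∈ T.comap f from hy)) c)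
    simpa only [commutatorElement_def, mul_assoc] using this
  have h4 : ⁅k, c⁆ ∈ C := mul_mem (Normal.conj_mem inferInstance _ hc k) (inv_mem hc)
  obtain ⟨v, hv, hv2⟩ := exists_inv_mem hT (show f ⁅k, c⁆ ∈ T from h3) fun e => hne (by
    rwa [map_commutatorElement, commutatorElement_eq_one_iff_mul_comm] at e)
  refine eq_one_of_cent_inv hX hT hC hco hv2 (cent1_le_cent1 hv (mem_cent1'.2 ?_))
  rw [← map_mul, ← map_mul, mem_cent.1 hc.2 _ (h1 ⟨h4, h3⟩)]

end Cov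

/-- The component `L` covers the socle `Lb` of the quotient. -/
structure CovL (f : H →* X) (L : Subgroup H) (Lb : Subgroup X) : Prop extends Cov f where
  normal : L.Normal
  cent : L ≤ 𝐂(Od (⊤ : Subgroup H))
  perf : ⁅L, L⁆ = L
  map : L.map f = Lb
  soc : Soc Lb

theorem Cov.exists_covL (hf : Cov f) {Lb : Subgroup X} (hS : Soc Lb)
    (hc : ¬ FitC (⊤ : Subgroup H)) : ∃ L, CovL f L Lb := by
  have hnC : ⊤ ≤ 𝐍(⊤ ⊓ 𝐂(fittingOf (⊤ : Subgroup H))) :=
    Cop.le_normalizer_inf_centralizer le_normalizer (fit_normal ⊤)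
  set C := ⊤ ⊓ 𝐂(fittingOf (⊤ : Subgroup H)) with hCd
  haveI : C.Normal := normal_of_le_normalizer_top hnC
  haveI := hS.normal
  have h1 : Lb ≤ C.map f := hS.min _ (Normal.map inferInstance f hf.surj) fun e =>
    hc (le_fit_of_solvable le_top hnC (isSolvable_of_le (solvable_Od ⊤)
      (hf.ker_eq ▸ (map_eq_bot_iff C).1 e)) inf_le_right)
  set C₁ := C ⊓ Lb.comap f with hC₁
  have h2 : C₁.map f = Lb := by
    refine le_antisymm (map_le_iff_le_comap.2 inf_le_right) fun y hy => ?_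
    obtain ⟨c, hc, rfl⟩ := h1 hy
    exact ⟨c, ⟨hc, hy⟩, rfl⟩
  have h3 : ⁅C₁, C₁⁆.map f = Lb := by rw [map_commutator, h2, hS.perf]
  have h4 : C₁ ⊓ Od ⊤ ≤ 𝐂(C₁) := le_centralizer_iff.1 ((inf_le_left.trans inf_le_right).trans
    (centralizer_le (le_fit_of_solvable le_top le_normalizer_of_normal
      (isSolvable_of_le (solvable_Od ⊤) inf_le_right)
      (inf_le_left.trans (inf_le_left.trans inf_le_right)))))
  have hL : ⁅C₁, C₁⁆ ≤ C₁ := comm_le_left le_normalizer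
  have h5 : ∀ c ∈ C₁, ∃ l ∈ ⁅C₁, C₁⁆, ∃ z ∈ 𝐂(C₁), z ∈ C₁ ∧ c = l * z := fun c hc => by
    obtain ⟨l, hl, e⟩ := h3.ge (h2.le (mem_map_of_mem f hc))
    have h6 : l⁻¹ * c ∈ C₁ := mul_mem (inv_mem (hL hl)) hc
    exact ⟨l, hl, l⁻¹ * c, h4 ⟨h6, (hf.ker _).1 (by rw [map_mul, map_inv, e, inv_mul_cancel])⟩, h6,
      by group⟩
  have hP : ⁅⁅C₁, C₁⁆, ⁅C₁, C₁⁆⁆ = ⁅C₁, C₁⁆ := by
    refine le_antisymm (comm_le_left le_normalizer) (commutator_le.2 fun a ha b hb => ?_)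
    obtain ⟨l, hl, z, hz, hz', rfl⟩ := h5 a ha
    obtain ⟨m, hm, w, hw, hw', rfl⟩ := h5 b hb
    have e1 := conj_eq_of_mem_cent1 (cent_le_cent1 hb hz)
    have e2 := conj_eq_of_mem_cent1 (cent_le_cent1 (inv_mem (hL hl)) hw)
    have : ⁅l * z, m * w⁆ = ⁅l, m⁆ := by
      rw [commutatorElement_def, commutatorElement_def,
        show l * z * (m * w) * (l * z)⁻¹ * (m * w)⁻¹ = l * (z * (m * w) * z⁻¹) * l⁻¹ * (m * w)⁻¹ by
          group, e1,
        show l * (m * w) * l⁻¹ * (m * w)⁻¹ = l * m * (w * l⁻¹ * w⁻¹) * m⁻¹ by group, e2]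
    rw [this]
    exact commutator_mem_commutator hl hm
  refine ⟨⁅C₁, C₁⁆, hf, inferInstance, ?_, hP, h3, hS⟩
  have h6 : ⁅⁅⁅C₁, C₁⁆, Od ⊤⁆, ⁅C₁, C₁⁆⁆ = ⊥ := commutator_eq_bot_iff_le_centralizer.2
    (((comm_le_inf le_normalizer_of_normal le_normalizer_of_normal).trans
      (inf_le_inf_right _ hL)).trans (h4.trans (centralizer_le hL)))
  have h7 := commutator_commutator_eq_bot_of_rotate h6 (by rwa [commutator_comm (Od ⊤)])
  rwa [hP, commutator_eq_bot_iff_le_centralizer] at h7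

namespace CovL

variable {L : Subgroup H} {Lb : Subgroup X} (h : CovL f L Lb) {t s : H}
include h

omit [Finite H] [Finite X] in
theorem mem {x : H} (hx : x ∈ L) : f x ∈ Lb := h.map ▸ mem_map_of_mem f hx

omit [Finite H] [Finite X] in
theorem exists_mul {x : H} (hx : f x ∈ Lb) : ∃ l ∈ L, ∃ o ∈ Od (⊤ : Subgroup H), x = l * o := by
  obtain ⟨l, hl, e⟩ := h.map.ge hx
  exact ⟨l, hl, l⁻¹ * x, (h.ker _).1 (by rw [map_mul, map_inv, e, inv_mul_cancel]), by group⟩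

omit [Finite X] in
theorem inv_mem' {u : H} (hu : orderOf u = 2) (hx : f u ∈ Lb) : u ∈ L := by
  obtain ⟨l, hl, o, ho, rfl⟩ := h.exists_mul hx
  have e := mul_self_of_inv hu
  have hc := mem_cent.1 (h.cent hl) o ho
  have e2 : o * o = (l * l)⁻¹ := by
    rw [eq_inv_iff_mul_eq_one, ← e, mul_assoc o, ← mul_assoc o l, hc, ← mul_assoc, ← mul_assoc, hc,
      mul_assoc, mul_assoc, hc, mul_assoc]
  exact mul_mem hl (zpowers_le.2 (e2 ▸ inv_mem (mul_mem hl hl)) (mem_zpowers_sq (odd_of_mem_Od ho)))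

omit [Finite X] in
theorem mem_cent_iff (ht : orderOf t = 2) (htL : t ∈ L) {l : H} (hl : l ∈ L) :
    f l ∈ 𝐂[f t] ↔ l ∈ 𝐂[t] := by
  haveI := h.normal
  refine ⟨fun hc => ?_, fun hc => mem_cent1.2 (by rw [← map_mul, ← map_mul, mem_cent1.1 hc])⟩
  have h1 : l * t * l⁻¹ * t⁻¹ ∈ Od (⊤ : Subgroup H) := (h.ker _).1 (by
    rw [map_mul, map_mul, map_mul, map_inv, map_inv, conj_eq_of_mem_cent1 hc, mul_inv_cancel])
  have h2 := mem_cent.1 (h.cent htL) _ h1
  have h3 : l * t * l⁻¹ * t⁻¹ = 1 := eq_one_of_inv_of_comm (s := t) (odd_of_mem_Od h1) (by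
    rw [inv_of_inv ht, show t * (l * t * l⁻¹ * t) * t = t * l * t * l⁻¹ * (t * t) by group,
      mul_self_of_inv ht, mul_inv_rev, mul_inv_rev, mul_inv_rev, inv_of_inv ht]
    group) h2
  exact mem_cent1_of_conj_eq (mul_inv_eq_one.1 h3)

omit [Finite H] [Finite X] in
theorem te : TE ⊤ L := by
  haveI := h.normal
  exact ⟨le_top, le_normalizer_of_normal, h.cent, h.perf,
    fun e => h.soc.ne (by rw [← h.map, e, Subgroup.map_bot])⟩

omit [Finite X] in
theorem map_cent (ht : orderOf t = 2) (htL : t ∈ L) : (L ⊓ 𝐂[t]).map f = Lb ⊓ 𝐂[f t] := by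
  ext y
  constructor
  · rintro ⟨l, hl, rfl⟩
    exact ⟨h.mem hl.1, (h.mem_cent_iff ht htL hl.1).2 hl.2⟩
  · intro hy
    obtain ⟨l, hl, rfl⟩ := h.map.ge hy.1
    exact ⟨l, ⟨hl, (h.mem_cent_iff ht htL hl).1 hy.2⟩, rfl⟩

theorem tl (hL : Lin Lb) : TL ⊤ L := by
  haveI := h.normal
  have odd : ∀ {g : H}, Odd (orderOf g) → Odd (orderOf (f g)) := fun ho =>
    ho.of_dvd_nat (orderOf_map_dvd f _)
  have pg : ∀ {p : ℕ} {g : H}, IsPGroup p (zpowers g) → IsPGroup p (zpowers (f g)) := fun hp => by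
    rw [← MonoidHom.map_zpowers]; exact hp.map f
  refine ⟨h.te, fun t ht s _ h4 g hg ho => ?_, fun s _ hs g _ ho e => ?_, fun t ht ht2 => ?_,
    fun t ht s hs h4 r hr hr2 x hx hx1 hxr e => ?_,
    fun t ht s _ hs h4 p hp hp2 i hi hip hiO j hj hjp e => ?_, fun h0 t ht ht2 => ?_⟩
  · obtain ⟨k, hk⟩ := hL.inner _ (h.mem ht) (h.ord h4.ot)
    refine (h.ker _).1 ?_
    rw [map_mul, map_mul, map_mul, map_inv, hk.odd_inv (h.mem hg.1)
      ((h.mem_cent_iff h4.ot ht hg.1).2 hg.2) (odd ho) (mem_top _) (h.four h4), inv_mul_cancel]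
  · obtain ⟨l, hl, o, ho', rfl⟩ := h.exists_mul (hL.odd _ _ (h.ord hs) (odd ho) (inv_map e f))
    exact mul_mem_sup hl ho'
  · obtain ⟨k, hk⟩ := hL.inner _ (h.mem ht) (h.ord ht2)
    obtain ⟨ε, hε, e⟩ := hk.index
    refine ⟨orderOf k, ε, hε, ?_, ?_⟩
    · rw [card_map_mul f, h.map_cent ht2 ht, hk.card, h.ker_eq,
        show L ⊓ 𝐂[t] ⊓ Od ⊤ = L ⊓ Od ⊤ from le_antisymm (inf_le_inf_right _ inf_le_left)
          (le_inf (le_inf inf_le_left fun x hx => mem_cent1.2 (mem_cent.1 (h.cent ht) x hx.2))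
            inf_le_right)]
    · rw [← e, ← h.map, ← relIndex_comap, ← inf_relIndex_right, ← inf_relIndex_right (comap f _)]
      congr 2
      ext x
      exact ⟨fun hx => ⟨(h.mem_cent_iff ht2 ht hx.2).2 hx.1, hx.2⟩,
        fun hx => ⟨(h.mem_cent_iff ht2 ht hx.2).1 hx.1, hx.2⟩⟩
  · haveI := Fact.mk hr
    obtain ⟨k, hk⟩ := hL.inner _ (h.mem ht) (h.ord h4.ot)
    have ho := odd_orderOf_of_mem (odd_card_of_isPGroup hr hr2 hxr) (mem_zpowers x)
    obtain ⟨S, hS, hSk⟩ := hk.exists_sylow hr2 (h.mem hx.1) ((h.mem_cent_iff h4.ot ht hx.1).2 hx.2)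
      (fun e1 => hx1 (eq_one_of_inv_of_comm ho e (mem_cent.1 (h.cent hs) x ((h.ker x).1 e1))))
      (pg hxr)
    have h5 := not_dvd_ker (f := f.comp L.subtype) (S := S)
      (fun y hy => mem_center_iff.2 fun z => Subtype.ext
        (mem_cent.1 (h.cent z.2) y ((h.ker y).1 hy)).symm)
      (commutator_eq_top_of_perf h.perf)
      (by rwa [MonoidHom.range_comp, range_subtype, h.map]) (isCyclic_of_le' inferInstance hSk)
    rwa [← MonoidHom.comap_ker, h.ker_eq, ← subgroupOf, card_subgroupOf_eq_card_inf, inf_comm] at h5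
  · exact (h.ker j).1 (h.soc.lin_out hL (h.mem ht) (fun e => hs (h.inv_mem' h4.os e)) (h.four h4)
      hp hp2 (h.mem hi.1) (mem_cent1.2 (by rw [← map_mul, ← map_mul, mem_cent1.1 hi.2])) (pg hip)
      (fun e => hiO ((h.ker i).1 e))
      (mem_cent1.2 (by rw [← map_mul, ← map_mul, mem_cent1.1 hj.2])) (pg hjp) (inv_map e f))
  · obtain ⟨k', hk⟩ := hL.inner _ (h.mem ht) (h.ord ht2)
    obtain ⟨k, hkL, rfl⟩ := h.map.ge hk.kL
    have hinj : Function.Injective (f.comp L.subtype) := (injective_iff_map_eq_one _).2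
      fun a ha => Subtype.ext (eq_one_of_mem_inf h0 a.2 ((h.ker _).1 ha))
    have hi : ∀ s, Four t s → s * k * s⁻¹ = k⁻¹ := fun s h4 => by
      refine eq_inv_of_mul_eq_one_left (eq_one_of_mem_inf h0
        (mul_mem (Normal.conj_mem inferInstance _ hkL s) hkL) ((h.ker _).1 ?_))
      rw [map_mul, map_mul, map_mul, map_inv, hk.inv _ (mem_top _) (h.four h4), inv_mul_cancel]
    have h1 : Tor ⊥ ⊤ (⟨t, ht⟩ : L) ⟨k, hkL⟩ := Tor.of_map hinj (M' := ⊤) (by
      rwa [← MonoidHom.range_eq_map, MonoidHom.range_comp, range_subtype, h.map])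
      fun s hs h4 => absurd (mem_bot.1 hs) h4.s1
    have h2 := h1.map L.subtype_injective
    rw [← MonoidHom.range_eq_map, range_subtype] at h2
    exact ⟨k, h2.kL, h2.kt, h2.tk, h2.mem, fun s _ => hi s, h2.cent, h2.card, h2.index, h2.rad⟩

theorem ta (hL : A7 Lb) : TA ⊤ L := by
  refine ⟨h.te, fun u _ hu => h.inv_mem' hu (h.soc.a7_mem hL (h.ord hu)), ?_, fun hd => ?_,
    fun t ht ht2 => ?_⟩
  · rw [card_map_mul f, h.map, hL.card, h.ker_eq]
  · rw [card_map_mul f, map_top_of_surjective _ h.surj, h.ker_eq, top_inf_eq, card_top] at hd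
    exact h.soc.a7_not16 hL (Nat.Coprime.dvd_of_dvd_mul_right
      (Nat.Coprime.pow_left 4 (Nat.coprime_two_left.2 (odd_Od ⊤))) hd)
  · obtain ⟨-, u, -, hw, ⟨s', hs', h4, hus⟩, -⟩ := hL.cent _ (h.mem ht) (h.ord ht2)
    obtain ⟨l, hl, rfl⟩ := h.map.ge hs'
    obtain ⟨s, hs, e, hs2⟩ := exists_lift_isPiNum f (π := {2}) l
      (by rw [h4.os]; exact isPiNum_prime Nat.prime_two rfl)
    have hsL : s ∈ L := zpowers_le.2 hl hs
    rw [← e] at h4 hus
    have hss : orderOf s = 2 := by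
      refine inv_of_mul_self ?_ fun e1 => h4.s1 (by rw [e1, map_one])
      obtain ⟨n, hn⟩ := (isPiNum_singleton_iff Nat.prime_two (orderOf_pos s).ne').1 hs2
      exact eq_one_of_two_odd (isPGroup_zpowers_iff.2 ⟨n, hn⟩)
        (mul_mem (mem_zpowers s) (mem_zpowers s))
        (odd_of_mem_Od ((h.ker _).1 (by rw [map_mul, h4.ss])))
    refine ⟨s, hsL, ⟨ht2, hss, mem_cent1'.1 ((h.mem_cent_iff ht2 ht hsL).1 h4.s_cent),
      fun e1 => h4.ne (by rw [e1])⟩, fun w hw' ho => (h.mem_cent_iff hss hsL hw'.1).1 ?_⟩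
    exact zpowers_le.2 hus ((hw _).2 ⟨h.mem hw'.1, (h.mem_cent_iff ht2 ht hw'.1).2 hw'.2,
      ho.of_dvd_nat (orderOf_map_dvd f _)⟩)

end CovL

end Cover

section Transfer

variable {G : Type*} [Group G] [Finite G] {M : Subgroup G} {L : Subgroup M}

theorem map_Od_top (M : Subgroup G) : (Od (⊤ : Subgroup M)).map M.subtype = Od M := by
  ext x
  constructor
  · rintro ⟨y, hy, rfl⟩
    exact mem_Od_top.1 hy
  · exact fun hx => ⟨⟨x, Od_le M hx⟩, mem_Od_top.2 hx, rfl⟩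

theorem card_inf_Od (L : Subgroup M) :
    Nat.card ↥(L.map M.subtype ⊓ Od M) = Nat.card ↥(L ⊓ Od ⊤) := by
  rw [← map_Od_top, ← map_inf _ _ _ M.subtype_injective, card_map_subtype]

theorem FitC.of_top (h : FitC (⊤ : Subgroup M)) : FitC M := fun x hx => by
  have h1 := @h ⟨x, hx.1⟩ ⟨trivial, mem_cent.2 fun y hy => Subtype.ext
    (mem_cent.1 hx.2 y (mem_map_of_mem _ (by rwa [FT.fittingOf_top'] at hy)))⟩
  rw [FT.fittingOf_top'] at h1
  exact mem_map_of_mem M.subtype h1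

theorem TE.of_top (h : TE ⊤ L) : TE M (L.map M.subtype) := by
  refine ⟨map_subtype_le _,
    fun g hg => le_normalizer_map _ (mem_map_of_mem _ (h.norm (mem_top ⟨g, hg⟩))), ?_,
    by rw [← map_commutator, h.perf],
    fun e => h.ne ((map_eq_bot_iff_of_injective _ M.subtype_injective).1 e)⟩
  rintro _ ⟨l, hl, rfl⟩
  exact mem_cent.2 fun y hy =>
    congrArg Subtype.val (mem_cent.1 (h.cent hl) ⟨y, Od_le M hy⟩ (mem_Od_top.2 hy))

theorem TL.of_top (h : TL ⊤ L) : TL M (L.map M.subtype) := by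
  have hi := M.subtype_injective
  have pg : ∀ {p : ℕ} {g : M}, IsPGroup p (zpowers (M.subtype g)) → IsPGroup p (zpowers g) :=
    fun {p g} hp => by
      have := hp.comap_of_injective _ hi
      rwa [← MonoidHom.map_zpowers, comap_map_eq_self_of_injective hi] at this
  refine ⟨h.toTE.of_top, ?_, fun s hs h2 g hg ho e => ?_, ?_, ?_, ?_, fun h0 => ?_⟩
  · rintro _ ⟨t, ht, rfl⟩ s hs h4 _ ⟨⟨g, hg, rfl⟩, hc⟩ ho
    exact mem_Od_top.1 (h.inv t ht ⟨s, hs⟩ trivial ((four_map_iff hi).1 h4) g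
      ⟨hg, (mem_cent1_map hi).1 hc⟩ (by rwa [← orderOf_coe]))
  · have := mem_map_of_mem M.subtype (h.odd ⟨s, hs⟩ trivial (by rwa [← orderOf_coe]) ⟨g, hg⟩ trivial
      (by rwa [← orderOf_coe]) (Subtype.ext e))
    rwa [Subgroup.map_sup, map_Od_top] at this
  · rintro _ ⟨t, ht, rfl⟩ h2
    obtain ⟨κ, ε, h1, h3, h4⟩ := h.idx t ht (by rwa [← orderOf_coe])
    exact ⟨κ, ε, h1, by rw [inf_cent1_map hi, card_map_subtype, card_inf_Od, h3],
      by rw [relIndex_cent1_map hi, h4]⟩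
  · rintro _ ⟨t, ht, rfl⟩ _ ⟨s, hs, rfl⟩ h4 r hr hr2 _ ⟨⟨x, hx, rfl⟩, hc⟩ h1 hp e
    rw [card_inf_Od]
    exact h.zb t ht s hs ((four_map_iff hi).1 h4) r hr hr2 x ⟨hx, (mem_cent1_map hi).1 hc⟩
      (fun e => h1 (by rw [e, map_one])) (pg hp) (Subtype.ext e)
  · rintro _ ⟨t, ht, rfl⟩ s hs hsL h4 p hp hp2 _ ⟨⟨i, hiL, rfl⟩, hc⟩ hip hiO j hj hjp e
    exact mem_Od_top.1 (h.out t ht ⟨s, hs⟩ trivial (fun e => hsL (mem_map_of_mem _ e))
      ((four_map_iff hi).1 h4) p hp hp2 i ⟨hiL, (mem_cent1_map hi).1 hc⟩ (pg hip)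
      (fun e => hiO (mem_Od_top.1 e)) ⟨j, hj.1⟩ ⟨trivial, (mem_cent1_map hi).1 hj.2⟩ (pg hjp)
      (Subtype.ext e))
  · rintro _ ⟨t, ht, rfl⟩ h2
    obtain ⟨k, hk⟩ := h.tor (by rw [← card_eq_one, ← card_inf_Od, h0, card_bot]) t ht
      (by rwa [← orderOf_coe])
    have := hk.map hi
    rw [← MonoidHom.range_eq_map, range_subtype] at this
    exact ⟨_, this⟩

theorem TA.of_top (h : TA ⊤ L) : TA M (L.map M.subtype) := by
  have hi := M.subtype_injective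
  refine ⟨h.toTE.of_top,
    fun u hu h2 => mem_map_of_mem _ (h.inv_mem ⟨u, hu⟩ trivial (by rwa [← orderOf_coe])),
    by rw [card_map_subtype, card_inf_Od, h.card], by rw [← card_top]; exact h.not16, ?_⟩
  rintro _ ⟨t, ht, rfl⟩ h2
  obtain ⟨s, hs, h4, h5⟩ := h.fix t ht (by rwa [← orderOf_coe])
  refine ⟨s, mem_map_of_mem _ hs, (four_map_iff hi).2 h4, ?_⟩
  rintro _ ⟨⟨w, hw, rfl⟩, hc⟩ ho
  exact (mem_cent1_map hi).2 (h5 w ⟨hw, (mem_cent1_map hi).1 hc⟩ (by rwa [← orderOf_coe]))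

end Transfer

variable {G : Type u} [Group G] [Finite G]

theorem exists_cov (hG : Hyp G) {M : Subgroup G} (hM : M ≠ ⊤) :
    ∃ (X : Type u) (_ : Group X) (_ : Finite X) (f : M →* X), Cov f ∧ Dih X ∧
      ((∃ T : Subgroup X, T.Normal ∧ IsPGroup 2 T ∧ 𝐂(T) ≤ T) ∨
        ∃ L : Subgroup X, Soc L ∧ (Lin L ∨ A7 L)) := by
  have hs := QuotientGroup.mk'_surjective (Od (⊤ : Subgroup M))
  have hf : Cov (QuotientGroup.mk' (Od (⊤ : Subgroup M))) :=
    ⟨hs, fun x => QuotientGroup.eq_one_iff x⟩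
  have hX := (hG.dih.subgroup M).of_surjective _ hs
  exact ⟨_, _, inferInstance, _, hf, hX, exists_struct hX hf.Od_eq fun Y _ _ hY => hG.ih Y
    (hY.trans_lt ((Nat.le_of_dvd Nat.card_pos (card_dvd_of_surjective _ hs)).trans_lt
      (card_lt_of_ne_top hM)))⟩

theorem dichotomy (hG : Hyp G) {M : Subgroup G} (hM : M ≠ ⊤) :
    FitC M ∨ ∃ L, TL M L ∨ TA M L := by
  obtain ⟨X, _, _, f, hf, hX, ⟨T, _, hT, hC⟩ | ⟨Lb, hS, hL⟩⟩ := exists_cov hG hM
  · exact Or.inl (hf.fitC_of_two hX hT hC).of_top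
  by_cases hc : FitC (⊤ : Subgroup M)
  · exact Or.inl hc.of_top
  obtain ⟨L, h⟩ := hf.exists_covL hS hc
  exact Or.inr ⟨_, hL.imp (fun h1 => (h.tl h1).of_top) fun h1 => (h.ta h1).of_top⟩

theorem commutator_le_Od (hG : Hyp G) {M Q : Subgroup G} (hM : M ≠ ⊤) {t : G} (ht : orderOf t = 2)
    (htM : t ∈ M) {p : ℕ} (hp : p.Prime) (hp2 : p ≠ 2) (hQ : IsPGroup p Q) (hQM : Q ≤ M)
    (hn : M ⊓ 𝐂[t] ≤ 𝐍(Q)) : ⁅Q, zpowers t⁆ ≤ Od M := by
  have ho := odd_card_of_isPGroup hp hp2 hQ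
  have key : ∀ i ∈ Q, t * i * t⁻¹ = i⁻¹ → i ∈ Od M := fun i hi e => by
    obtain ⟨X, _, _, f, hf, hX, hc⟩ := exists_cov hG hM
    have ht' : orderOf (⟨t, htM⟩ : M) = 2 := by rwa [← orderOf_coe]
    have h1 : IsPGroup p ((Q.subgroupOf M).map f) := (FT.isPGroup_subgroupOf hQ M).map f
    have h2 : 𝐂[f ⟨t, htM⟩] ≤ 𝐍((Q.subgroupOf M).map f) := fun y hy => by
      obtain ⟨c, hc, rfl⟩ := hf.exists_cent ht' hy
      refine le_normalizer_map f (mem_map_of_mem f (mem_normalizer_of_conj_mem fun x hx => ?_))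
      exact conj_mem_of_mem_normalizer (H := Q)
        (hn ⟨c.2, mem_cent1.2 (congrArg Subtype.val (mem_cent1.1 hc))⟩) hx
    have h3 : f ⟨i, hQM hi⟩ ∈ (Q.subgroupOf M).map f := mem_map_of_mem f hi
    have h4 := inv_map (s := (⟨t, htM⟩ : M)) (k := ⟨i, hQM hi⟩) (Subtype.ext e) f
    refine mem_Od_top.1 ((hf.ker ⟨i, hQM hi⟩).1 ?_)
    rcases hc with ⟨T, _, hT, hC⟩ | ⟨Lb, hS, hL | hL⟩
    · exact eq_one_of_inverted_two hX hT hC (hf.ord ht') (odd_card_of_isPGroup hp hp2 h1) h2 h3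
    · exact hS.lin_inverted hL (hf.ord ht') hp hp2 h1 h2 h3 h4
    · exact hS.a7_inverted hL (hf.ord ht') hp hp2 h1 h2 h3 h4
  refine commutator_zpowers_le (mul_self_of_inv ht) fun x hx => ?_
  obtain ⟨c, hc, i, hi, e, rfl⟩ :=
    exists_cent_mul_inv (mul_self_of_inv ht) ho (hn ⟨htM, self_mem_cent1 t⟩) hx
  have h1 := conj_mem_of_mem_normalizer (le_norm_Od M (hQM hc.1))
    (mul_mem (key i hi e) (key i hi e))
  have h2 : t * i⁻¹ * t⁻¹ = i := by rw [← conj_inv, e, inv_inv]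
  have h3 : t * c⁻¹ * t⁻¹ = c⁻¹ := conj_eq_of_mem_cent1 (mem_cent1_comm.1 (inv_mem hc.2))
  rwa [show c * i * t * (c * i)⁻¹ * t⁻¹ = c * (i * (t * i⁻¹ * t⁻¹)) * (t * c⁻¹ * t⁻¹) by group,
    h2, h3]

end CfsgLib.GD
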