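import Cfsg.Agent.Lib.GD.Lin
import Cfsg.Agent.Lib.GW.FourStruct
import Cfsg.Agent.Lib.FrobZGroup

/-!
# Groups with dihedral Sylow `2`-subgroups and no odd normal subgroup
-/

set_option autoImplicit false

namespace CfsgLib.GD

open Subgroup Cfsg CfsgLib.FT.BGN CfsgLib.FT.U4 CfsgLib.GW
open scoped commutatorElement

universe u

section Transfer

variable {G : Type*} [Group G] {X : Type*} [Group X] {f : G →* X}

theorem mem_cent1_map (hf : Function.Injective f) {a b : G} : f a ∈ 𝐂[f b] ↔ a ∈ 𝐂[b] := by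
  rw [mem_cent1, mem_cent1, ← map_mul, ← map_mul, hf.eq_iff]

theorem four_map_iff (hf : Function.Injective f) {a b : G} : Four (f a) (f b) ↔ Four a b := by
  have ho : ∀ a, orderOf (f a) = orderOf a := orderOf_injective f hf
  exact ⟨fun h => ⟨ho a ▸ h.ot, ho b ▸ h.os, hf (by rw [map_mul, map_mul, h.comm]),
    fun e => h.ne (by rw [e])⟩, fun h => ⟨(ho a).trans h.ot, (ho b).trans h.os,
    by rw [← map_mul, ← map_mul, h.comm], fun e => h.ne (hf e)⟩⟩

theorem inf_cent1_map (hf : Function.Injective f) (L : Subgroup G) (b : G) :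
    L.map f ⊓ 𝐂[f b] = (L ⊓ 𝐂[b]).map f := by
  ext z
  constructor
  · rintro ⟨⟨w, hw, rfl⟩, h7⟩
    exact mem_map_of_mem f ⟨hw, (mem_cent1_map hf).1 h7⟩
  · rintro ⟨w, hw, rfl⟩
    exact ⟨mem_map_of_mem f hw.1, (mem_cent1_map hf).2 hw.2⟩

theorem relIndex_cent1_map (hf : Function.Injective f) (L : Subgroup G) (b : G) :
    (𝐂[f b]).relIndex (L.map f) = (𝐂[b]).relIndex L := by
  rw [← relIndex_comap, show (𝐂[f b]).comap f = 𝐂[b] from
    Subgroup.ext fun a => mem_cent1_map hf]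

theorem inv_map {s k : G} (h : s * k * s⁻¹ = k⁻¹) (f : G →* X) : f s * f k * (f s)⁻¹ = (f k)⁻¹ := by
  rw [← map_inv, ← map_mul, ← map_mul, h, map_inv]

theorem inv_of_map (hf : Function.Injective f) {s k : G} (h : f s * f k * (f s)⁻¹ = (f k)⁻¹) :
    s * k * s⁻¹ = k⁻¹ := hf (by rw [map_mul, map_mul, map_inv, map_inv, h])

theorem mem_zpowers_map (hf : Function.Injective f) {a k : G} :
    f a ∈ zpowers (f k) ↔ a ∈ zpowers k := by
  rw [← MonoidHom.map_zpowers, mem_map_iff_mem hf]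

theorem Tor.map [Finite G] [Finite X] {M L : Subgroup G} {t k : G} (h : Tor M L t k)
    (hf : Function.Injective f) : Tor (M.map f) (L.map f) (f t) (f k) := by
  have hz : ∀ x ∈ zpowers (f k), ∃ y ∈ zpowers k, f y = x := fun x hx => by
    rwa [← MonoidHom.map_zpowers] at hx
  have ho : ∀ a, orderOf (f a) = orderOf a := orderOf_injective f hf
  refine ⟨mem_map_of_mem f h.kL, (mem_cent1_map hf).2 h.kt, (mem_zpowers_map hf).2 h.tk, ?_, ?_,
    fun x hx h1 => ?_, ?_, ?_, ?_⟩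
  · rintro _ ⟨y, hy, rfl⟩ h1 h2
    exact (mem_zpowers_map hf).2 (h.mem y hy ((mem_cent1_map hf).1 h1)
      fun e => h2 (by rw [← map_mul, e, map_one]))
  · rintro _ ⟨s, hs, rfl⟩ h4
    exact inv_map (h.inv s hs ((four_map_iff hf).1 h4)) f
  · obtain ⟨y, hy, rfl⟩ := hz x hx
    rintro _ ⟨⟨w, hw, rfl⟩, h2⟩
    exact (mem_cent1_map hf).2 (h.cent y hy (fun e => h1 (by rw [← map_mul, e, map_one]))
      ⟨hw, (mem_cent1_map hf).1 h2⟩)
  · rw [inf_cent1_map hf, card_map_of_injective hf, ho, h.card]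
  · rw [relIndex_cent1_map hf, ho]; exact h.index
  · obtain ⟨R, h1, h2, h3, h4, h5, h6⟩ := h.rad
    refine ⟨R.map f, map_mono h1, ?_, le_normalizer_map f (mem_map_of_mem f h3), ?_, ?_, ?_⟩
    · rintro _ ⟨y, hy, rfl⟩
      exact inv_map (h2 y hy) f
    · rcases h4 with e | ⟨e, q, hq, hR⟩
      · exact Or.inl (by rw [e, Subgroup.map_bot])
      · exact Or.inr ⟨by rwa [card_map_of_injective hf, ho], q, hq, hR.map f⟩
    · rintro _ ⟨y, hy, rfl⟩ hy1
      rw [inf_cent1_map hf, h5 y hy fun e => hy1 (by rw [e, map_one])]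
    · rintro _ ⟨s, hs, rfl⟩ h4' c hck hc1 hco l T hl hl2 hT hp hn hb
      obtain ⟨d, hd, rfl⟩ := hz c hck
      have e : (T.comap f).map f = T := map_comap_eq_self (hT.trans (map_le_range f L))
      have h7 : T.comap f ≤ L := (comap_mono hT).trans (comap_map_eq_self_of_injective hf L).le
      have h8 : T.comap f ⊓ 𝐂[d] = ⊥ := eq_bot_of_forall fun x hx => hf (by
        rw [map_one]
        exact eq_one_of_mem_inf hb hx.1 ((mem_cent1_map hf).2 hx.2))
      rcases h6 s hs ((four_map_iff hf).1 h4') d hd (fun e => hc1 (by rw [e, map_one]))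
        (by rwa [ho] at hco) l (T.comap f) hl hl2 h7
        (hp.comap_of_injective f hf) (le_normalizer_comap f hn) h8 with h9 | h9
      · exact Or.inl (e ▸ map_mono h9)
      · refine Or.inr (e ▸ (map_mono h9).trans ?_)
        rintro _ ⟨_, ⟨y, hy, rfl⟩, rfl⟩
        exact ⟨f y, mem_map_of_mem f hy, by simp⟩

theorem Tor.of_map [Finite G] [Finite X] {M L : Subgroup G} {M' : Subgroup X} {t k : G}
    (hf : Function.Injective f) (h : Tor M' (L.map f) (f t) (f k))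
    (hi : ∀ s ∈ M, Four t s → s * k * s⁻¹ = k⁻¹) : Tor M L t k := by
  have ho : ∀ a, orderOf (f a) = orderOf a := orderOf_injective f hf
  have hne : ∀ {a : G}, a ≠ 1 → f a ≠ 1 := fun h e => h (hf (by rw [e, map_one]))
  refine ⟨(mem_map_iff_mem hf).1 h.kL, (mem_cent1_map hf).1 h.kt, (mem_zpowers_map hf).1 h.tk,
    fun x hx h1 h2 => (mem_zpowers_map hf).1 (h.mem _ (mem_map_of_mem f hx)
      ((mem_cent1_map hf).2 h1) (by rw [← map_mul]; exact hne h2)), hi,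
    fun x hx h1 y hy => (mem_cent1_map hf).1 (h.cent _ ((mem_zpowers_map hf).2 hx)
      (by rw [← map_mul]; exact hne h1) ⟨mem_map_of_mem f hy.1, (mem_cent1_map hf).2 hy.2⟩),
    ?_, ?_, ?_⟩
  · rw [← card_map_of_injective hf, ← inf_cent1_map hf, h.card, ho]
  · rw [← relIndex_cent1_map hf, ← ho]; exact h.index
  · obtain ⟨R', h1, h2, h3, h4, h5, h6⟩ := h.rad
    obtain ⟨R, rfl⟩ : ∃ R : Subgroup G, R.map f = R' :=
      ⟨R'.comap f, map_comap_eq_self (h1.trans (map_le_range f L))⟩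
    refine ⟨R, (map_le_map_iff_of_injective hf).1 h1,
      fun y hy => inv_of_map hf (h2 _ (mem_map_of_mem f hy)), ?_, ?_, fun g hg hg1 => ?_,
      fun s hs h4' c hc hc1 hco l T hl hl2 hT hp hn hb => ?_⟩
    · have := le_normalizer_comap f h3
      rwa [comap_map_eq_self_of_injective hf] at this
    · rcases h4 with e | ⟨e, q, hq, hR⟩
      · exact Or.inl ((map_eq_bot_iff_of_injective _ hf).1 e)
      · refine Or.inr ⟨by rwa [card_map_of_injective hf, ho] at e, q, hq, ?_⟩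
        have := hR.comap_of_injective f hf
        rwa [comap_map_eq_self_of_injective hf] at this
    · exact map_injective hf (by rw [← inf_cent1_map hf, h5 _ (mem_map_of_mem f hg) (hne hg1)])
    · rcases h6 _ (mem_map_of_mem f hs) ((four_map_iff hf).2 h4') _ ((mem_zpowers_map hf).2 hc)
        (hne hc1) (by rwa [ho]) l (T.map f) hl hl2 (map_mono hT) (hp.map f)
        (le_normalizer_map f (mem_map_of_mem f hn))
        (by rw [inf_cent1_map hf, hb, Subgroup.map_bot]) with h9 | h9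
      · exact Or.inl ((map_le_map_iff_of_injective hf).1 h9)
      · refine Or.inr fun y hy => mem_map_conj_iff.2 ((mem_map_iff_mem hf).1 ?_)
        have := mem_map_conj_iff.1 (h9 (mem_map_of_mem f hy))
        simpa using this

theorem A7.map {L : Subgroup G} (h : A7 L) (hf : Function.Injective f) : A7 (L.map f) := by
  have ho : ∀ a, orderOf (f a) = orderOf a := orderOf_injective f hf
  refine ⟨by rw [card_map_of_injective hf, h.card], ?_⟩
  rintro _ ⟨t, ht, rfl⟩ h2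
  obtain ⟨h1, u, hu, h3, ⟨s, hs, h4, h5⟩, s', hs', h6, h7⟩ := h.cent t ht (by rwa [ho] at h2)
  refine ⟨by rw [inf_cent1_map hf, card_map_of_injective hf, h1], f u, by rwa [ho],
    fun w => ⟨fun hw => ?_, ?_⟩,
    ⟨f s, mem_map_of_mem f hs, (four_map_iff hf).2 h4, (mem_cent1_map hf).2 h5⟩,
    f s', mem_map_of_mem f hs', (four_map_iff hf).2 h6, inv_map h7 f⟩
  · rw [← MonoidHom.map_zpowers] at hw
    obtain ⟨y, hy, rfl⟩ := hw
    obtain ⟨a, b, c⟩ := (h3 y).1 hy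
    exact ⟨mem_map_of_mem f a, (mem_cent1_map hf).2 b, by rwa [ho]⟩
  · rintro ⟨⟨y, hy, rfl⟩, b, c⟩
    exact (mem_zpowers_map hf).2 ((h3 y).2 ⟨hy, (mem_cent1_map hf).1 b, by rwa [ho] at c⟩)

end Transfer

variable {X : Type*} [Group X] [Finite X]

namespace Tor

variable {M L : Subgroup X} {t k : X} (h : Tor M L t k)
include h

omit [Finite X] in
theorem odd_mem {x : X} (hx : x ∈ L) (hc : x ∈ 𝐂[t]) (ho : Odd (orderOf x)) : x ∈ zpowers k := by
  by_cases e : x * x = 1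
  · rw [eq_one_of_odd_of_mul_self ho e]; exact one_mem _
  · exact h.mem x hx hc e

omit [Finite X] in
theorem odd_inv {x s : X} (hx : x ∈ L) (hc : x ∈ 𝐂[t]) (ho : Odd (orderOf x)) (hs : s ∈ M)
    (h4 : Four t s) : s * x * s⁻¹ = x⁻¹ :=
  inverts_zpowers (h.inv s hs h4) x (h.odd_mem hx hc ho)

omit [Finite X] in
theorem odd_cent {x : X} (hx : x ∈ L) (hc : x ∈ 𝐂[t]) (ho : Odd (orderOf x)) (h1 : x ≠ 1) :
    L ⊓ 𝐂[x] ≤ 𝐂[t] :=
  h.cent x (h.odd_mem hx hc ho) fun e => h1 (eq_one_of_odd_of_mul_self ho e)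

omit [Finite X] in
theorem coprime_idx : ((𝐂[t]).relIndex L).Coprime (orderOf k) := by
  obtain ⟨ε, hε, e⟩ := h.index
  rw [← Nat.isCoprime_iff_coprime, e]
  refine ⟨1, -(2 * orderOf k + 3 * ε), ?_⟩
  rcases hε with rfl | rfl <;> ring

theorem exists_sylow {r : ℕ} [hr : Fact r.Prime] (hr2 : r ≠ 2) {x : X} (hx : x ∈ L) (hc : x ∈ 𝐂[t])
    (h1 : x ≠ 1) (hp : IsPGroup r (zpowers x)) : ∃ S, IsSylowIn r S L ∧ S ≤ zpowers k := by
  have ho : Odd (orderOf x) :=
    odd_orderOf_of_mem (odd_card_of_isPGroup hr.out hr2 hp) (mem_zpowers x)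
  have h2 : r ∣ orderOf k := by
    obtain ⟨n, hn⟩ := isPGroup_zpowers_iff.1 hp
    refine (hn ▸ dvd_pow_self r ?_ : r ∣ orderOf x).trans
      (orderOf_dvd_of_mem_zpowers (h.odd_mem hx hc ho))
    rintro rfl
    exact h1 (orderOf_eq_one_iff.1 (by rw [hn, pow_zero]))
  obtain ⟨S, hS⟩ := IsSylowIn.exists_in (p := r) (𝐂[t] ⊓ L)
  refine ⟨S, ⟨hS.le.trans inf_le_right, hS.isPGroup, fun hdd => ?_⟩, fun y hy =>
    h.odd_mem (hS.le hy).2 (hS.le hy).1
      (odd_orderOf_of_mem (odd_card_of_isPGroup hr.out hr2 hS.isPGroup) hy)⟩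
  rw [← relIndex_mul_relIndex S _ L hS.le inf_le_right, inf_relIndex_right] at hdd
  rcases (Nat.Prime.dvd_mul hr.out).1 hdd with h3 | h3
  · exact hS.not_dvd h3
  · exact hr.out.one_lt.ne' (Nat.eq_one_of_dvd_coprimes h.coprime_idx h3 h2)

end Tor

/-- A nonabelian minimal normal subgroup with trivial centralizer. -/
structure Soc (L : Subgroup X) : Prop where
  dih : Dih X
  normal : L.Normal
  cent : 𝐂(L) = ⊥
  perf : ⁅L, L⁆ = L
  ne : L ≠ ⊥
  min : ∀ N : Subgroup X, N.Normal → N ≠ ⊥ → L ≤ N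

theorem isPGroup_of_le_cent (hX : Dih X) (hO : Od (⊤ : Subgroup X) = ⊥) {N : Subgroup X} [N.Normal]
    {t : X} (ht : orderOf t = 2) (h : N ≤ 𝐂[t]) : IsPGroup 2 N :=
  isPGroup_two_of_forall_odd fun x hx ho => mem_bot.1
    (Od_eq_bot_of_normal hO N ▸ (hX.nilp2_cent ht).mono h x hx ho)

theorem exists_struct {X : Type u} [Group X] [Finite X] (hX : Dih X)
    (hO : Od (⊤ : Subgroup X) = ⊥)
    (ih : ∀ (Y : Type u) [Group Y] [Finite Y], Nat.card Y ≤ Nat.card X → IsSimpleGroup Y →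
      ¬ IsMulCommutative Y → Dih Y → Known Y) :
    (∃ T : Subgroup X, T.Normal ∧ IsPGroup 2 T ∧ 𝐂(T) ≤ T) ∨ ∃ L : Subgroup X, Soc L ∧ (Lin L ∨ A7 L) := by
  rcases subsingleton_or_nontrivial X with hs | hs
  · exact Or.inl ⟨⊤, inferInstance, fun g => ⟨0, Subsingleton.elim _ _⟩, le_top⟩
  obtain ⟨L, hL⟩ := exists_isMinNormal (G := X)
  haveI := hL.1
  obtain ⟨t, htL, ht⟩ := exists_inv_of_not_odd (H := L) fun ho =>
    hL.2.1 (eq_bot_of_normal_odd hO hL.1 ho)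
  have hC : IsPGroup 2 𝐂(L) := isPGroup_of_le_cent hX hO ht (cent_le_cent1 htL)
  by_cases hc : L ≤ 𝐂(L)
  · exact Or.inl ⟨𝐂(L), inferInstance, hC, centralizer_le hc⟩
  have hC1 : L ⊓ 𝐂(L) = ⊥ := (hL.inf_eq_bot_or_le _).resolve_right hc
  have hP : ⁅L, L⁆ = L := by
    rcases hL.inf_eq_bot_or_le ⁅L, L⁆ with e | e
    · rw [inf_eq_right.2 (comm_le_left le_normalizer)] at e
      exact absurd (commutator_eq_bot_iff_le_centralizer.1 e) hc
    · exact le_antisymm (comm_le_left le_normalizer) e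
  obtain ⟨a, ha, b, hb, h4⟩ := hX.exists_four_of_perf hP hL.2.1
  have hC2 : 𝐂(L) = ⊥ := by
    rw [← hC1, eq_comm, inf_eq_right]
    exact (hX.le_V h4 hC (centralizer_le (V_le ha hb))).trans (V_le ha hb)
  have hS : Soc L := ⟨hX, hL.1, hC2, hP, hL.2.1, fun N hN h1 =>
    (hL.inf_eq_bot_or_le N).resolve_left fun e => h1 (le_bot_iff.1 (hC2 ▸ le_cent_of_inf_eq_bot
      le_normalizer_of_normal le_normalizer_of_normal (by rwa [inf_comm])))⟩
  have hsimple : IsSimpleGroup L := by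
    haveI : Nontrivial L := (nontrivial_iff_ne_bot L).2 hL.2.1
    refine ⟨fun N hN => ?_⟩
    by_cases ho : Odd (Nat.card N)
    · exact Or.inl (eq_bot_of_normal_odd (Od_top_eq_bot_of_normal hO L) hN ho)
    · exact Or.inr (top_le_iff.1 (Jv_top (hX.Jv_of_perf hP) ▸ Jv_le_of fun u hu h2 =>
        (hX.oneCl_of_perf hP).top.mem_of_not_odd le_top le_normalizer_of_normal ho h2 hu))
  refine Or.inr ⟨L, hS, ?_⟩
  rcases ih L (Nat.le_of_dvd Nat.card_pos (card_subgroup_dvd_card L)) hsimple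
    (fun h => hc (FT.le_cent_of_comm h le_rfl le_rfl)) (hX.subgroup L) with
    ⟨F, _, _, h5, ho, ⟨e⟩⟩ | h
  · exact Or.inl (lin_of_psl hX hC2 h5 ho e)
  · have := h.map L.subtype_injective
    rw [← MonoidHom.range_eq_map, range_subtype] at this
    exact Or.inr this

theorem eq_one_of_two_odd {T : Subgroup X} (hT : IsPGroup 2 T) {x : X} (hx : x ∈ T)
    (ho : Odd (orderOf x)) : x = 1 := by
  by_contra h1
  obtain ⟨v, hv, h2⟩ := exists_inv_mem hT hx h1
  have := ho.of_dvd_nat (orderOf_dvd_of_mem_zpowers hv)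
  rw [h2] at this
  exact absurd this (by decide)

/-- First case: an odd element centralizing an involution is trivial. -/
theorem eq_one_of_cent_inv (hX : Dih X) {T : Subgroup X} [T.Normal] (hT : IsPGroup 2 T)
    (hC : 𝐂(T) ≤ T) {g v : X} (ho : Odd (orderOf g)) (hv : orderOf v = 2) (hc : g ∈ 𝐂[v]) :
    g = 1 :=
  eq_one_of_two_odd hT (hC (hX.mem_cent hT (le_normalizer_of_normal (mem_top g)) ho hv
    (le_normalizer_of_normal (mem_top v)) hc)) ho

theorem eq_one_of_inverted_two (hX : Dih X) {T : Subgroup X} [T.Normal] (hT : IsPGroup 2 T)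
    (hC : 𝐂(T) ≤ T) {t : X} (ht : orderOf t = 2) {Q : Subgroup X} (hQ : Odd (Nat.card Q))
    (hn : 𝐂[t] ≤ 𝐍(Q)) {i : X} (hi : i ∈ Q) : i = 1 := by
  have hT1 : ¬ Odd (Nat.card T) := fun ho => by
    have h1 : T = ⊥ := eq_bot_of_forall fun x hx => eq_one_of_two_odd hT hx (odd_orderOf_of_mem ho hx)
    refine ne_one_of_inv ht (mem_bot.1 (h1 ▸ hC (mem_cent.2 fun x hx => ?_)))
    rw [h1, mem_bot] at hx
    rw [hx, one_mul, mul_one]
  obtain ⟨v, hv, h2, h3⟩ := exists_inv_cent (isPGroup_zpowers_inv ht) (K := T)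
    le_normalizer_of_normal hT1
  rw [cent_zpowers] at h3
  refine eq_one_of_cent_inv hX hT hC (odd_orderOf_of_mem hQ hi) h2 (mem_cent1.2 ?_)
  rw [← commutatorElement_eq_one_iff_mul_comm]
  have h4 : ⁅i, v⁆ ∈ Q := by
    have := mul_mem hi (conj_mem_of_mem_normalizer (hn h3) (inv_mem hi))
    simpa only [commutatorElement_def, mul_assoc, inv_inv] using this
  have h5 : ⁅i, v⁆ ∈ T :=
    mul_mem (conj_mem_of_mem_normalizer (le_normalizer_of_normal (mem_top i)) hv) (inv_mem hv)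
  exact eq_one_of_two_odd hT h5 (odd_orderOf_of_mem hQ h4)

namespace Soc

variable {L : Subgroup X} (h : Soc L)
include h

theorem one : OneCl L := h.dih.oneCl_of_perf h.perf

omit [Finite X] in
theorem norm (g : X) : g ∈ 𝐍(L) := by
  haveI := h.normal
  exact le_normalizer_of_normal (mem_top g)

theorem exists_four {t : X} (ht : orderOf t = 2) : ∃ s ∈ L, Four t s := by
  obtain ⟨a, ha, b, hb, h4⟩ := h.dih.exists_four_of_perf h.perf h.ne
  by_cases htL : t ∈ L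
  · obtain ⟨g, hg, rfl⟩ := h.one a ha t htL h4.ot ht
    exact ⟨_, conj_mem_of_mem_normalizer (h.norm g) hb, h4.conj g⟩
  · obtain ⟨v, hv, h2, h3⟩ := exists_inv_cent (isPGroup_zpowers_inv ht) (K := L)
      (fun g _ => h.norm g) fun ho => by
        have := odd_orderOf_of_mem ho ha
        rw [h4.ot] at this
        exact absurd this (by decide)
    rw [cent_zpowers] at h3
    exact ⟨v, hv, ht, h2, mem_cent1'.1 h3, fun e => htL (e ▸ hv)⟩

/-- In the linear case an involution centralizing an odd element `z ≠ 1` of `L` centralizes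
`C_L(z)`. -/
theorem lin_cent (hL : Lin L) {a z : X} (ha : orderOf a = 2) (hz : z ∈ L) (hc : z ∈ 𝐂[a])
    (h1 : z ≠ 1) (ho : Odd (orderOf z)) : L ⊓ 𝐂[z] ≤ 𝐂[a] := by
  by_cases haL : a ∈ L
  · obtain ⟨k, hk⟩ := hL.inner a haL ha
    exact hk.odd_cent hz hc ho h1
  · exact ((hL.outer a haL ha).2 z ⟨hz, hc⟩ h1 ho).1

theorem lin_uniq (hL : Lin L) {t z u : X} (ht : orderOf t = 2) (htL : t ∈ L) (hz : z ∈ L)
    (hc : z ∈ 𝐂[t]) (h1 : z ≠ 1) (ho : Odd (orderOf z)) (hu : orderOf u = 2) (hc' : z ∈ 𝐂[u]) :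
    u = t := by
  obtain ⟨k, hk⟩ := hL.inner t htL ht
  by_contra hne
  have h2 := h.lin_cent hL hu hz hc' h1 ho ⟨htL, mem_cent1_comm.1 hc⟩
  exact h1 (eq_one_of_inv_of_comm ho
    (hk.odd_inv hz hc ho (mem_top u) ⟨ht, hu, mem_cent1.1 h2, Ne.symm hne⟩) (mem_cent1.1 hc'))

theorem lin_le_cent (hL : Lin L) {t : X} (ht : orderOf t = 2) {W : Subgroup X}
    (hW : Group.IsNilpotent W) (ho : Odd (Nat.card W)) (hWL : W ≤ L) (hn : 𝐂[t] ≤ 𝐍(W)) :
    W ≤ 𝐂[t] := by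
  obtain ⟨s, hs, h4⟩ := h.exists_four ht
  have key : ∀ a, orderOf a = 2 → W ⊓ 𝐂(W) ⊓ 𝐂[a] ≠ ⊥ → W ≤ 𝐂[a] ∧ ∃ z ∈ W, z ≠ 1 :=
    fun a ha hne => by
    obtain ⟨z, hz, hz1⟩ := exists_ne_one hne
    exact ⟨fun w hw => h.lin_cent hL ha (hWL hz.1.1) hz.2 hz1 (odd_orderOf_of_mem ho hz.1.1)
      ⟨hWL hw, mem_cent1.2 (mem_cent.1 hz.1.2 w hw)⟩, z, hz.1.1, hz1⟩
  have key2 : ∀ a, (a = s ∨ a = t * s) → W ⊓ 𝐂(W) ⊓ 𝐂[a] = ⊥ := fun a hsa => by
    have hta : Four t a := by rcases hsa with rfl | rfl; exacts [h4, h4.mul]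
    by_contra hne
    obtain ⟨h2, z, hz, hz1⟩ := key a hta.os hne
    have hzo := odd_orderOf_of_mem ho hz
    obtain ⟨c, hcL, hct, hc1, hco, hca⟩ : ∃ c ∈ L, c ∈ 𝐂[t] ∧ c ≠ 1 ∧ Odd (orderOf c) ∧
        a * c * a⁻¹ = c⁻¹ := by
      by_cases htL : t ∈ L
      · have haL : a ∈ L := by rcases hsa with rfl | rfl; exacts [hs, mul_mem htL hs]
        obtain ⟨d, hd, e⟩ := h.one a haL t htL hta.os ht
        obtain ⟨k, hk⟩ := hL.inner t htL ht
        have h5 : d * z * d⁻¹ ∈ L := conj_mem_of_mem_normalizer (h.norm d) (hWL hz)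
        have h6 : d * z * d⁻¹ ∈ 𝐂[t] := by
          rw [← e, cent1_conj]; exact conj_mem_map_conj (h2 hz)
        have h7 : Odd (orderOf (d * z * d⁻¹)) := by rwa [orderOf_conj]
        exact ⟨_, h5, h6, conj_ne_one_iff.2 hz1, h7, hk.odd_inv h5 h6 h7 (mem_top a) hta⟩
      · obtain ⟨⟨c, hc, hc1, hco⟩, h5⟩ := hL.outer t htL ht
        have h6 := (h5 c hc hc1 hco).2 s hs h4
        refine ⟨c, hc.1, hc.2, hc1, hco, ?_⟩
        rcases hsa with rfl | rfl
        · exact h6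
        · rw [show t * s * c * (t * s)⁻¹ = t * (s * c * s⁻¹) * t⁻¹ by group, h6]
          exact conj_eq_of_mem_cent1 (mem_cent1_comm.1 (inv_mem (mem_inf.1 hc).2))
    have h5 : z ∈ 𝐂[c * a * c⁻¹] := by
      rw [cent1_conj]
      exact mem_map_conj_iff.2 (h2 (conj_mem_of_mem_normalizer' (hn hct) hz))
    have h6 : a * (c * a * c⁻¹) ∈ 𝐂[z] := mul_mem (mem_cent1_comm.1 (h2 hz)) (mem_cent1_comm.1 h5)
    have h7 : a * (c * a * c⁻¹) = (c * c)⁻¹ := by
      rw [show a * (c * a * c⁻¹) = a * c * a⁻¹ * (a * a) * c⁻¹ by group, hca, hta.ss]; group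
    rw [h7] at h6
    have h8 := inv_mem (h.lin_cent hL hta.os (hWL hz) (h2 hz) hz1 hzo
      (mem_inf.2 ⟨inv_mem (mul_mem hcL hcL), h6⟩))
    rw [inv_inv] at h8
    have h9 : c ∈ 𝐂[a] := zpowers_le.2 h8 (mem_zpowers_sq hco)
    exact hc1 (eq_one_of_inv_of_comm hco hca (mem_cent1.1 h9))
  by_cases hW1 : W = ⊥
  · exact hW1.le.trans bot_le
  by_contra hc
  have hV : V t s ≤ 𝐍(W) := h4.V_le_cent1.trans hn
  refine inf_centralizer_ne_bot_of_isNilpotent hW le_rfl le_normalizer hW1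
    (le_bot_iff.1 (h4.le_of_cent_le (odd_card_of_le ho inf_le_left)
      (Cop.le_normalizer_inf_centralizer hV hV) ?_ (key2 s (Or.inl rfl)).le
      (key2 _ (Or.inr rfl)).le))
  by_contra hne
  exact hc (key t ht fun e => hne e.le).1

theorem lin_inverted (hL : Lin L) {t : X} (ht : orderOf t = 2) {p : ℕ} (hp : p.Prime) (hp2 : p ≠ 2)
    {Q : Subgroup X} (hQ : IsPGroup p Q) (hn : 𝐂[t] ≤ 𝐍(Q)) {i : X} (hi : i ∈ Q)
    (e : t * i * t⁻¹ = i⁻¹) : i = 1 := by
  haveI := Fact.mk hp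
  have ho := odd_card_of_isPGroup hp hp2 hQ
  have hio := odd_orderOf_of_mem ho hi
  have h1 := h.lin_le_cent hL ht (W := Q ⊓ L) hQ.to_inf_left.isNilpotent
    (odd_card_of_le ho inf_le_left) inf_le_right
    ((le_inf hn fun g _ => h.norm g).trans inf_normalizer_le_normalizer_inf) ⟨hi, hL.odd t i ht hio e⟩
  exact eq_one_of_inv_of_comm hio e (mem_cent1.1 h1)

theorem lin_out (hL : Lin L) {t s i j : X} (htL : t ∈ L) (hsL : s ∉ L) (h4 : Four t s) {p : ℕ}
    (hp : p.Prime) (hp2 : p ≠ 2) (hiL : i ∈ L) (his : i ∈ 𝐂[s]) (hip : IsPGroup p (zpowers i))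
    (hi1 : i ≠ 1) (hjt : j ∈ 𝐂[t]) (hjp : IsPGroup p (zpowers j)) (e : s * j * s⁻¹ = j⁻¹) :
    j = 1 := by
  haveI := Fact.mk hp
  by_contra hj1
  have hjo := odd_orderOf_of_mem (odd_card_of_isPGroup hp hp2 hjp) (mem_zpowers j)
  have hio := odd_orderOf_of_mem (odd_card_of_isPGroup hp hp2 hip) (mem_zpowers i)
  obtain ⟨k, hk⟩ := hL.inner t htL h4.ot
  obtain ⟨S, hS, hSk⟩ := hk.exists_sylow hp2 (hL.odd s j h4.os hjo e) hjt hj1 hjp
  obtain ⟨l, hl, h1⟩ := hS.exists_conj_le hip (zpowers_le.2 hiL)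
  have h2 : l * i * l⁻¹ ∈ 𝐂[t] :=
    zpowers_le.2 hk.kt (hSk (h1 (conj_mem_map_conj (mem_zpowers i))))
  have h3 : i ∈ 𝐂[l⁻¹ * t * l⁻¹⁻¹] := by
    rw [cent1_conj, mem_map_conj_iff, inv_inv]; exact h2
  have h5 : l⁻¹ * t * l⁻¹⁻¹ ∈ L := conj_mem_of_mem_normalizer (h.norm _) htL
  exact hsL (h.lin_uniq hL (by rw [orderOf_conj, h4.ot]) h5 hiL h3 hi1 hio h4.os his ▸ h5)

theorem a7_not16 (hL : A7 L) : ¬ 16 ∣ Nat.card X := fun hd => by
  obtain ⟨a, ha, b, hb, hab⟩ := h.dih.exists_four_of_perf h.perf h.ne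
  obtain ⟨S, hVS, hS⟩ := IsSylowIn.exists_ge hab.isPGroup_V (le_top : V a b ≤ ⊤)
  obtain ⟨x, hx⟩ := h.dih.exists_dt hS.isPGroup
  have h16 : 2 ^ 4 ∣ Nat.card S := pow_dvd_card_sylow hS (by rwa [card_top])
  have h8 : 8 ∣ orderOf x := by
    have := h16.trans hx.card_dvd
    omega
  have hxx : x * x ∈ L := h.dih.mul_self_mem hab (V_le ha hb) (h.norm x)
    (hS.isPGroup.to_le hx.le)
  have hx4 : (x * x) * (x * x) ≠ 1 := fun e => by
    have h1 : orderOf x ∣ 4 := orderOf_dvd_of_pow_eq_one (by rw [← e, show 4 = 2 + 2 from rfl, pow_add, sq])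
    have := Nat.le_of_dvd (by norm_num) (h8.trans h1)
    omega
  obtain ⟨t, ht, hto⟩ := exists_inv_mem hS.isPGroup (mul_mem hx.mem hx.mem)
    fun e => hx4 (by rw [e, one_mul])
  have htL : t ∈ L := zpowers_le.2 hxx ht
  have hxt : x ∈ 𝐂[t] := mem_cent1_comm.1
    (zpowers_le.2 (mul_mem (self_mem_cent1 x) (self_mem_cent1 x)) ht)
  obtain ⟨h24, u, hu, hw, ⟨s, hs, h4, hus⟩, s', hs', h4', hus'⟩ := hL.cent t htL hto
  obtain ⟨huL, hut, huo⟩ := (hw u).1 (mem_zpowers u)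
  have hu1 : u ≠ 1 := fun e => by rw [e, orderOf_one] at hu; omega
  have hxu : x ∈ 𝐍(zpowers u) := mem_normalizer_of_conj_mem fun w hw' => by
    obtain ⟨h1, h2, h3⟩ := (hw w).1 hw'
    exact (hw _).2 ⟨conj_mem_of_mem_normalizer (h.norm x) h1,
      mul_mem (mul_mem hxt h2) (inv_mem hxt), by rwa [orderOf_conj]⟩
  have hxxu : x * x ∈ 𝐂[u] := by
    classical
    have h1 := conj_mem_of_mem_normalizer hxu (mem_zpowers u)
    have h2 : ∀ w ∈ zpowers u, w = 1 ∨ w = u ∨ w = u⁻¹ := fun w hw => by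
      rw [mem_zpowers_iff_mem_range_orderOf, hu] at hw
      obtain ⟨n, hn, rfl⟩ := Finset.mem_image.1 hw
      have h3 : u ^ 3 = 1 := hu ▸ pow_orderOf_eq_one u
      rw [Finset.mem_range] at hn
      interval_cases n
      · exact Or.inl (pow_zero u)
      · exact Or.inr (Or.inl (pow_one u))
      · exact Or.inr (Or.inr (eq_inv_of_mul_eq_one_left (by rw [← pow_succ, h3])))
    refine mem_cent1_of_conj_eq ?_
    rw [show x * x * u * (x * x)⁻¹ = x * (x * u * x⁻¹) * x⁻¹ by group]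
    rcases h2 _ h1 with e | e | e
    · exact absurd e (conj_ne_one_iff.2 hu1)
    · rw [e, e]
    · rw [e, ← conj_inv, e, inv_inv]
  set K := L ⊓ 𝐂[t] ⊓ 𝐂[u] with hK
  have hVK : V t s ≤ K := V_le ⟨⟨htL, self_mem_cent1 t⟩, mem_cent1_comm.1 hut⟩
    ⟨⟨hs, h4.s_cent⟩, mem_cent1_comm.1 hus⟩
  have hV : IsSylowIn 2 (V t s) K := ⟨hVK, h4.isPGroup_V, fun h2 => by
    have h1 := card_mul_relIndex hVK
    rw [h4.card_V] at h1
    have h3 : 3 ∣ Nat.card K := hu ▸ orderOf_dvd_natCard K ⟨⟨huL, hut⟩, self_mem_cent1 u⟩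
    have h5 : 24 ≤ Nat.card K := Nat.le_of_dvd Nat.card_pos (by omega)
    have h6 := eq_of_le_of_card_le (inf_le_left : K ≤ L ⊓ 𝐂[t]) (h24 ▸ h5)
    have h7 : s' ∈ K := h6.ge ⟨hs', h4'.s_cent⟩
    exact hu1 (eq_one_of_inv_of_comm huo hus' (mem_cent1'.1 h7.2))⟩
  obtain ⟨g, -, hg⟩ := hV.exists_conj_le (Q := zpowers (x * x))
    (hS.isPGroup.to_le (zpowers_le.2 (mul_mem hx.mem hx.mem)))
    (zpowers_le.2 ⟨⟨hxx, mul_mem hxt hxt⟩, hxxu⟩)
  have h9 := h4.mul_self_of_mem (hg (conj_mem_map_conj (mem_zpowers _)))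
  rw [_root_.conj_mul] at h9
  exact conj_ne_one_iff.2 hx4 h9

theorem a7_mem (hL : A7 L) {u : X} (hu : orderOf u = 2) : u ∈ L := by
  haveI := h.normal
  refine mem_of_coprime_index ?_
  rw [hu, Nat.coprime_two_left, ← Nat.not_even_iff_odd, even_iff_two_dvd]
  intro hd
  refine h.a7_not16 hL ?_
  rw [← L.card_mul_index, hL.card]
  omega

theorem a7_inverted (hL : A7 L) {t : X} (ht : orderOf t = 2) {p : ℕ} (hp : p.Prime) (hp2 : p ≠ 2)
    {Q : Subgroup X} (hQ : IsPGroup p Q) (hn : 𝐂[t] ≤ 𝐍(Q)) {i : X} (hi : i ∈ Q)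
    (e : t * i * t⁻¹ = i⁻¹) : i = 1 := by
  haveI := Fact.mk hp
  haveI := h.normal
  have ho := odd_card_of_isPGroup hp hp2 hQ
  have hio := odd_orderOf_of_mem ho hi
  have htL := h.a7_mem hL ht
  by_contra hi1
  set W := ⁅Q, zpowers t⁆ with hW
  have htQ : zpowers t ≤ 𝐍(Q) := (zpowers_le_cent1 t).trans hn
  have hWQ : W ≤ Q := comm_le_left htQ
  have hWL : W ≤ L := (commutator_mono le_rfl (zpowers_le.2 htL)).trans
    (comm_le_right le_normalizer_of_normal)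
  have hiW : i ∈ W := mem_commutator_of_inverted hio e hi
  have hnW : 𝐂[t] ≤ 𝐍(W) := fun g hg => by
    rw [← map_conj_eq_iff_mem_normalizer, hW, conj_comm, map_conj_eq_of_mem_normalizer (hn hg),
      conj_eq_of_mem_cent (by rwa [cent_zpowers])]
  obtain ⟨h24, u, hu, hw, ⟨s, hs, h4, -⟩, -⟩ := hL.cent t htL ht
  obtain ⟨n, hcard⟩ := IsPGroup.iff_card.1 (hQ.to_le hWQ)
  have hd : p ^ n ∣ 2520 := by rw [← hcard, ← hL.card]; exact card_dvd_of_le hWL
  have hn0 : n ≠ 0 := by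
    rintro rfl
    rw [pow_zero, card_eq_one] at hcard
    exact hi1 (mem_bot.1 (hcard ▸ hiW))
  by_cases hn1 : n = 1
  · rw [hn1, pow_one] at hcard
    haveI : IsCyclic W := isCyclic_of_prime_card hcard
    obtain ⟨c, hc, -, h2, -⟩ := h.dih.exists_e h4 (V_le htL hs) (by rw [h24]; norm_num)
    have h3 := Frob.commutator_mem_centralizer_of_isCyclic (hnW hc.2) (hnW h4.s_cent)
    rw [commutatorElement_def, h2, mul_inv_cancel_right] at h3
    exact hi1 (eq_one_of_inv_of_comm hio e (mem_cent.1 h3 i hiW))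
  have h2 : p ^ 2 ∣ 2520 := (pow_dvd_pow p (by omega)).trans hd
  have hp3 : p = 3 := by
    have h5 : p ≤ 50 := by
      by_contra hc
      have := Nat.le_of_dvd (by norm_num) h2
      nlinarith
    interval_cases p <;> first | rfl | omega | exact absurd hp (by norm_num)
  subst hp3
  have hn2 : n = 2 := by
    by_contra hc
    have := (pow_dvd_pow 3 (by omega : 3 ≤ n)).trans hd
    omega
  subst hn2
  have hS : IsSylowIn 3 W L := ⟨hWL, hQ.to_le hWQ, fun h3 => by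
    have := card_mul_relIndex hWL
    rw [hcard, hL.card] at this
    omega⟩
  obtain ⟨huL, hut, -⟩ := (hw u).1 (mem_zpowers u)
  have huW : zpowers u ≤ W := FT.le_sylow_of_norm hS
    (isPGroup_of_card_eq (by rw [Nat.card_zpowers, hu])) (zpowers_le.2 huL)
    (zpowers_le.2 (hnW hut))
  have h5 : ⁅W, zpowers t⁆ = W := Cop.commutator_commutator_eq htQ (coprime_zpowers_inv ht ho)
  have h6 := Cop.commutator_inf_centralizer_eq_bot ((zpowers_le_cent1 t).trans hnW)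
    (coprime_zpowers_inv ht (odd_card_of_le ho hWQ))
    (IsPGroup.isMulCommutative_of_card_eq_prime_sq hcard)
  rw [h5, cent_zpowers] at h6
  have h7 := eq_one_of_mem_inf h6 (huW (mem_zpowers u)) hut
  rw [h7, orderOf_one] at hu
  omega

end Soc

end CfsgLib.GD
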