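import Cfsg.Agent.Lib.JR.Ree

/-!
# Groups of Ree type: three characters of the principal `2`-block with their degrees
-/

set_option autoImplicit false
set_option linter.unusedSimpArgs false
set_option linter.unusedSectionVars false

namespace CfsgLib.JR.RR

theorem num_prod {q r s : ℤ} {p : ℕ} (h : Par q r s p) {x y : ℤ} (hx : x ≠ 0) (hy : y ≠ 0) (hxy : x + y = 1 - (q ^ 2 + q + 1))
    (e : (1 : ℚ) + 1 / (-(q ^ 2 + q + 1) : ℤ) - s ^ 2 / x - s ^ 2 / y =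
      4 * q ^ 2 * s * (s + 1) / (q ^ 2 * (q ^ 2 + q + 1) : ℤ)) :
    3 * (x * y) = q * s ^ 2 * (q ^ 2 + q + 1) := by
  have h1 : (x : ℚ) ≠ 0 := by exact_mod_cast hx
  have h2 : (y : ℚ) ≠ 0 := by exact_mod_cast hy
  have h3 : (q : ℚ) ≠ 0 := by exact_mod_cast h.q_ne
  have e1 : (q ^ 2 + q) * x * y - (q ^ 2 + q + 1) * s ^ 2 * (x + y) = 4 * s * (s + 1) * x * y := by
    obtain ⟨a, ha⟩ : ∃ a, a = q ^ 2 + q + 1 := ⟨_, rfl⟩
    have h4 : (a : ℚ) ≠ 0 := by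
      have : a ≠ 0 := by nlinarith [sq_nonneg (2 * q + 1)]
      exact_mod_cast this
    rw [show q ^ 2 + q = a - 1 by omega, sub_add_cancel]
    rw [← ha] at e
    push_cast at e
    field_simp at e
    have : (((a - 1) * x * y - a * s ^ 2 * (x + y) : ℤ) : ℚ) =
        (4 * s * (s + 1) * x * y : ℤ) := by push_cast; linear_combination e
    exact_mod_cast this
  have hq := h.hq
  have hs := h.hs
  refine mul_left_cancel₀ (mul_ne_zero two_ne_zero h.s_ne) ?_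
  rw [hxy] at e1; subst q s; linarith

section lat

open Lat

variable {Λ : Type*} [AddCommGroup Λ] {l : Lat Λ} {v w e f g o a1 a2 a3 : Λ}

/-- The decomposition of `a₁` and the degrees of its constituents. -/
def Deg (l : Lat Λ) (q s : ℤ) (o a1 : Λ) : Prop :=
  ∃ e0 e1 f1, l.B e0 e0 = 1 ∧ l.B e1 e1 = 1 ∧ l.B f1 f1 = 1 ∧ a1 = o + e0 - e1 - f1 ∧
    l.z e0 = -(q ^ 2 + q + 1) ∧ l.z e1 + l.z f1 = 1 - (q ^ 2 + q + 1) ∧
    3 * (l.z e1 * l.z f1) = q * s ^ 2 * (q ^ 2 + q + 1)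

variable {q r s N : ℤ} {P : Λ → Prop} {p : ℕ}
variable {I J : Type*} {b0 : I → Λ} {b : Fin 3 → I → Λ} {ζ : J → Λ}
variable (h : l.RD q r s N o a1 a2 a3 P b0 b ζ)
include h

theorem starI2 (hp : Par q r s p) {e0 e1 f1 e2 f2 e3 f3 : Λ}
    (hS : l.Star o a1 a2 a3 e0 e1 f1 e2 f2 e3 f3) (ρ : I) (h1 : l.B (b 0 ρ) e0 = -1)
    (h2 : l.B (b 0 ρ) f3 = -1) : Deg l q s o a1 := by
  have n0 := h.n_eq hS.x0
  have n1 := h.n_eq hS.x1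
  have n1' := h.n_eq hS.y1
  have n3 := h.n_eq hS.x3
  have n3' := h.n_eq hS.y3
  have hq := hp.hq
  have hs := hp.hs
  obtain ⟨k1, k2⟩ := h.delta hp ρ hS.x0.neg.u hS.y3.neg.u (hS.x0.neg.orth hS.y3.neg)
    (h.P_of hS.x0.neg) (h.P_of hS.y3.neg) (by simp [h1]) (by simp [h2]) (by simp only [map_add, map_sub, map_neg, AddMonoidHom.add_apply, AddMonoidHom.sub_apply, AddMonoidHom.neg_apply]; omega)
  simp only [map_add, map_sub, map_neg, AddMonoidHom.add_apply, AddMonoidHom.sub_apply, AddMonoidHom.neg_apply, n0, n3'] at k1 k2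
  have k3 : l.z f3 = q * l.z e0 := by subst q s; linarith
  have k4 : N = -q ^ 2 * l.z e0 := by
    refine mul_left_cancel₀ (mul_ne_zero two_ne_zero hp.s_ne) ?_
    rw [k1, k3]; subst q s; ring
  have z1 := h.z1
  have z3 := h.z3
  have t1 := h.t1
  have t3 := h.t3
  rw [hS.d1] at z1 t1
  rw [hS.d3] at z3 t3
  simp only [map_add, map_sub, map_neg, AddMonoidHom.add_apply, AddMonoidHom.sub_apply, AddMonoidHom.neg_apply, h.zo, h.Θo, l.th _ hS.x0.u, l.th _ hS.x1.u, l.th _ hS.y1.u, l.th _ hS.x3.u, l.th _ hS.y3.u,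
    n0, n1, n1', n3, n3'] at z1 z3 t1 t3
  have k5 := hp.numI (l.zne _ hS.x0.u) (l.zne _ hS.x3.u) (by omega) (by
    rw [← k3, ← k4, ← t3]; subst q s; push_cast; ring)
  have k6 : N = q ^ 2 * (q ^ 2 + q + 1) := by rw [k4, k5]; ring
  refine ⟨e0, e1, f1, hS.x0.u, hS.x1.u, hS.y1.u, hS.d1, k5, by omega,
    num_prod hp (l.zne _ hS.x1.u) (l.zne _ hS.y1.u) (by omega) ?_⟩
  rw [← k5, ← k6, ← t1]; subst q s; push_cast; ring

theorem star_step2 (hp : Par q r s p) {e0 e1 f1 e2 f2 e3 f3 : Λ}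
    (hS : l.Star o a1 a2 a3 e0 e1 f1 e2 f2 e3 f3) (ρ : I) :
    Deg l q s o a1 ∨
      (l.B (b 0 ρ) e0 = 0 ∧ ((l.B (b 0 ρ) e1 = 1 ∧ s * N = q ^ 2 * l.z e1) ∨
        s * N = q ^ 2 * l.z f1)) := by
  have m := (h.bb 0 ρ).le
  have c0 := l.abs_le hS.x0.u m
  have c1 := l.abs_le hS.x1.u m
  have c2 := l.abs_le hS.y1.u m
  have c3 := l.abs_le hS.x2.u m
  have c4 := l.abs_le hS.y2.u m
  have c5 := l.abs_le hS.x3.u m
  have c6 := l.abs_le hS.y3.u m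
  have k1 := h.ba1 0 ρ
  have k2 := h.ba2 0 ρ
  have k3 := h.ba3 0 ρ
  have k3' := k3
  rw [hS.d1] at k1
  rw [hS.d2] at k2
  rw [hS.d3] at k3
  simp only [map_add, map_sub, map_neg, AddMonoidHom.add_apply, AddMonoidHom.sub_apply, AddMonoidHom.neg_apply, h.ob] at k1 k2 k3
  rcases (by omega : l.B (b 0 ρ) e0 = -1 ∨ l.B (b 0 ρ) e0 = 0 ∨ l.B (b 0 ρ) e0 = 1) with k | k | k
  · by_cases k4 : l.B (b 0 ρ) f3 = -1
    · exact Or.inl (starI2 h hp hS ρ k k4)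
    · exact Or.inl (starI2 h hp ⟨hS.d1, hS.d2, by rw [hS.d3]; abel, hS.o0, hS.x0, hS.x1, hS.y1,
        hS.x2, hS.y2, hS.y3, hS.x3⟩ ρ k (by omega))
  · obtain ⟨f, hf, k5⟩ : ∃ f, l.X a1 a2 a3 f 0 (-1) 0 ∧ l.B (b 0 ρ) f = 1 := by
      by_cases k4 : l.B (b 0 ρ) e2 = 1
      · exact ⟨_, hS.x2, k4⟩
      · exact ⟨_, hS.y2, by omega⟩
    refine Or.inr ⟨k, ?_⟩
    by_cases k4 : l.B (b 0 ρ) e1 = 1
    · exact Or.inl ⟨k4, (h.two_neg hp ρ hS.x1 hf k4 k5).1⟩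
    · exact Or.inr (h.two_neg hp ρ hS.y1 hf (by omega) k5).1
  · have s := l.symm
    have o1 := hS.x0.orth hS.x1
    have o2 := hS.x0.orth hS.x2
    have o3 := hS.x1.orth hS.x2
    have h9 : b 0 ρ - e0 - e1 - e2 = 0 := l.eq_zero (by
      simp only [map_add, map_sub, map_neg, AddMonoidHom.add_apply, AddMonoidHom.sub_apply, AddMonoidHom.neg_apply, s e0 (b 0 ρ), s e1 (b 0 ρ), s e2 (b 0 ρ), s e1 e0, s e2 e0, s e2 e1, hS.x0.u, hS.x1.u,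
        hS.x2.u, h.bb]; omega)
    have h10 := congrArg (l.B · a3) h9
    simp only [map_add, map_sub, map_neg, AddMonoidHom.add_apply, AddMonoidHom.sub_apply, AddMonoidHom.neg_apply, map_zero, AddMonoidHom.zero_apply, hS.x0.x3, hS.x1.x3, hS.x2.x3] at h10
    omega

theorem main2 (hp : Par q r s p) (h7 : 7 ≤ |r|) (ρ : I) :
    Deg l q s o a1 := by
  rcases h.pattern with ⟨e0, e1, f1, e2, f2, e3, f3, hS⟩ | ⟨e1, e2, e3, f1, f2, f3, hT⟩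
  · by_contra h0
    have key := fun ρ => (star_step2 h hp hS ρ).resolve_left h0
    by_cases h1 : s * N = q ^ 2 * l.z f1
    · have hS' : l.Star o a1 a2 a3 e0 f1 e1 e2 f2 e3 f3 := ⟨by rw [hS.d1]; abel, hS.d2, hS.d3,
        hS.o0, hS.x0, hS.y1, hS.x1, hS.x2, hS.y2, hS.x3, hS.y3⟩
      refine h.starII hp h7 hS' (fun ρ => (key ρ).1) h1 (or_iff_not_imp_right.2 fun h2 ρ => ?_)
      exact (((star_step2 h hp hS' ρ).resolve_left h0).2.resolve_right h2).1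
    · exact h.starII hp h7 hS (fun ρ => (key ρ).1) ((key ρ).2.resolve_right h1).2
        (Or.inl fun ρ => ((key ρ).2.resolve_right h1).1)
  · exact (h.tri hp ρ hT).elim

end lat

open Subgroup Cfsg CfsgLib.FT CfsgLib.FT.BGN CfsgLib.FT.U4 CfsgLib.GW CfsgLib.Blk
open scoped ComplexConjugate
open GD

variable {G : Type*} [Group G] [Fintype G] {q r s : ℤ} {p : ℕ} {c : Cfg G}
variable (h : GD q r s p c)
include h

theorem ree_chars (h7 : 7 ≤ |r|) : ∃ (χ φ ψ : G → ℂ) (x y : ℤ), IsDirr ⊤ χ ∧ IsDirr ⊤ φ ∧ IsDirr ⊤ ψ ∧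
    χ 1 = (-(q ^ 2 + q + 1) : ℤ) ∧ φ 1 = x ∧ ψ 1 = y ∧ x + y = 1 - (q ^ 2 + q + 1) ∧
    3 * (x * y) = q * s ^ 2 * (q ^ 2 + q + 1) ∧
    ∀ g, Odd (orderOf g) → 1 + χ g - φ g - ψ g = 0 := by
  classical
  obtain ⟨w, j, hw⟩ := h.exists_wd
  obtain ⟨a, b, e, hE⟩ := h.exists_lc
  obtain ⟨l, hl⟩ := exists_lat (mem_top c.t) h.ot
  obtain ⟨m, m1, m2, m3, m4, m5⟩ := h.exists_lams hw
  have hS := h.sec hE.toEta hE.toEta hl
  have ms : ∀ i, m i c.t + m i c.u + m i (c.t * c.u) = -1 := fun i => by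
    fin_cases i <;> simp [m3, m4, m5]
  have mne : ∀ i k, m i = m k → i = k := fun i k e => by
    have e1 := congrFun e c.t
    have e2 := congrFun e c.u
    fin_cases i <;> fin_cases k <;> simp [m3, m4, m5] at e1 e2 ⊢ <;> norm_num at *
  have i := isIrr_cf1 (V c.t c.u)
  have v1 := cf1_apply (V c.t c.u).one_mem
  have vs : cf1 (V c.t c.u) c.t + cf1 (V c.t c.u) c.u + cf1 (V c.t c.u) (c.t * c.u) = 3 := by
    rw [cf1_apply (t_mem_V _ _), cf1_apply (s_mem_V _ _),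
      cf1_apply (mul_mem (t_mem_V _ _) (s_mem_V _ _))]; norm_num
  have m0 : ∀ i, m i ≠ cf1 (V c.t c.u) := fun i e => by
    have := ms i
    rw [e, vs] at this
    norm_num at this
  have n1 : ∀ i, ¬ ∃ z ∈ 𝐍(V c.t c.u), cfConjg z (cf1 (V c.t c.u)) = m i := by
    rintro i ⟨z, hz, e⟩
    exact m0 i (e.symm.trans (cfConjg_cf1 hz))
  have c0 := fun φ κ ρ hφ hκ hρ h1 => (h.const (μ := cf1 (V c.t c.u)) (φ := φ) (κ := κ) (ρ := ρ) hw hφ hκ hρ h1).trans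
    (by rw [v1, vs, map_one, map_ofNat])
  have ci := fun i φ κ ρ hφ hκ hρ h1 => (h.const (μ := m i) (φ := φ) (κ := κ) (ρ := ρ) hw hφ hκ hρ h1).trans
    (by rw [(m1 i).one, ms, map_neg, map_one])
  have al0 : ∀ ψ ρ, OS c.L ψ → cfdot c.R (al c ψ) ρ = 0 := fun ψ ρ hψ =>
    cfdot_eq_zero_of_supp fun x hx => Or.inl (h.al_odd hψ (odd_orderOf_of_mem h.oddR hx))
  have alt : ∀ ψ x, OS c.L ψ → x ∈ c.R → al c ψ (c.t * x) = 2 * ψ x := fun ψ x hψ hx =>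
    h.al_t hψ (h.RL hx) (odd_orderOf_of_mem h.oddR hx)
  have a1 : ∀ x ∈ c.R, x ≠ 1 → al c (cf1 c.L - a) (c.t * x) = 4 := fun x hx h1 => by
    rw [alt _ _ hE.osa hx, Pi.sub_apply, cf1_apply (h.RL hx), (hE.vR x hx h1).1]; norm_num
  have a2 : ∀ x ∈ c.R, x ≠ 1 → al c (cf1 c.L - b) (c.t * x) = 4 := fun x hx h1 => by
    rw [alt _ _ hE.osb hx, Pi.sub_apply, cf1_apply (h.RL hx), (hE.vR x hx h1).2.1]; norm_num
  have a3 : ∀ x ∈ c.R, x ≠ 1 → al c (cf1 c.L - e) (c.t * x) = 0 := fun x hx h1 => by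
    rw [alt _ _ hE.ose hx, Pi.sub_apply, cf1_apply (h.RL hx), (hE.vR x hx h1).2.2]; norm_num
  have pp : ∀ ξ : ZIrr (⊤ : Subgroup G), PP c a b e ξ → ∀ x ∈ c.R, x ≠ 1 → ξ.1 (c.t * x) =
      (l.B ξ ⟨_, h.al_mem hE.osa⟩ + l.B ξ ⟨_, h.al_mem hE.osb⟩ - l.B ξ ⟨_, h.al_mem hE.ose⟩ : ℤ) :=
    fun ξ hξ x hx h1 => by
      obtain ⟨k1, k2, k3⟩ := hE.vR x hx h1
      rw [hξ x (h.RL hx) (odd_orderOf_of_mem h.oddR hx), k1, k2, k3]
      push_cast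
      rw [← hl.B, ← hl.B, ← hl.B]; ring
  have bb := fun i k ρ ρ' hρ hρ' h1 h1' => (h.be_be (m1 i).isIrr (m1 k).isIrr (ρ := ρ) (ρ' := ρ')
    hρ hρ' h1 h1').trans (by rw [if_pos (m2 i k), h.inertia_lam hw (m1 i) (ms i), h.idxW])
  obtain ⟨ρ0, k1, k2⟩ := exists_irr_ne (R := c.R) fun e => by
    have := h.cardR
    rw [e, card_bot] at this
    rw [Int.abs_eq_natAbs] at h7
    omega
  have sy := l.symm
  suffices H : Deg l q s ⟨cf1 ⊤, cf1_mem_ZIrr⟩ ⟨_, h.al_mem hE.osa⟩ by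
    obtain ⟨e0, e1, f1, u0, u1, u2, d, z0, z1, z2⟩ := H
    refine ⟨e0, e1, f1, l.z e1, l.z f1, hl.dirr u0, hl.dirr u1, hl.dirr u2, by rw [← z0, hl.z],
      hl.z _, hl.z _, z1, z2, fun g hg => ?_⟩
    have k3 : al c (cf1 c.L - a) g = cf1 ⊤ g + e0.1 g - e1.1 g - f1.1 g :=
      congrFun (congrArg Subtype.val d) g
    rw [h.al_odd hE.osa hg] at k3
    simpa [cf1_apply (mem_top g)] using k3.symm
  refine main2 (l := l) (I := {ρ // IsIrr c.R ρ ∧ ρ ≠ cf1 c.R})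
    (J := {τ // IsIrr c.T τ ∧ τ ≠ cf1 c.T}) (b0 := fun ρ => ⟨_, h.be_mem i ρ.2.1⟩)
    (b := fun k ρ => ⟨_, h.be_mem (m1 k).isIrr ρ.2.1⟩)
    (ζ := fun τ => ⟨_, h.al_mem (h.ze_os hE τ.2.1)⟩) ⟨hS,
      fun ρ => hl.z_eq (by simp [h.be_zero ρ.2.1]),
      fun i ρ => hl.z_eq (by simp [h.be_zero ρ.2.1]),
      fun ρ => hl.n_eq (by simp [h.be_zero ρ.2.1 h.tt]),
      fun i ρ => hl.n_eq (by simp [h.be_zero ρ.2.1 h.tt]),
      fun ρ => hl.Θ_eq (by simp [h.Th_be ρ.2.1 ρ.2.2, cfdot_cf1]),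
      fun k ρ => hl.Θ_eq (by simp [h.Th_be ρ.2.1 ρ.2.2, (m1 k).isIrr.cfdot_ne i (m0 k)]),
      fun k ρ => hl.B_eq (by
        rw [bb _ _ _ _ ρ.2.1 ρ.2.1 ρ.2.2 ρ.2.2, if_pos ⟨1, one_mem _, by simp, by simp⟩]; norm_num),
      fun k k' ρ ρ' => ?_, fun k k' ρ hk => hl.B_eq ?_, fun ρ => hl.B_eq ?_,
      fun k ρ ρ' => hl.B_eq (by
        rw [h.be_be i (m1 k).isIrr ρ.2.1 ρ'.2.1 ρ.2.2 ρ'.2.2, if_neg (n1 k),
          if_neg fun ⟨z, hz, e⟩ => n1 k ⟨z, hz, e.1⟩]; simp),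
      fun k ρ => (sy ..).trans (hl.B_eq ?_),
      fun k ρ => (sy ..).trans (hl.B_eq (by
        rw [ci k _ _ _ al_CF a1 ρ.2.1 ρ.2.2, al0 _ _ hE.osa]; norm_num)),
      fun k ρ => (sy ..).trans (hl.B_eq (by
        rw [ci k _ _ _ al_CF a2 ρ.2.1 ρ.2.2, al0 _ _ hE.osb]; norm_num)),
      fun k ρ => (sy ..).trans (hl.B_eq (by
        rw [ci k _ _ _ al_CF a3 ρ.2.1 ρ.2.2, al0 _ _ hE.ose]; norm_num)),
      fun ρ => (sy ..).trans (hl.B_eq (by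
        rw [c0 _ _ _ al_CF a1 ρ.2.1 ρ.2.2, al0 _ _ hE.osa]; norm_num)),
      fun ρ => (sy ..).trans (hl.B_eq (by
        rw [c0 _ _ _ al_CF a2 ρ.2.1 ρ.2.2, al0 _ _ hE.osb]; norm_num)),
      fun ρ => (sy ..).trans (hl.B_eq (by
        rw [c0 _ _ _ al_CF a3 ρ.2.1 ρ.2.2, al0 _ _ hE.ose]; norm_num)),
      fun ξ hξ k ρ => ?_, fun ξ k hξ hk => ?_,
      fun τ => hl.B_eq (by
        rw [h.al_al (h.ze_os hE τ.2.1) (h.ze_os hE τ.2.1), (h.cfdot_ze hE τ.2.1 τ.2.2).2.2.2]; simp),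
      fun τ k ρ => hl.B_eq (by
        rw [ci k _ 0 _ al_CF (fun x hx h1 => by
          rw [alt _ _ (h.ze_os hE τ.2.1) hx, h.ze_R hE hx h1, mul_zero]) ρ.2.1 ρ.2.2,
          al0 _ _ (h.ze_os hE τ.2.1)]; simp),
      fun τ ξ hξ => (sy ..).trans (hl.B_eq ?_), fun F f0 f1 f2 f3 f4 f5 => hl.n_eq ?_⟩
    h.toPar h7 ⟨ρ0, k1, k2⟩
  · by_cases e : ∃ z ∈ 𝐍(V c.t c.u), cfConjg z (m k) = m k' ∧ cfConjg z ρ.1 = ρ'.1
    · obtain ⟨z, hz, e1, e2⟩ := e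
      exact Or.inr (Subtype.ext (by simp only [← e1, ← e2, h.be_conj hz]))
    · exact Or.inl (hl.B_eq (by rw [bb _ _ _ _ ρ.2.1 ρ'.2.1 ρ.2.2 ρ'.2.2, if_neg e]; simp))
  · rw [bb _ _ _ _ ρ.2.1 ρ.2.1 ρ.2.2 ρ.2.2, if_neg]
    · simp
    rintro ⟨z, hz, e1, e2⟩
    rw [cent_inertia (m1 k).mem_CF (h.W_le_cv (h.inertia_R ρ.2.1 ρ.2.2 hz e2))] at e1
    exact hk (mne _ _ e1)
  · rw [h.be_be i i ρ.2.1 ρ.2.1 ρ.2.2 ρ.2.2, if_pos ⟨1, one_mem _, by simp⟩,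
      if_pos ⟨1, one_mem _, by simp, by simp⟩, cfProd_cf1 h.dprodW.compl,
      inf_eq_left.2 fun z hz => mem_inertia_cf1 (h.nv_W hz),
      ← relIndex_mul_relIndex _ _ _ h.W_le_cv (U4.cent_le_norm _), h.idxW, h.idx_cv hw]
    norm_num
  · rw [ci k _ 1 _ cf1_mem_CF (fun _ _ _ => cf1_apply (mem_top _)) ρ.2.1 ρ.2.2,
      cfdot_const (ρ.2.1.isLin_of_comm h.commR) ρ.2.2 fun _ _ _ => cf1_apply (mem_top _)]
    simp
  · have k1 := c0 _ _ _ (ZIrr_mem_CF ξ.2) (pp ξ hξ) ρ.2.1 ρ.2.2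
    have k2 := ci k _ _ _ (ZIrr_mem_CF ξ.2) (pp ξ hξ) ρ.2.1 ρ.2.2
    rw [sy, sy _ ξ]
    refine hl.B_eq ?_
    rw [Int.cast_add, ← hl.B, k1, k2]; ring
  · have k0 := pp ξ hξ
    generalize (_ + _ - _ : ℤ) = κ at k0 ⊢
    have k1 := (apply_of_cfdot h.commR (φ := ξ) (κ := (4 * k + κ : ℤ)) (fun ρ h1 h2 => by
      have k2 := ci 0 _ _ _ (ZIrr_mem_CF ξ.2) k0 h1 h2
      have k3 := hl.B ξ ⟨_, h.be_mem (m1 0).isIrr h1⟩
      rw [sy, hk ⟨ρ, h1, h2⟩, k2] at k3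
      rw [Int.cast_add, Int.cast_mul, ← k3, Int.cast_ofNat]
      ring) c.R.one_mem).2 rfl
    obtain ⟨n, hn⟩ := ZIrr_cfdot_int (ZIrr_cfRes le_top ξ.2) (cf1_mem_ZIrr (L := c.R))
    rw [cfdot_cfRes_left] at hn
    rw [hl.z, hn, h.cardR] at k1
    exact Int.natAbs_dvd.1 ⟨n - (4 * k + κ), Int.cast_injective (α := ℂ) (by
      rw [Int.cast_sub, k1, Int.cast_mul, Int.cast_natCast, Int.cast_sub]; ring)⟩
  · obtain ⟨k1, k2, k3, -⟩ := h.cfdot_ze hE τ.2.1 τ.2.2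
    rw [h.cfdot_al (ZIrr_mem_CF ξ.2) (h.ze_os hE τ.2.1), (h.ze_os hE τ.2.1).congr
      (φ := tr c.t ξ) (χ := -(cfdot ⊤ ξ (al c (cf1 c.L - a)) • a + cfdot ⊤ ξ (al c (cf1 c.L - b)) • b +
        cfdot ⊤ ξ (al c (cf1 c.L - e)) • e)) hξ]
    simp [cfdot_neg_left, cfdot_add_left, cfdot_smul_left, k1, k2, k3]
  · have hF := ZIrr_mem_CF F.2
    refine (h.fin hE hF (fun ρ h1 h2 => ?_) (by rw [← Int.cast_zero, ← f2, ← hl.B])
      (by rw [← Int.cast_zero, ← f3, ← hl.B]) (by rw [← Int.cast_zero, ← f4, ← hl.B])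
      fun τ h1 h2 => by rw [← Int.cast_zero, ← f5 ⟨τ, h1, h2⟩, sy, ← hl.B]).trans Int.cast_zero.symm
    have k0 := hl.B F ⟨_, h.be_mem i h1⟩
    have k := fun k => hl.B F ⟨_, h.be_mem (m1 k).isIrr h1⟩
    rw [sy, f0 ⟨ρ, h1, h2⟩, h.cfdot_be hF, v1, cf1_apply (t_mem_V _ _), cf1_apply (s_mem_V _ _),
      cf1_apply (mul_mem (t_mem_V _ _) (s_mem_V _ _))] at k0
    simp only [sy F, f1 _ ⟨ρ, h1, h2⟩, h.cfdot_be hF, (m1 _).one] at k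
    have k1 := k 0
    have k2 := k 1
    have k3 := k 2
    simp only [m3, m4, m5, map_neg, map_one] at k0 k1 k2 k3
    linear_combination k0 + k1 - k2 - k3

end CfsgLib.JR.RR
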