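import Cfsg.Agent.Lib.GD.Cnt
import Cfsg.Agent.Lib.GD.Quo

/-!
# Normalizers of subgroups of `C_P(s)`, `P = O_p(O(C(t)))`
-/

set_option autoImplicit false

namespace CfsgLib.GD

open Subgroup Cfsg CfsgLib.FT.BGN CfsgLib.FT.U4 CfsgLib.GW
open scoped commutatorElement

universe u

section general

variable {G : Type*} [Group G] [Finite G] {t s : G}

theorem pc_conj (p : ℕ) (g t : G) : pCoreOf p (Ut (g * t * g⁻¹)) = g •ᶜ pCoreOf p (Ut t) := by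
  rw [Ut_conj, H1.pCoreOf_map_conj]

theorem pc_le_U (p : ℕ) (t : G) : pCoreOf p (Ut t) ≤ Ut t := H1.pCoreOf_le _

theorem odd_pc (p : ℕ) (t : G) : Odd (Nat.card (pCoreOf p (Ut t))) :=
  odd_card_of_le (odd_Ut t) (pc_le_U p t)

theorem norm_inf_cent {H : Subgroup G} {e : G} (hH : H ≤ 𝐂[t]) (he : e ∈ 𝐍(H))
    (e2 : e * s * e⁻¹ = t * s) : e ∈ 𝐍(H ⊓ 𝐂[s]) := mem_normalizer_of_conj_mem fun b hb => by
  have h1 := conj_mem_of_mem_normalizer he hb.1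
  have h2 : e * b * e⁻¹ ∈ 𝐂[t * s] := by
    rw [← e2, cent1_conj]; exact conj_mem_map_conj hb.2
  refine ⟨h1, mem_cent1_comm.1 ?_⟩
  simpa using mul_mem (inv_mem (mem_cent1_comm.1 (hH h1))) (mem_cent1_comm.1 h2)

theorem DF.of_eq {L S : Subgroup G} {x y a : G} (h : DF L S x y t) (ha : a ∈ zpowers x)
    (hx : x ∈ zpowers a) : DF L S a y t := by
  have e : zpowers a = zpowers x := le_antisymm (zpowers_le.2 ha) (zpowers_le.2 hx)
  refine ⟨⟨h.syl, h.AS ha, h.yS, e ▸ h.yA, e ▸ h.cov, zpowers_le.2 ?_ h.zx, h.z1, ?_, h.yy⟩, h.ot⟩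
  · obtain ⟨i, rfl⟩ := hx
    exact ⟨i, (Commute.refl a).mul_zpow i⟩
  · rw [h.refl_inv h.yS h.yA a ha, inv_mul_cancel]
    exact one_mem _

theorem DF.two_mul_dvd {L S H : Subgroup G} {x y a : G} (h : DF L S x y t) (ha : a ∈ zpowers x)
    (h1 : a ∈ H) (h2 : y ∈ H) : 2 * orderOf a ∣ Nat.card H := by
  refine Dvd.dvd.trans ?_ (card_dvd_of_le (sup_le (zpowers_le.2 h2) (zpowers_le.2 h1)))
  rw [card_sup_of_disjoint (zpowers_le.2 (inverts_zpowers (h.refl_inv h.yS h.yA a ha)).mem_norm)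
    (eq_bot_of_forall fun g hg => ((mem_zpowers_inv h.four.os).1 hg.1).resolve_right
      fun e => h.yA (zpowers_le.2 ha (e ▸ hg.2))), card_zpowers_inv h.four.os, Nat.card_zpowers]

theorem pow_dvd_orderOf {a : G} (ha : IsPGroup 2 (zpowers a)) {k : ℕ} (h : a ^ 2 ^ k ≠ 1) :
    2 ^ (k + 1) ∣ orderOf a := by
  obtain ⟨n, hn⟩ := isPGroup_zpowers_iff.1 ha
  rw [hn]
  refine pow_dvd_pow 2 (by_contra fun e => h (orderOf_dvd_iff_pow_eq_one.1 ?_))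
  rw [hn]
  exact pow_dvd_pow 2 (by omega)

theorem DF.eight_dvd_of {L S H : Subgroup G} {x y e : G} (h : DF L S x y t) (he : e ∈ zpowers x)
    (e1 : e * e = t) (h1 : e ∈ H) (h2 : y ∈ H) : 8 ∣ Nat.card H :=
  (mul_dvd_mul_left 2 (pow_dvd_orderOf (k := 1) (h.pA.to_le (zpowers_le.2 he))
    (by simpa [sq, e1] using h.z1))).trans (h.two_mul_dvd he h1 h2)

theorem TL.comm {M L : Subgroup G} (h : TL M L) (hG : Dih G) (ht : t ∈ L) (hs : s ∈ L)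
    (h4 : Four t s) {b d : G} (hbM : b ∈ M) (hb : b ∈ Ut t ⊓ 𝐂[s]) (hd : d ∈ L ⊓ 𝐍(V t s)) :
    ⁅b, d⁆ ∈ Od M := by
  have h1 : ⁅b, d⁆ ∈ Ut t ⊓ 𝐂[s] := by
    simpa only [commutatorElement_def, mul_assoc] using
      mul_mem hb (conj_mem_of_mem_normalizer (hG.norm_le_norm_B h4 hd.2) (inv_mem hb))
  have h2 := h.inv t ht s (h.le hs) h4 ⁅b, d⁆ ⟨L.mul_mem (conj_mem_of_mem_normalizer (h.norm hbM) hd.1)
    (L.inv_mem hd.1), Ut_le t h1.1⟩ (odd_of_mem_Ut h1.1)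
  rw [conj_eq_of_mem_cent1 (mem_cent1_comm.1 h1.2)] at h2
  exact zpowers_le.2 h2 (mem_zpowers_sq (odd_of_mem_Ut h1.1))

theorem mem_fit_of_cent {u : G} (hu : u ∈ Ut t) (h : u ∈ 𝐂(fittingOf (Ut t))) :
    u ∈ fittingOf (Ut t) := FT.cent_sub_Fitting (solvable_Ut t) ⟨hu, h⟩

theorem mem_pc_of_fit {q : ℕ} [Fact q.Prime] {u : G} (hu : u ∈ fittingOf (Ut t))
    (h : IsPGroup q (zpowers u)) : u ∈ pCoreOf q (Ut t) :=
  H1.le_pCoreOf_of_le_fittingOf (zpowers_le.2 hu) h (mem_zpowers u)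

theorem pg_of_mem {q : ℕ} {Q : Subgroup G} (hQ : IsPGroup q Q) {u : G} (hu : u ∈ Q) :
    IsPGroup q (zpowers u) := hQ.to_le (zpowers_le.2 hu)

theorem le_of_swap {q : ℕ} {d : G} (e1 : d * t * d⁻¹ = s) (e2 : d * s * d⁻¹ = t)
    (h : pCoreOf q (Ut t) ≤ 𝐂[s]) : pCoreOf q (Ut s) ≤ 𝐂[t] := by
  rw [← e1, pc_conj]
  nth_rewrite 2 [← e2]
  rw [cent1_conj]
  exact map_mono h

end general

variable {G : Type u} [Group G] [Finite G]

/-- `C(t)` is a maximal subgroup. -/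
structure Cx (t : G) : Prop where
  hyp : Hyp G
  ot : orderOf t = 2
  max : IsCoatom 𝐂[t]

namespace Cx

variable {t s : G} (h : Cx t)
include h

omit [Finite G] in
theorem dih : Dih G := h.hyp.dih

omit [Finite G] in
theorem simp : Simp G := h.hyp.toSimp

theorem norm_eq {X : Subgroup G} (h0 : X ≠ ⊥) (h1 : X ≤ Ut t) (h2 : 𝐂[t] ≤ 𝐍(X)) :
    𝐍(X) = 𝐂[t] := h.simp.norm_eq h.max h0 (h1.trans (Ut_le t)) h2

theorem cent_le {X : Subgroup G} (h0 : X ≠ ⊥) (h1 : X ≤ Ut t) (h2 : 𝐂[t] ≤ 𝐍(X)) :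
    𝐂(X) ≤ 𝐂[t] := (cent_le_norm X).trans (h.norm_eq h0 h1 h2).le

theorem of_inv (hs : orderOf s = 2) : Cx s := by
  obtain ⟨g, rfl⟩ := h.simp.exists_conj h.ot hs
  exact ⟨h.hyp, hs, cent1_conj g t ▸ ((MulAut.conj g).mapSubgroup.isCoatom_iff _).mpr h.max⟩

theorem nt1 (h4 : Four t s) {e : G} (he : e ∈ 𝐂[t]) (e1 : e * e = t) (e2 : e * s * e⁻¹ = t * s)
    {q : ℕ} [Fact q.Prime] (hq : pCoreOf q (Ut t) ≤ 𝐂[s]) (hq' : pCoreOf q (Ut t) ≤ 𝐂[e * s])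
    (hF : ⁅Ut t, zpowers (e * s)⁆ ≤ 𝐂(fittingOf (Ut t))) : pCoreOf q (Ut t) = ⊥ := by
  by_contra hne
  obtain ⟨d, -, d1, d2⟩ := h.simp.exists_swap h4
  have h1 : pCoreOf q (Ut s) ≤ Ut t ⊓ 𝐂[s] :=
    h.dih.B_symm h4 ▸ le_inf (pc_le_U q s) (le_of_swap d1 d2 hq)
  have h2 : pCoreOf q (Ut s) ≤ pCoreOf q (Ut t ⊓ 𝐂[s]) := H1.le_pCoreOf h1
    (inf_le_right.trans (cent_le_norm_pc s q)) (H1.pCoreOf_isPGroup _)
  have h3 := H1.normalizer_le_normalizer_pCoreOf (p := q) _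
    (norm_inf_cent (Ut_le t) (cent_le_norm_Ut t he) e2)
  have h5 : e ∈ 𝐂(pCoreOf q (Ut s)) := mem_cent.2 fun w hw => by
    have h6 := comm_mem h3 (h2 hw)
    have h7 : w * e * w⁻¹ * e⁻¹ = ⁅w, e * s⁆ := by
      rw [commutatorElement_def, show w * (e * s) * w⁻¹ * (e * s)⁻¹ =
        w * e * (s * w⁻¹ * s⁻¹) * e⁻¹ by group,
        conj_eq_of_mem_cent1 (mem_cent1_comm.1 (inv_mem (h1 hw).2))]
    have h8 := mem_pc_of_fit (mem_fit_of_cent (H1.pCoreOf_le _ h6).1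
      (hF (h7 ▸ commutator_mem_commutator (h1 hw).1 (mem_zpowers _))))
      (pg_of_mem (H1.pCoreOf_isPGroup _) h6)
    have h9 : e ∈ 𝐂[w * e * w⁻¹ * e⁻¹] := by
      simpa using mul_mem (mem_cent1_comm.1 (hq' h8)) (inv_mem (mem_cent1_comm.1 (hq h8)))
    have h10 := conj_eq_of_mem_cent1 (mem_cent1_comm.1 (inv_mem (Ut_le t (h1 hw).1)))
    have h11 := eq_one_of_odd_of_mul_self (odd_of_mem_Ut (pc_le_U q t h8)) (by
      nth_rewrite 2 [← conj_eq_of_mem_cent1 h9]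
      rw [show w * e * w⁻¹ * e⁻¹ * (e * (w * e * w⁻¹ * e⁻¹) * e⁻¹) =
        w * (e * e * w⁻¹ * (e * e)⁻¹) by group, e1, h10, mul_inv_cancel])
    rwa [mul_inv_eq_one, mul_inv_eq_iff_eq_mul] at h11
  have h6 := (h.of_inv h4.os).cent_le (by rwa [← d1, pc_conj, Ne, conj_eq_bot_iff]) (pc_le_U q s)
    (cent_le_norm_pc s q) h5
  rw [conj_eq_of_mem_cent1 h6] at e2
  exact h4.t1 (by simpa using e2)

end Cx

/-- `s` neither centralizes nor inverts `O_p(U)`. -/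
structure T3 (t s : G) (p : ℕ) : Prop extends Cx t where
  four : Four t s
  A : pCoreOf p (Ut t) ⊓ 𝐂[s] ≠ ⊥
  P : ¬ pCoreOf p (Ut t) ≤ 𝐂[s]

namespace T3

variable {t s : G} {p : ℕ} [hp : Fact p.Prime] (h : T3 t s p)
include h

omit hp in
theorem conj {n : G} (hn : n ∈ 𝐂[t]) : T3 t (n * s * n⁻¹) p := by
  have e := map_conj_eq_of_mem_normalizer (cent_le_norm_pc t p hn)
  refine ⟨h.toCx, four_conj h.four hn, ?_, ?_⟩ <;> rw [← e, cent1_conj]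
  · rw [← map_conj_inf, Ne, conj_eq_bot_iff]
    exact h.A
  · rw [conj_le_conj_iff]
    exact h.P

omit hp [Finite G] in
theorem P_ne : pCoreOf p (Ut t) ≠ ⊥ := fun e => h.P (e.le.trans bot_le)

theorem p2 : p ≠ 2 := ne_two_of_pc h.P_ne

theorem exists_j : ∃ j ∈ pCoreOf p (Ut t) ⊓ 𝐂(pCoreOf p (Ut t) ⊓ 𝐂[s]), j ≠ 1 ∧
    s * j * s⁻¹ = j⁻¹ := by
  have hs := cent_le_norm_pc t p h.four.s_cent
  refine exists_inverted h.four.ss (odd_card_of_le (odd_pc p t) inf_le_left)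
    (mem_norm_inf hs (norm_le_norm_cent _ (mem_norm_inf hs (mem_norm_cent1 (self_mem_cent1 s)))))
    fun hle => h.P ?_
  have h1 := Cop.commutator_eq_bot_of_nilpotent_of_centralizer_le (A := zpowers s)
    (zpowers_le.2 hs) (coprime_zpowers_inv h.four.os (odd_pc p t))
    (H1.pCoreOf_isPGroup (p := p) (Ut t)).isNilpotent (inf_le_left (b := 𝐂[s]))
    (commutator_eq_bot_iff_le_centralizer.2 (by rw [cent_zpowers]; exact inf_le_right))
    (le_inf inf_le_left hle)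
  rwa [commutator_eq_bot_iff_le_centralizer, cent_zpowers] at h1

theorem exists_i {X : Subgroup G} (hX : X ≤ pCoreOf p (Ut t) ⊓ 𝐂[s]) :
    ∃ i ∈ pCoreOf p (Ut s) ⊓ 𝐂(X), i ≠ 1 ∧ t * i * t⁻¹ = i⁻¹ := by
  have h4 := h.four
  have hXB : X ≤ Ut s ⊓ 𝐂[t] := h.dih.B_symm h4 ▸ hX.trans (inf_le_inf_right _ (H1.pCoreOf_le _))
  have ht := cent_le_norm_pc s p h4.symm.s_cent
  have htX : t ∈ 𝐂(X) := mem_cent.2 fun x hx => mem_cent1.1 (hXB hx).2
  refine exists_inverted h4.tt (odd_card_of_le (odd_Ut s) (inf_le_left.trans (H1.pCoreOf_le _)))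
    (mem_norm_inf ht (norm_le_norm_cent X (cent_le_norm X htX))) fun hle => h.P ?_
  have h1 := Cop.commutator_eq_bot_of_pxq ((H1.pCoreOf_isPGroup _).to_le (hX.trans inf_le_left))
    (H1.pCoreOf_isPGroup (Ut s)) (Q := zpowers t)
    (coprime_zpowers_inv h4.ot (hp.1.odd_of_ne_two h.p2))
    ((hXB.trans inf_le_left).trans (H1.le_normalizer_pCoreOf _)) (zpowers_le.2 ht)
    (commutator_eq_bot_iff_le_centralizer.2 (by rw [cent_zpowers]; exact hXB.trans inf_le_right))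
    (by rwa [cent_zpowers])
  rw [commutator_eq_bot_iff_le_centralizer, cent_zpowers] at h1
  obtain ⟨d, -, d1, d2⟩ := h.simp.exists_swap h4
  exact le_of_swap d2 d1 h1

variable {X : Subgroup G} (h0 : X ≠ ⊥) (hX : X ≤ pCoreOf p (Ut t) ⊓ 𝐂[s])
include hX

omit h hp in
theorem le_Od' : X ≤ Od 𝐍(X) :=
  le_Od le_normalizer le_rfl (odd_card_of_le (odd_pc p t) (hX.trans inf_le_left))

theorem pc_le_cent {q : ℕ} [Fact q.Prime] (hq : pCoreOf q (Ut t) ≠ ⊥) :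
    pCoreOf q 𝐍(X) ≤ 𝐂[t] := by
  have hZ : LD.Zp q (Ut t) ≤ Ut t := inf_le_left.trans (H1.pCoreOf_le _)
  have hn := H1.le_normalizer_pCoreOf (p := q) 𝐍(X)
  have h1 := Cop.commutator_eq_bot_of_pxq (P := LD.Zp q (Ut t))
    ((H1.pCoreOf_isPGroup _).to_le inf_le_left) (H1.pCoreOf_isPGroup 𝐍(X)) (Q := zpowers t)
    (coprime_zpowers_inv h.four.ot ((Fact.out : q.Prime).odd_of_ne_two (ne_two_of_pc hq)))
    ((((LD.Zp_le_cent q _).trans (centralizer_le (GW.T3.le_fit hX))).trans (cent_le_norm X)).trans hn)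
    (zpowers_le.2 (hn (cent_le_norm X (GW.T3.V_le_cent hX (t_mem_V t s)))))
    (commutator_eq_bot_iff_le_centralizer.2 (by rw [cent_zpowers]; exact hZ.trans (Ut_le t)))
    (by
      rw [cent_zpowers]
      exact inf_le_right.trans (h.cent_le (LD.Zp_ne_bot hq) hZ
        (Cop.le_normalizer_inf_centralizer (cent_le_norm_pc t q) (cent_le_norm_pc t q))))
  rwa [commutator_eq_bot_iff_le_centralizer, cent_zpowers] at h1

include h0

theorem ne_top : 𝐍(X) ≠ ⊤ := h.simp.norm_ne_top' h0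
  (isSolvable_of_le (solvable_Ut t) ((hX.trans inf_le_left).trans (H1.pCoreOf_le _)))

theorem typeE : ∃ L, TL 𝐍(X) L ∨ TA 𝐍(X) L := by
  refine (dichotomy h.hyp (h.ne_top h0 hX)).resolve_left fun hC => ?_
  have hV := (GW.T3.V_le_cent hX).trans (cent_le_norm X)
  have ht := hV (t_mem_V t s)
  obtain ⟨i, hi, hi1, e⟩ := h.exists_i hX
  have ho := odd_of_mem_Ut (H1.pCoreOf_le _ hi.1)
  have hiM := cent_le_norm X hi.2
  have h1 : zpowers i ≤ 𝐂(fittingOf 𝐍(X)) := LD.le_cent_fit fun q hq => zpowers_le.2 <| by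
    have hn := H1.le_normalizer_pCoreOf (p := q) 𝐍(X)
    by_cases h2 : q = 2
    · subst h2
      exact h.dih.mem_cent (H1.pCoreOf_isPGroup _) (hn hiM) ho h.four.os (hn (hV (s_mem_V t s)))
        (Ut_le s (pc_le_U p s hi.1))
    refine comm_le_cent_of h.four.tt hn ?_ (mem_commutator_of_inverted ho e hiM)
    by_cases h3 : pCoreOf q (Ut t) = ⊥
    · refine Or.inr (LD.inverts_pc h.four.ot ht (le_bot_iff.1 ?_)).1
      rw [← GW.T3.pc_inf hX h3]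
      exact le_inf inf_le_left (h.dih.le_Ut h.four.ot inf_le_right (odd_card_of_isPGroup hq.1 h2
        ((H1.pCoreOf_isPGroup _).to_le inf_le_left)))
    · exact Or.inl (h.pc_le_cent hX h3)
  have h3 := H1.le_pCoreOf_of_le_fittingOf ((le_inf (zpowers_le.2 hiM) h1).trans hC)
    ((H1.pCoreOf_isPGroup _).to_le (zpowers_le.2 hi.1)) (mem_zpowers i)
  exact hi1 (eq_one_of_inv_of_comm ho e (mem_cent1.1 (h.pc_le_cent hX h.P_ne h3)))

omit h0 hX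

theorem not_ta {L : Subgroup G} (hL : TA 𝐍(pCoreOf p (Ut t) ⊓ 𝐂[s]) L) : False := by
  set D := pCoreOf p (Ut t) ⊓ 𝐂[s] with hD
  have h4 := h.four
  obtain ⟨S, x, hS⟩ := h.simp.exists_frame h4
  obtain ⟨e, he, e1, e2⟩ := hS.exists_e
  have hnP := (hS.AS.trans hS.S_le).trans (cent_le_norm_pc t p)
  have heM : e ∈ 𝐍(D) := norm_inf_cent ((pc_le_U p t).trans (Ut_le t)) (hnP he) e2
  have hV := (GW.T3.V_le_cent (le_refl D)).trans (cent_le_norm D)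
  have hsM := hV (s_mem_V t s)
  obtain ⟨j, hj, j1, ej⟩ := h.exists_j
  have hjU := pc_le_U p t hj.1
  have hjL := mem_of_inverted (odd_of_mem_Ut hjU) ej (hL.inv_mem s hsM h4.os)
    (hL.norm (cent_le_norm _ hj.2))
  have hjs : j ∉ 𝐂[s] := fun e => j1 (eq_one_of_inv_of_comm (odd_of_mem_Ut hjU) ej (mem_cent1.1 e))
  obtain ⟨s₀, hs₀, h₀, hfix⟩ := hL.fix t (hL.inv_mem t (hV (t_mem_V t s)) h4.ot) h4.ot
  have hle : S ⊓ 𝐍(D) ≤ 𝐍(D) ⊓ 𝐂[t] := le_inf inf_le_right (inf_le_left.trans hS.S_le)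
  obtain ⟨n, hn, h1⟩ := (show IsSylowIn 2 (S ⊓ 𝐍(D)) (𝐍(D) ⊓ 𝐂[t]) from
    ⟨hle, hS.syl.isPGroup.to_le inf_le_left, fun h2 => hL.not16 (Dvd.dvd.trans (by
      rw [← card_mul_relIndex hle]
      exact mul_dvd_mul (hS.eight_dvd_of he e1 (mem_inf.2 ⟨hS.AS he, heM⟩) (mem_inf.2 ⟨hS.yS, hsM⟩)) h2)
      (card_dvd_of_le inf_le_left))⟩).exists_conj_le
    (isPGroup_zpowers_inv h₀.os) (zpowers_le.2 ⟨hL.le hs₀, h₀.s_cent⟩)
  have h2 := h1 (conj_mem_map_conj (mem_zpowers s₀))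
  have h3 := four_conj h₀ hn.2
  have h5 := conj_mem_of_mem_normalizer (hL.norm hn.1) hs₀
  have h6 : ∀ w ∈ L, w ∈ Ut t → w ∈ 𝐂[n * s₀ * n⁻¹] := fun w hw hw' => by
    have := conj_mem_of_mem_normalizer' (cent_le_norm_Ut t hn.2) hw'
    rw [cent1_conj, mem_map_conj_iff]
    exact hfix _ ⟨conj_mem_of_mem_normalizer' (hL.norm hn.1) hw, Ut_le t this⟩ (odd_of_mem_Ut this)
  obtain ⟨a, ha, ea⟩ := hS.toFr.exists_mul h2.1 (hS.notMem_A h3)
  rw [ea] at h2 h3 h5 h6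
  rcases SW.mem_zpowers_or hS.pA ha he with h7 | h7
  swap
  · rw [e1] at h7
    refine hjs (mem_cent1_comm.1 ?_)
    simpa using mul_mem (inv_mem (zpowers_le.2 (mem_cent1_comm.1 (Ut_le t hjU)) h7))
      (mem_cent1_comm.1 (h6 j hjL hjU))
  rcases SW.mem_zpowers_or hS.pA ha (mem_zpowers x) with h8 | h8
  · have h9 := (h.simp.of_lt (hS.of_eq ha h8).swap (by
      rw [inv_mul_cancel_left]
      refine lt_of_le_of_ne (fun b hb => ⟨hb.1, ?_⟩) fun e => hjs (e.ge ⟨hjU, h6 j hjL hjU⟩).2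
      have h10 := comm_mem (cent_le_norm_Ut t h3.s_cent) hb.1
      have h11 := eq_one_of_inv_of_comm (odd_of_mem_Ut h10) (inv_comm h3.ss) (mem_cent1.1 (h6 _
        (mul_mem (conj_mem_of_mem_normalizer (hL.norm (mem_norm_inf (H1.le_normalizer_pCoreOf _ hb.1)
          (mem_norm_cent1 hb.2))) h5) (inv_mem h5)) h10))
      exact mem_cent1_of_conj_eq (mul_inv_eq_one.1 h11))).2.1
    rw [inv_mul_cancel_left] at h9
    exact h.A (le_bot_iff.1 (h9 ▸ inf_le_inf_right _ (pc_le_U p t)))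
  · obtain ⟨b, hb, eb⟩ := hS.exists_conj_sq hS.yS hS.yA h8
    have h9 : D ≤ b •ᶜ D := by
      rw [hD, map_conj_inf, map_conj_eq_of_mem_normalizer (hnP hb), ← cent1_conj, eb]
      exact le_inf inf_le_left ((le_Od' le_rfl).trans
        ((le_centralizer_iff.1 hL.cent).trans (cent_le_cent1 h5)))
    have h10 : b ∈ 𝐍(D) :=
      mem_normalizer_of_map_conj_eq (eq_of_le_of_card_ge h9 (card_map_conj b D).le).symm
    rw [conj_eq_of_sqrt rfl (hS.refl_inv hS.yS hS.yA b hb), mul_left_inj] at eb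
    refine hL.not16 ((mul_dvd_mul_left 2 (pow_dvd_orderOf (k := 2) (hS.pA.to_le (zpowers_le.2 hb))
      fun e => hS.z1 ?_)).trans (hS.two_mul_dvd hb h10 hsM))
    obtain ⟨i, rfl⟩ := h7
    rw [← e1, ← eb]
    simp only
    rw [← (Commute.refl _).mul_zpow, show b * b * (b * b) = b ^ 2 ^ 2 by simp [pow_succ, mul_assoc], e, one_zpow]

theorem tl0 : ∃ L, TL 𝐍(pCoreOf p (Ut t) ⊓ 𝐂[s]) L ∧ t ∈ L ∧ s ∈ L := by
  obtain ⟨L, hL | hL⟩ := h.typeE h.A le_rfl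
  swap
  · exact (h.not_ta hL).elim
  obtain ⟨e, he, e1, e2, -⟩ := h.simp.exists_e h.four
  have ht : t ∈ L := e1 ▸ hL.toTE.mul_self_mem h.dih (norm_inf_cent ((pc_le_U p t).trans (Ut_le t))
    (cent_le_norm_pc t p he) e2) (isPGroup_zpowers_iff.2 (by
      have : orderOf e ∣ 2 ^ 2 := orderOf_dvd_of_pow_eq_one (by
        rw [show e ^ 2 ^ 2 = e * e * (e * e) by simp [pow_succ, mul_assoc], e1, h.four.tt])
      obtain ⟨k, -, hk⟩ := (Nat.dvd_prime_pow Nat.prime_two).1 this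
      exact ⟨k, hk⟩))
  refine ⟨L, hL, ht, by_contra fun hs => hL.toTE.not_le_cent h.dih h.ot ?_⟩
  obtain ⟨i, hi, hi1, ei⟩ := h.exists_i le_rfl
  have hiU := pc_le_U p s hi.1
  have key := hL.out t ht s (cent_le_norm _ (GW.T3.V_le_cent le_rfl (s_mem_V t s))) hs h.four p hp.1
    h.p2 i ⟨mem_of_inverted (odd_of_mem_Ut hiU) ei ht (hL.norm (cent_le_norm _ hi.2)), Ut_le s hiU⟩
    (pg_of_mem (H1.pCoreOf_isPGroup _) hi.1) fun e =>
      hi1 (eq_one_of_inv_of_comm (odd_of_mem_Ut hiU) ei (mem_cent.1 (hL.cent ht) i e))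
  have hZ : LD.Zp p (Ut t) ≤ Ut t := inf_le_left.trans (H1.pCoreOf_le _)
  have hn : 𝐂[t] ≤ 𝐍(LD.Zp p (Ut t)) :=
    Cop.le_normalizer_inf_centralizer (cent_le_norm_pc t p) (cent_le_norm_pc t p)
  refine hL.cent.trans ((centralizer_le fun g hg => ?_).trans (h.cent_le (LD.Zp_ne_bot h.P_ne) hZ hn))
  obtain ⟨c, hc, j, hj, ej, rfl⟩ := exists_cent_mul_inv h.four.ss (odd_card_of_le (odd_Ut t) hZ)
    (hn h.four.s_cent) hg
  exact mul_mem (le_Od' le_rfl ⟨hc.1.1, hc.2⟩) (key j ⟨cent_le_norm _ (centralizer_le inf_le_left hj.2),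
    Ut_le t (hZ hj)⟩ (pg_of_mem (H1.pCoreOf_isPGroup _) hj.1) ej)

/-- `s` centralizes no `O_q(U) ≠ 1`. -/
theorem no_one {q : ℕ} [Fact q.Prime] (hq : pCoreOf q (Ut t) ≤ 𝐂[s]) : pCoreOf q (Ut t) = ⊥ := by
  by_contra hne
  have hqp : q ≠ p := by
    rintro rfl
    exact h.P hq
  obtain ⟨L, hL, ht, hs⟩ := h.tl0
  obtain ⟨i, hi, hi1, e⟩ := h.exists_i le_rfl
  have ho := odd_of_mem_Ut (H1.pCoreOf_le _ hi.1)
  have hiL := mem_of_inverted ho e ht (hL.norm (cent_le_norm _ hi.2))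
  obtain ⟨d, hd, e'⟩ := h.dih.exists_norm_conj h.four (hL.toTE.one h.dih) (V_le ht hs)
  refine hi1 (eq_one_of_inv_of_comm ho e (mem_cent1.1 (h.cent_le hne (H1.pCoreOf_le _)
    (cent_le_norm_pc t q) (mem_cent.2 fun b hb => ?_))))
  have hbU := H1.pCoreOf_le _ hb
  have h1 := hL.comm h.dih ht hs h.four (cent_le_norm _ (centralizer_le inf_le_left
    (LD.pc_le_cent hqp _ hb))) ⟨hbU, hq hb⟩ hd
  have h2 : d * b * d⁻¹ ∈ pCoreOf q (Ut s) := by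
    rw [← e', pc_conj]
    exact conj_mem_map_conj hb
  have h3 := mem_cent.1 (hL.cent hiL) _ h1
  have h4 := mem_cent.1 (LD.pc_le_cent hqp.symm _ hi.1) _ h2
  rw [show b = ⁅b, d⁆ * (d * b * d⁻¹) by simp only [commutatorElement_def]; group, mul_assoc, h4,
    ← mul_assoc, h3, mul_assoc]

include hX in
theorem zbot {L : Subgroup G} (hL : TL 𝐍(X) L) (ht : t ∈ L) (hs : s ∈ L) : L ⊓ Od 𝐍(X) = ⊥ := by
  by_contra hne
  obtain ⟨r, hr, hd⟩ := exists_prime_dvd_card hne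
  have : Fact r.Prime := ⟨hr⟩
  have hZc : L ⊓ Od 𝐍(X) ≤ 𝐂(L) := inf_le_right.trans (le_centralizer_iff.1 hL.cent)
  have hZo := odd_card_of_le (odd_Od 𝐍(X)) (inf_le_right (a := L))
  have hr1 : pCoreOf r (Ut t) ≠ ⊥ := fun e => by
    obtain ⟨Y, hY, hYr⟩ := exists_card_prime hr hd
    refine ne_bot_of_card_prime (hYr ▸ hr) (le_bot_iff.1 (GW.T3.pc_inf hX e ▸ le_inf
      (H1.le_pCoreOf_of_le_fittingOf (hY.trans (FT.U4.le_fit (inf_le_right.trans (Od_le _))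
        (H1.le_normalizer_inf hL.norm (le_norm_Od _)) (isNilpotent_of_comm
          (isMulCommutative_of_le_cent (hZc.trans (centralizer_le inf_le_left))))))
        (isPGroup_of_card_eq hYr))
      (hY.trans (h.dih.le_Ut h.four.ot (hZc.trans (cent_le_cent1 ht)) hZo))))
  have hr2 := ne_two_of_pc hr1
  by_cases hrp : r = p
  · subst hrp
    obtain ⟨i, hi, hi1, e⟩ := h.exists_i hX
    have hiU := H1.pCoreOf_le _ hi.1
    exact hL.zb s hs t ht h.four.symm r hr hr2 i ⟨mem_of_inverted (odd_of_mem_Ut hiU) e ht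
      (hL.norm (cent_le_norm _ hi.2)), Ut_le s hiU⟩ hi1 (pg_of_mem (H1.pCoreOf_isPGroup _) hi.1) e hd
  · obtain ⟨i, hi, hi1, e⟩ := exists_inverted h.four.ss
      (odd_card_of_le (odd_Ut t) (H1.pCoreOf_le _)) (cent_le_norm_pc t r h.four.s_cent)
      fun hle => hr1 (h.no_one hle)
    have hiU := H1.pCoreOf_le _ hi
    exact hL.zb t ht s hs h.four r hr hr2 i ⟨mem_of_inverted (odd_of_mem_Ut hiU) e hs
      (hL.norm (cent_le_norm _ (centralizer_le (hX.trans inf_le_left)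
        (LD.pc_le_cent hrp _ hi)))), Ut_le t hiU⟩ hi1 (pg_of_mem (H1.pCoreOf_isPGroup _) hi) e hd

include hX in
theorem ed_of_tl {L : Subgroup G} (hL : TL 𝐍(X) L) (ht : t ∈ L) (hs : s ∈ L) :
    ∃ k, ED X L t s k :=
  let ⟨k, hk⟩ := hL.tor (h.zbot hX hL ht hs) t ht h.ot
  ⟨k, h.four, hL.toTE, hL.cent.trans (centralizer_le (le_Od' hX)), ht, hs, hk⟩

include hX in
theorem two_mul_le {L : Subgroup G} {k : G} (hE : ED X L t s k) :
    p ∣ orderOf k ∧ 2 * p ≤ orderOf k ∧ 6 ≤ orderOf k := by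
  obtain ⟨j, hj, j1, ej⟩ := h.exists_j
  obtain ⟨n, hn⟩ := isPGroup_zpowers_iff.1 (pg_of_mem (H1.pCoreOf_isPGroup _) hj.1)
  have h1 := orderOf_dvd_of_mem_zpowers
    (hE.mem_k (pc_le_U p t hj.1) (cent_le_norm _ (centralizer_le hX hj.2)) ej)
  have h2 : p ∣ orderOf k := (dvd_pow_self p fun e => j1 (orderOf_eq_one_iff.1 (by
    rw [hn, e, pow_zero]))).trans (hn ▸ h1)
  have h3 := hE.tor.two_mul_le h.ot (hp.1.odd_of_ne_two h.p2) h2
  have := hp.1.two_le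
  have := h.p2
  exact ⟨h2, h3, by omega⟩

include h0 hX in
theorem exists_ed : ∃ L k, ED X L t s k := by
  obtain ⟨L₀, hL₀, ht, hs⟩ := h.tl0
  obtain ⟨k₀, hE⟩ := h.ed_of_tl le_rfl hL₀ ht hs
  have hle : L₀ ≤ 𝐍(X) := (hE.cent.trans (centralizer_le hX)).trans (cent_le_norm X)
  obtain ⟨L, hL | hL⟩ := h.typeE h0 hX
  · have h1 := hL.toTE.le_of_perf h.dih hle hL₀.perf
    exact ⟨L, h.ed_of_tl hX hL (h1 ht) (h1 hs)⟩
  exfalso
  have h1 := hL.toTE.le_of_perf h.dih hle hL₀.perf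
  have h2 : L₀ ⊓ (L ⊓ Od 𝐍(X)) = ⊥ := eq_bot_of_forall fun z hz => by
    have h3 := le_centralizer_iff.1 hL.cent hz.2.2
    have ho := odd_of_mem_Od hz.2.2
    exact eq_one_of_inv_of_comm ho (hE.inverts z (hE.tor.mem_of_odd hz.1 (cent_le_cent1 (h1 ht) h3)
      ho)) (mem_cent1.1 (cent_le_cent1 (h1 hs) h3))
  have h3 := card_dvd_of_le (sup_le h1 (inf_le_left (b := Od 𝐍(X))))
  rw [card_sup_of_disjoint (hle.trans (H1.le_normalizer_inf hL.norm (le_norm_Od _))) h2, hL.card,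
    Nat.mul_dvd_mul_iff_right Nat.card_pos, ← card_inf_mul_relIndex 𝐂[t], inf_comm,
    hE.tor.card] at h3
  obtain ⟨h4, -, h5⟩ := h.two_mul_le le_rfl hE
  have h6 := hE.tor.index_ge
  obtain ⟨ε, hε, e⟩ := hE.tor.index
  have h7 := hE.tor.two_dvd h.ot
  have h8 := Nat.le_of_dvd (by norm_num) h3
  have h9 := h.p2
  generalize orderOf k₀ = κ at *
  generalize (𝐂[t]).relIndex L₀ = I at *
  have h10 : κ < 10 := by
    by_contra h10
    obtain ⟨w, rfl⟩ : ∃ w, κ = w + 10 := ⟨κ - 10, by omega⟩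
    rw [show 2 * (w + 10) - 1 = 2 * w + 19 by omega, show w + 10 - 1 = w + 9 by omega] at h6
    nlinarith
  have h11 : κ ≠ 8 := fun e => h9 ((Nat.prime_dvd_prime_iff_eq hp.1 Nat.prime_two).1
    (hp.1.dvd_of_dvd_pow (n := 3) (by rw [e] at h4; exact h4)))
  obtain rfl : κ = 6 := by omega
  rcases hε with rfl | rfl
  · obtain rfl : I = 91 := by omega
    omega
  · obtain rfl : I = 55 := by omega
    omega

theorem fusion : ∃ d ∈ 𝐂(Ut t ⊓ 𝐂[s]), d * t * d⁻¹ = s := by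
  obtain ⟨L, hL, ht, hs⟩ := h.tl0
  obtain ⟨d, hd, e⟩ := h.dih.exists_norm_conj h.four (hL.toTE.one h.dih) (V_le ht hs)
  refine ⟨d, mem_cent.2 fun b hb => commutatorElement_eq_one_iff_mul_comm.1 ?_, e⟩
  have h1 := mem_norm_inf (H1.le_normalizer_pCoreOf (p := p) _ hb.1) (mem_norm_cent1 hb.2)
  exact eq_one_of_mem_inf (h.zbot le_rfl hL ht hs)
    (mul_mem (conj_mem_of_mem_normalizer (hL.norm h1) hd.1) (inv_mem hd.1))
    (hL.comm h.dih ht hs h.four h1 hb hd)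

include h0 hX in
theorem not_le_norm : ¬ 𝐂[t] ≤ 𝐍(X) := by
  obtain ⟨L, k, hE⟩ := h.exists_ed h0 hX
  exact hE.not_le_norm h.simp h.max h0
    ((hX.trans inf_le_left).trans ((H1.pCoreOf_le _).trans (Ut_le t)))

include h0 hX in
/-- Elements of order `p` inverted by `s` and centralizing `X` generate the same subgroup. -/
theorem mem_c {x c : G}
    (hx : x ∈ Ut t) (hc : c ∈ Ut t) (hxn : x ∈ 𝐂(X)) (hcn : c ∈ 𝐂(X)) (ex : s * x * s⁻¹ = x⁻¹)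
    (ec : s * c * s⁻¹ = c⁻¹) (ho : x ^ orderOf c = 1) : x ∈ zpowers c := by
  obtain ⟨L, k, hE⟩ := h.exists_ed h0 hX
  exact hE.mem_c hx hc (cent_le_norm X hxn) (cent_le_norm X hcn) ex ec ho

theorem of_ne_bot {q : ℕ} [Fact q.Prime] (hq : pCoreOf q (Ut t) ⊓ 𝐂[s] ≠ ⊥) : T3 t s q :=
  ⟨h.toCx, h.four, hq, fun e => hq (by rw [h.no_one e, bot_inf_eq])⟩

theorem not_cyclic : ¬ IsCyclic (pCoreOf p (Ut t)) := fun hc => by
  obtain ⟨j, hj, j1, ej⟩ := h.exists_j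
  obtain ⟨a, ha, a1⟩ := exists_ne_one h.A
  rcases FT.le_total_of_cyclic_pgroup hc (H1.pCoreOf_isPGroup _) (zpowers_le.2 hj.1)
    (zpowers_le.2 ha.1) with e | e
  · exact j1 (eq_one_of_inv_of_comm (odd_of_mem_Ut (pc_le_U p t hj.1)) ej
      (mem_cent1.1 (zpowers_le.2 ha.2 (e (mem_zpowers j)))))
  · exact a1 (eq_one_of_inv_of_comm (odd_of_mem_Ut (pc_le_U p t ha.1))
      (inverts_zpowers ej a (e (mem_zpowers a))) (mem_cent1.1 ha.2))

end T3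

end CfsgLib.GD
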