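import Cfsg.Agent.Lib.GD.CaseB
import Cfsg.Agent.Lib.GD.Mix

/-!
# All reflections act nontrivially on both eigenspaces
-/

set_option autoImplicit false

namespace CfsgLib.GD

open Subgroup Cfsg CfsgLib.FT.BGN CfsgLib.FT.U4 CfsgLib.GW
open scoped commutatorElement

universe u

section general

variable {G : Type*} [Group G] [Finite G] {t s : G}

theorem Dih.le_of_inv (hG : Dih G) (h4 : Four t s) {T L : Subgroup G} (hT : IsPGroup 2 T)
    (hV : V t s ≤ T) (hL : ∀ a ∈ T, orderOf a = 2 → a ∈ L) : T ≤ L := fun a ha => by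
  obtain ⟨x, hx⟩ := hG.exists_dt hT
  obtain ⟨z, r, -, e, -, hr⟩ := hx.split h4 hV
  have hrT := hV (e ▸ s_mem_V z r)
  have key : ∀ a ∈ T, a ∉ zpowers x → a ∈ L := fun a ha ha' => hL a ha (hx.ord ha ha')
  by_cases e : a ∈ zpowers x
  · simpa using mul_mem (key _ (mul_mem ha hrT) fun e' => hr (by
      simpa using mul_mem (inv_mem e) e')) (inv_mem (key r hrT hr))
  · exact key a ha e

theorem pm_of_sq {y a : G} (hy : (orderOf y).Prime) (ha : a ∈ 𝐍(zpowers y)) (h : a * a ∈ 𝐂[y]) :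
    a * y * a⁻¹ = y ∨ a * y * a⁻¹ = y⁻¹ := by
  have h1 := conj_mem_of_mem_normalizer ha (mem_zpowers y)
  refine or_iff_not_imp_right.2 fun e => conj_eq_of_mem_cent1 ?_
  rw [← cent_zpowers, ← cent1_eq_of_card_prime (by rwa [Nat.card_zpowers])
    (mul_mem h1 (mem_zpowers y)) fun e' => e (eq_inv_of_mul_eq_one_left e')]
  refine mem_cent1_of_conj_eq ?_
  rw [show a * (a * y * a⁻¹ * y) * a⁻¹ = a * a * y * (a * a)⁻¹ * (a * y * a⁻¹) by group,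
    conj_eq_of_mem_cent1 h, mem_cent1.1 (zpowers_le_cent1 y h1)]

theorem exists_two_part (g : G) : ∃ u ∈ zpowers g, ∃ v ∈ zpowers g, g = u * v ∧
    IsPGroup 2 (zpowers u) ∧ Odd (orderOf v) :=
  let ⟨u, hu, v, hv, e, _, h1, h2⟩ := exists_p_part Nat.prime_two g
  ⟨u, hu, v, hv, e, isPGroup_zpowers_iff.2 h1, Nat.coprime_two_right.1 h2⟩

theorem cent_pc {p : ℕ} [Fact p.Prime] {a w : G} (ha : a ∈ 𝐂[t]) (ho : (orderOf a).Coprime p)
    (hw : w ∈ pCoreOf p (Ut t)) (hc : pCoreOf p (Ut t) ⊓ 𝐂[w] ≤ 𝐂[a]) :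
    a ∈ 𝐂(pCoreOf p (Ut t)) := by
  have hP := H1.pCoreOf_isPGroup (p := p) (Ut t)
  obtain ⟨n, hn⟩ := hP.exists_card_eq
  have := Cop.commutator_eq_bot_of_nilpotent_of_centralizer_le (A := zpowers a)
    (zpowers_le.2 (cent_le_norm_pc t p ha))
    (by rw [Nat.card_zpowers, hn]; exact ho.pow_right n) hP.isNilpotent inf_le_left
    (commutator_eq_bot_iff_le_centralizer.2 (by rwa [cent_zpowers]))
    (inf_le_inf_left _ (cent_le_cent1 ⟨hw, self_mem_cent1 w⟩))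
  rw [commutator_comm, commutator_eq_bot_iff_le_centralizer] at this
  exact this (mem_zpowers a)

end general

variable {G : Type u} [Group G] [Finite G]

/-- `s` neither centralizes nor inverts `W / ⟨c⟩`. -/
structure T5 (L : Subgroup G) (t s c x y k : G) (p : ℕ) [Fact p.Prime] : Prop
    extends T4 t c p where
  four : Four t s
  xW : x ∈ toT4.W
  sx : s * x * s⁻¹ = x⁻¹
  xc : x ∉ zpowers c
  yW : y ∈ toT4.W
  ys : y ∈ 𝐂[s]
  y1 : y ≠ 1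
  ed : ED (zpowers y) L t s k

namespace T4

variable {t s c : G} {p : ℕ} [hp : Fact p.Prime] (h : T4 t c p)
include h

theorem exists_t5 (h4 : Four t s) : ∃ L x y k, T5 L t s c x y k p :=
  let ⟨⟨x, hx, sx, xc⟩, y, hy, y1⟩ := h.mixed h4
  let ⟨L, k, hE⟩ := h.exists_ed h4 hy.1.1 hy.2 y1
  ⟨L, x, y, k, h, h4, hx, sx, xc, hy.1, hy.2, y1, hE⟩

theorem pc_inv {q : ℕ} [Fact q.Prime] (hq : q ≠ p) (h4 : Four t s) :
    Inverts s (pCoreOf q (Ut t)) :=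
  inverts_of_inf_cent h4.ss (odd_pc q t) (cent_le_norm_pc t q h4.s_cent)
    (eq_bot_of_forall fun a ha => by_contra fun a1 =>
      let ⟨⟨_, hx, sx, xc⟩, _⟩ := h.mixed h4
      xc (h.mem_c' h4 ha.1 ha.2 a1 (h.W_le_U hx) (cent_le_cent1 ha.1 (LD.pc_le_cent hq.symm _ hx.1))
        sx hx.2.1))

end T4

namespace T5

variable {L : Subgroup G} {t s c x y k : G} {p : ℕ} [hp : Fact p.Prime] (h : T5 L t s c x y k p)
include h

theorem ox : orderOf x = p := orderOf_eq_prime h.xW.2.1 fun e => h.xc (e ▸ one_mem _)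

theorem oy : orderOf y = p := orderOf_eq_prime h.yW.2.1 h.y1

theorem xU : x ∈ Ut t := h.W_le_U h.xW

theorem yU : y ∈ Ut t := h.W_le_U h.yW

theorem not_cent {a : G} (ha : a ∈ pCoreOf p (Ut t) ⊓ 𝐂[s]) (h1 : a ≠ 1) : x ∉ 𝐂[a] := fun hx =>
  h.xc (h.mem_c' h.four ha.1 ha.2 h1 h.xU hx h.sx h.xW.2.1)

theorem xy : x ∉ 𝐂[y] := h.not_cent ⟨h.yW.1, h.ys⟩ h.y1

theorem A_eq : pCoreOf p (Ut t) ⊓ 𝐂[s] = zpowers y := by
  refine eq_zpowers_of_card_le ⟨h.yW.1, h.ys⟩ ?_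
  rw [h.oy.trans h.oc.symm, ← Nat.card_zpowers]
  refine Nat.card_le_card_of_injective
    (fun a : ↥(pCoreOf p (Ut t) ⊓ 𝐂[s]) => (⟨⁅x, (a : G)⁆, h.xW.2.2 a a.2.1⟩ : zpowers c))
    fun a b e => Subtype.ext (inv_mul_eq_one.1 ?_)
  have e' : ⁅x, (a : G)⁆ = ⁅x, (b : G)⁆ := congrArg Subtype.val e
  by_contra h1
  refine h.not_cent (mul_mem (inv_mem a.2) b.2) h1 (mem_cent1_of_conj_eq ?_)
  calc x * ((a : G)⁻¹ * b) * x⁻¹ = (⁅x, (a : G)⁆ * a)⁻¹ * (⁅x, (b : G)⁆ * b) := by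
        simp only [commutatorElement_def]; group
    _ = _ := by rw [e']; group

theorem k_le : zpowers k ≤ 𝐂[t] ⊓ 𝐂[y] :=
  le_inf (h.ed.tor.k_le.trans inf_le_right)
    (cent_zpowers y ▸ (h.ed.tor.k_le.trans inf_le_left).trans h.ed.cent)

theorem ck : c ∈ zpowers k := h.ed.mem_k h.cU
  (cent_le_norm _ (by rw [cent_zpowers, mem_cent1_comm]; exact h.Uc h.yU)) (h.sc s h.four)

theorem split {H : Subgroup G} (hH : H ≤ Ut t) (hs : s ∈ 𝐍(H)) {g : G} (hg : g ∈ H)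
    (hy : g ∈ 𝐂[y]) : ∃ a ∈ H ⊓ 𝐂[s], ∃ z ∈ H ⊓ zpowers k, g = a * z := by
  obtain ⟨a, ha, z, hz, e, rfl⟩ := exists_cent_mul_inv h.four.ss
    (odd_card_of_le (odd_Ut t) (inf_le_left.trans hH))
    (mem_norm_inf hs (mem_norm_cent1 (mem_cent1_comm.1 h.ys))) (show g ∈ H ⊓ 𝐂[y] from ⟨hg, hy⟩)
  exact ⟨a, ⟨ha.1.1, ha.2⟩, z, ⟨hz.1, h.ed.mem_k (hH hz.1)
    (cent_le_norm _ (by rw [cent_zpowers]; exact hz.2)) e⟩, rfl⟩

theorem splitP {g : G} (hg : g ∈ pCoreOf p (Ut t)) (hy : g ∈ 𝐂[y]) :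
    ∃ a ∈ zpowers y, ∃ z ∈ pCoreOf p (Ut t) ⊓ zpowers k, g = a * z :=
  h.A_eq ▸ h.split (H1.pCoreOf_le _) (cent_le_norm_pc t p h.four.s_cent) hg hy

theorem kx : pCoreOf p (Ut t) ⊓ zpowers k ≤ 𝐂[x] := fun g hg => by
  have h1 := h.xW.2.2 g hg.1
  rw [mem_cent1', ← commutatorElement_eq_one_iff_mul_comm]
  refine h.eq_one_of_c h.four h1 (mem_cent1_comm.1 (mem_cent1_of_conj_eq ?_))
  rw [show s * ⁅x, g⁆ * s⁻¹ = ⁅s * x * s⁻¹, s * g * s⁻¹⁆ by simp only [commutatorElement_def]; group,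
    h.sx, h.ed.inverts g hg.2,
    show ⁅x⁻¹, g⁻¹⁆ = (g * x)⁻¹ * ⁅x, g⁆ * (g * x)⁻¹⁻¹ by simp only [commutatorElement_def]; group]
  exact cent_of_mem_zpowers (h.Uc (inv_mem (mul_mem (H1.pCoreOf_le _ hg.1) h.xU))) h1

theorem comm_y {g : G} (hg : g ∈ pCoreOf p (Ut t)) : ⁅g, y⁆ ∈ zpowers c := h.comm_W h.yW hg

theorem decomp {w : G} (hw : w ∈ pCoreOf p (Ut t)) (hy : w ∉ 𝐂[y]) {g : G}
    (hg : g ∈ pCoreOf p (Ut t)) :
    ∃ v ∈ zpowers w, ∃ a ∈ zpowers y, ∃ z ∈ pCoreOf p (Ut t) ⊓ zpowers k, g = v * (a * z) := by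
  obtain ⟨v, hv, e⟩ := exists_pow_cent h.oc' (h.comm_y hw) (h.Uc (pc_le_U p t hw)) hy (h.comm_y hg)
  obtain ⟨a, ha, z, hz, e⟩ := h.splitP (mul_mem (inv_mem (zpowers_le.2 hw hv)) hg) e
  exact ⟨v, hv, a, ha, z, hz, by rw [← e, mul_inv_cancel_left]⟩

theorem K_cent : pCoreOf p (Ut t) ⊓ zpowers k ≤ 𝐂(pCoreOf p (Ut t)) := fun z hz =>
  mem_cent.2 fun g hg => by
    obtain ⟨v, hv, a, ha, z', hz', rfl⟩ := h.decomp h.xW.1 h.xy hg
    exact mem_cent1.1 (mul_mem (zpowers_le.2 (mem_cent1_comm.1 (h.kx hz)) hv) (mul_mem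
      (zpowers_le.2 (mem_cent1_comm.1 (h.k_le hz.2).2) ha)
      (cent1_le_cent1 hz.2 (zpowers_le_cent1 k hz'.2))))

theorem Zp_le : LD.Zp p (Ut t) ≤ zpowers k := fun g hg => by
  obtain ⟨a, ha, z, hz, e⟩ := h.splitP hg.1 (cent_le_cent1 h.yW.1 hg.2)
  have h2 := mul_mem (cent_le_cent1 h.xW.1 hg.2) (inv_mem (h.kx hz))
  rw [e, mul_inv_cancel_right, mem_cent1_comm] at h2
  rw [e, eq_one_of_cent h.oy ha h.xy h2, one_mul]
  exact hz.2

theorem Zp_le_k : LD.Zp p (Ut t) ≤ zpowers k ⊓ Ut t ⊓ 𝐂(Ut t) :=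
  le_inf (le_inf h.Zp_le (inf_le_left.trans (pc_le_U p t))) (le_centralizer_iff.1
    (h.U_le_cent fun _ hs => let ⟨_, _, _, _, h'⟩ := h.exists_t5 hs; h'.ed.inverts.mono h'.Zp_le))

theorem K_le : pCoreOf p (Ut t) ⊓ zpowers k ≤ 𝐂(Ut t) :=
  ((le_inf inf_le_left h.K_cent).trans h.Zp_le_k).trans inf_le_right

theorem comm_mem {g g' : G} (hg : g ∈ pCoreOf p (Ut t)) (hg' : g' ∈ pCoreOf p (Ut t)) :
    ⁅g, g'⁆ ∈ zpowers c := by
  obtain ⟨v, hv, a, ha, z, hz, rfl⟩ := h.decomp h.xW.1 h.xy hg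
  have := (mul_mem (zpowers_le.2 h.xW hv) (zpowers_le.2 h.yW ha)).2.2 g' hg'
  rwa [show ⁅v * (a * z), g'⁆ = v * a * (z * g') * z⁻¹ * (v * a)⁻¹ * g'⁻¹ by
    simp only [commutatorElement_def]; group, ← mem_cent.1 (h.K_cent hz) g' hg', ← mul_assoc,
    mul_inv_cancel_right]

theorem pc_le {q : ℕ} [Fact q.Prime] (hq : q ≠ p) :
    pCoreOf q (Ut t) ≤ zpowers k ⊓ Ut t ⊓ 𝐂(Ut t) :=
  le_inf (le_inf (fun g hg => h.ed.mem_k (pc_le_U q t hg) (cent_le_norm _ (by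
    rw [cent_zpowers]; exact cent_le_cent1 h.yW.1 (LD.pc_le_cent hq _ hg))) (h.pc_inv hq h.four g hg))
    (pc_le_U q t)) (le_centralizer_iff.1 (h.U_le_cent fun _ hs => h.pc_inv hq hs))

theorem fit_le' : fittingOf (Ut t) ≤ pCoreOf p (Ut t) ⊔ (zpowers k ⊓ Ut t ⊓ 𝐂(Ut t)) :=
  H1.fittingOf_le_of_forall fun q _ => by
    by_cases hq : q = p
    · exact hq ▸ le_sup_left
    · exact (h.pc_le hq).trans le_sup_right

theorem splitF {g : G} (hg : g ∈ fittingOf (Ut t)) :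
    ∃ a ∈ pCoreOf p (Ut t), ∃ z ∈ zpowers k ⊓ Ut t ⊓ 𝐂(Ut t), a * z = g :=
  (mem_sup_iff_of_le_normalizer' ((inf_le_left.trans inf_le_right).trans
    (H1.le_normalizer_pCoreOf _))).1 (h.fit_le' hg)

theorem mem_c_of_k {z : G} (hz : z ∈ zpowers k) (hp : z ^ p = 1) : z ∈ zpowers c :=
  Frob.mem_zpowers_of_isCyclic h.ck hz (h.oc ▸ hp)

theorem mem_yc {g : G} (hg : g ∈ pCoreOf p (Ut t)) (hp : g ^ p = 1) (hy : g ∈ 𝐂[y]) :
    ∃ a ∈ zpowers y, ∃ z ∈ zpowers c, g = a * z := by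
  obtain ⟨a, ha, z, hz, rfl⟩ := h.splitP hg hy
  refine ⟨a, ha, z, h.mem_c_of_k hz.2 ?_, rfl⟩
  have h1 : Commute a z := mem_cent.1 (h.K_cent hz) a (zpowers_le.2 h.yW.1 ha)
  rwa [h1.mul_pow, (zpowers_le.2 h.yW ha).2.1, one_mul] at hp

theorem relIndex_y_le : (𝐂[y]).relIndex (pCoreOf p (Ut t)) ≤ p :=
  (relIndex_cent_le fun _ hg => h.comm_y hg).trans (by rw [Nat.card_zpowers, h.oc])

theorem rank : PRankLE p 2 (pCoreOf p (Ut t)) := FT.pRankLE_iff.2 fun E hE hab => by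
  by_cases hy : E ≤ 𝐂[y]
  · have h1 : E ≤ zpowers y ⊔ zpowers c := fun g hg => by
      obtain ⟨a, ha, z, hz, rfl⟩ := h.mem_yc (hE hg) (hab.2 g hg) (hy hg)
      exact mul_mem (mem_sup_left ha) (mem_sup_right hz)
    have h2 := card_sup_dvd_mul (zpowers_le.2 (h.norm_c (Ut_le t h.yU)))
    rw [Nat.card_zpowers, Nat.card_zpowers, h.oy, h.oc, ← sq] at h2
    exact (card_le_of_le h1).trans (Nat.le_of_dvd (pow_pos hp.1.pos 2) h2)
  · obtain ⟨e, he, he'⟩ := SetLike.not_le_iff_exists.1 hy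
    have h1 : 𝐂[y] ⊓ E ≤ zpowers c := fun g hg => by
      obtain ⟨a, ha, z, hz, rfl⟩ := h.mem_yc (hE hg.2) (hab.2 g hg.2) hg.1
      have h2 : a * z ∈ 𝐂[e] :=
        mem_cent1.2 (congrArg Subtype.val (hab.1.is_comm.comm ⟨_, hg.2⟩ ⟨e, he⟩))
      have h3 := mul_mem h2 (inv_mem (zpowers_le.2 (mem_cent1_comm.1
        (h.Uc (H1.pCoreOf_le _ (hE he)))) hz))
      rw [mul_inv_cancel_right, mem_cent1_comm] at h3
      rwa [eq_one_of_cent h.oy ha he' h3, one_mul]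
    have h2 := card_le_of_le h1
    rw [Nat.card_zpowers, h.oc] at h2
    rw [← card_mul_relIndex (inf_le_right (a := 𝐂[y])), inf_relIndex_right, sq]
    exact Nat.mul_le_mul h2
      ((relIndex_le_of_le_right hE (H1.relIndex_ne_zero' _ _)).trans h.relIndex_y_le)

theorem der_le : ⁅Ut t, Ut t⁆ ≤ fittingOf (Ut t) :=
  FT.rank2_der1_le_fittingOf (solvable_Ut t) (odd_Ut t) fun q hq => by
    have : Fact q.Prime := ⟨hq⟩
    refine (FT.pRankLE_iff_of_isSylowIn (sylow_pcore_of_nil (fit_nil _) q)).2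
      (FT.pRankLE_mono ?_ (H1.le_pCoreOf_of_le_fittingOf (pcore_le _ _) (pcore_pgroup q _)))
    by_cases e : q = p
    · exact e ▸ h.rank
    · exact FT.pRankLE_of_le_rank hq.pos (FT.pRankLE_one_of_isCyclic (isCyclic_of_le'
        (C := zpowers k) inferInstance ((h.pc_le e).trans (inf_le_left.trans inf_le_left)))) one_le_two

theorem Pmem {g : G} (hg : g ∈ Ut t) (hgp : IsPGroup p (zpowers g)) : g ∈ pCoreOf p (Ut t) := by
  have h1 : pCoreOf p (Ut t) ⊔ zpowers g ≤ Ut t := sup_le (H1.pCoreOf_le _) (zpowers_le.2 hg)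
  have h2 : pCoreOf p (Ut t) ⊔ zpowers g ⊔ (zpowers k ⊓ Ut t ⊓ 𝐂(Ut t)) ≤ Ut t :=
    sup_le h1 (inf_le_left.trans inf_le_right)
  have h3 := le_fit h2 (normal_of_der_le (h.der_le.trans (h.fit_le'.trans
    (sup_le_sup_right le_sup_left _))) h2) (isNilpotent_sup_of_cent
      (FT.isPGroup_sup' (zpowers_le.2 (H1.le_normalizer_pCoreOf _ hg)) (H1.pCoreOf_isPGroup _)
        hgp).isNilpotent (isNilpotent_of_comm (comm_of_isCyclic (isCyclic_of_le'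
          (C := zpowers k) inferInstance (inf_le_left.trans inf_le_left))))
      (h1.trans (le_centralizer_iff.1 inf_le_right)))
  exact H1.le_pCoreOf_of_le_fittingOf ((le_sup_right.trans le_sup_left).trans h3) hgp (mem_zpowers g)

theorem mem_of_cent {a : G} (ha : a ∈ Ut t) (hc : a ∈ 𝐂(pCoreOf p (Ut t))) :
    a ∈ zpowers k ⊓ Ut t ⊓ 𝐂(Ut t) := by
  obtain ⟨g, hg, z, hz, rfl⟩ := h.splitF (FT.cent_sub_Fitting (solvable_Ut t) ⟨ha,
    centralizer_le h.fit_le' (by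
      rw [← SetLike.mem_coe, cent_sup]
      exact ⟨hc, mem_cent.2 fun z hz => (mem_cent.1 hz.2 a ha).symm⟩)⟩)
  refine mul_mem (h.Zp_le_k ⟨hg, ?_⟩) hz
  simpa using mul_mem hc (inv_mem (centralizer_le (H1.pCoreOf_le (p := p) (Ut t)) hz.2))

theorem cent_P {a w : G} (ha : a ∈ Ut t) (ho : (orderOf a).Coprime p)
    (hw : w ∈ pCoreOf p (Ut t)) (hc : pCoreOf p (Ut t) ⊓ 𝐂[w] ≤ 𝐂[a]) : a ∈ zpowers k :=
  (h.mem_of_cent ha (cent_pc (Ut_le t ha) ho hw hc)).1.1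

theorem cent_y_le {g : G} (hg : g ∈ Ut t) (hy : g ∈ 𝐂[y]) : g ∈ fittingOf (Ut t) := by
  obtain ⟨u, hu, v, hv, e, -, h1, h2⟩ := exists_p_part hp.1 g
  have hvU := zpowers_le.2 hg hv
  refine e ▸ mul_mem (H1.pCoreOf_le_fittingOf p _
    (h.Pmem (zpowers_le.2 hg hu) (isPGroup_zpowers_iff.2 h1))) (mem_fit_of_cent hvU
      (centralizer_le (fit_le _) (h.mem_of_cent hvU (cent_pc (Ut_le t hvU) h2 h.yW.1
        fun g hg => ?_)).2))
  obtain ⟨a, ha, z, hz, rfl⟩ := h.splitP hg.1 hg.2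
  exact mul_mem (zpowers_le.2 (mem_cent1_comm.1 (zpowers_le.2 hy hv)) ha)
    (cent_le_cent1 hvU (h.K_le hz))

theorem kcent : Ut t ≤ 𝐂[k] := by
  obtain ⟨u, hu, v, hv, e, h1, h2⟩ := exists_two_part k
  obtain ⟨a, ha, z, hz, e'⟩ := h.splitF (h.cent_y_le ((h.dih.mem_Ut h.ot).2 ⟨(h.k_le hv).1, h2⟩)
    (h.k_le hv).2)
  have h3 := h.K_le ⟨ha, by simpa [← e'] using mul_mem hv (inv_mem hz.1.1)⟩
  have h4 := le_cent_U (zpowers_le.2 (h.k_le hu).1) (LD.le_cent_fit fun q _ => zpowers_le.2 ?_) h1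
    (mem_zpowers u)
  · exact fun g hg => mem_cent1.2 (mem_cent.1 (e ▸ mul_mem h4 (e' ▸ mul_mem h3 hz.2)) g hg)
  by_cases hq : q = p
  · subst hq
    obtain ⟨n, hn⟩ := isPGroup_zpowers_iff.1 h1
    refine cent_pc (h.k_le hu).1 (hn ▸ (Nat.coprime_two_left.2
      (hp.1.odd_of_ne_two h.p2)).pow_left n) h.yW.1 fun g hg => ?_
    obtain ⟨a, ha, z, hz, rfl⟩ := h.splitP hg.1 hg.2
    exact mul_mem (zpowers_le.2 (mem_cent1_comm.1 (h.k_le hu).2) ha)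
      (cent1_le_cent1 hu (zpowers_le_cent1 k hz.2))
  · exact mem_cent.2 fun g hg =>
      mem_cent1.1 (cent1_le_cent1 hu (zpowers_le_cent1 k (h.pc_le hq hg).1.1))

theorem B_or : Ut t ⊓ 𝐂[s] ≤ fittingOf (Ut t) ∨ ⁅Ut t, zpowers s⁆ ≤ fittingOf (Ut t) := by
  refine or_iff_not_imp_left.2 fun hB => commutator_zpowers_le h.four.ss fun g hg => ?_
  obtain ⟨b, hb, hb'⟩ := SetLike.not_le_iff_exists.1 hB
  obtain ⟨n, hn⟩ := conj_mem_of_mem_normalizer (h.A_eq ▸ mem_norm_inf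
    (H1.le_normalizer_pCoreOf _ hb.1) (mem_norm_cent1 hb.2)) (mem_zpowers y)
  simp only at hn
  have key : ∀ u ∈ Ut t, u * y * u⁻¹ ∈ 𝐂[y] := fun u hu => by
    have hw := conj_mem_of_mem_normalizer (h.norm_W (Ut_le t hu)) h.yW
    obtain ⟨a, ha, z, hz, e⟩ := h.splitF (h.der_le (commutator_mem_commutator hb.1 hu))
    have h1 : b * (u * y * u⁻¹) * b⁻¹ = ⁅a, (u * y * u⁻¹) ^ n⁆ * (u * y * u⁻¹) ^ n := by
      rw [show b * (u * y * u⁻¹) * b⁻¹ = ⁅b, u⁆ * (u * (b * y * b⁻¹) * u⁻¹) * ⁅b, u⁆⁻¹ by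
        simp only [commutatorElement_def]; group, ← hn, ← e, ← conj_zpow, mul_assoc a,
        ← mem_cent.1 hz.2 _ (h.W_le_U (zpow_mem hw n))]
      simp only [commutatorElement_def]
      group
    generalize u * y * u⁻¹ = w at hw h1
    have h2 := h.comm_y hw.1
    have hc : ∀ g ∈ h.W, ∀ z ∈ zpowers c, Commute z g := fun g hg z hz =>
      mem_cent1'.1 (cent1_le_cent1 hz (h.Uc (h.W_le_U hg)))
    have h3 := h.comm_W (zpow_mem hw n) ha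
    have h4 := cent_of_mem_zpowers (h.Uc hb.1) h2
    rw [show b * ⁅w, y⁆ * b⁻¹ = ⁅b * w * b⁻¹, b * y * b⁻¹⁆ by
      simp only [commutatorElement_def]; group, h1, ← hn, commutatorElement_mul_left_eq_conj_mul,
      commutatorElement_eq_one_iff_commute.2 (hc _ (zpow_mem h.yW n) _ h3), mul_one,
      PGrp.commutatorElement_zpow_left (hc w hw _ (h.comm_W (zpow_mem h.yW n) hw.1)),
      PGrp.commutatorElement_zpow_right (hc y h.yW _ h2), ← zpow_mul,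
      cent_of_mem_zpowers (cent1_le_cent1 (mem_zpowers c) (zpowers_le_cent1 c h3)) (zpow_mem h2 _)] at h4
    by_contra hne
    refine hb' (h.cent_y_le hb.1 (zpowers_le.2 (mem_cent1_of_conj_eq ?_)
      (mem_zpowers_sq (odd_of_mem_Ut hb.1))))
    rw [show b * b * y * (b * b)⁻¹ = b * (b * y * b⁻¹) * b⁻¹ by group, ← hn, ← conj_zpow, ← hn,
      ← zpow_mul]
    nth_rewrite 2 [← zpow_one ⁅w, y⁆] at h4
    nth_rewrite 2 [← zpow_one y]
    rw [zpow_eq_zpow_iff_modEq] at h4 ⊢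
    rwa [h.oy, ← h.oc, ← Nat.card_zpowers, ← zpowers_eq_of_card_prime
      (by rw [Nat.card_zpowers]; exact h.oc') h2 fun e =>
        hne (mem_cent1.2 (commutatorElement_eq_one_iff_mul_comm.1 e)), Nat.card_zpowers]
  have hi := GD.comm_mem (cent_le_norm_Ut t h.four.s_cent) hg
  have si := inv_comm (x := g) h.four.ss
  generalize g * s * g⁻¹ * s⁻¹ = i at hi si
  have hw := conj_mem_of_mem_normalizer (h.norm_W (Ut_le t hi)) h.yW
  obtain ⟨a, ha, z, hz, e⟩ := h.mem_yc hw.1 hw.2.1 (key i hi)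
  have e' : a = i⁻¹ * y * i * z := by
    have := congrArg (fun g => s * g * s⁻¹) e
    simp only [← _root_.conj_mul] at this
    rw [inverts_zpowers (h.sc s h.four) z hz, conj_eq_of_mem_cent1
      (mem_cent1_comm.1 (zpowers_le.2 h.ys ha)), conj_eq_of_mem_cent1 (mem_cent1_comm.1 h.ys), si,
      ← conj_inv, si, inv_inv] at this
    rw [this, inv_mul_cancel_right]
  obtain ⟨v, hv, h1⟩ := exists_pow_cent h.oc' (h.comm_y h.xW.1) (h.Uc h.xU) h.xy (g := i * i) (by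
    rw [show ⁅i * i, y⁆ = i * (i * y * i⁻¹) * i⁻¹ * y⁻¹ by simp only [commutatorElement_def]; group,
      e, e', show i * (i⁻¹ * y * i * z * z) * i⁻¹ * y⁻¹ = y * i * (z * z) * (y * i)⁻¹ by group]
    exact conj_mem_of_mem_normalizer (h.norm_c (Ut_le t (mul_mem h.yU hi))) (mul_mem hz hz))
  refine zpowers_le.2 ?_ (mem_zpowers_sq (odd_of_mem_Ut hi))
  simpa using mul_mem (H1.pCoreOf_le_fittingOf p _ (zpowers_le.2 h.xW.1 hv))
    (h.cent_y_le (mul_mem (inv_mem (zpowers_le.2 h.xU hv)) (mul_mem hi hi)) h1)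

theorem B_eq (hB : Ut t ⊓ 𝐂[s] ≤ fittingOf (Ut t)) : Ut t ⊓ 𝐂[s] = zpowers y := by
  refine le_antisymm (fun b hb => ?_) (zpowers_le.2 ⟨h.yU, h.ys⟩)
  obtain ⟨a, ha, z, hz, rfl⟩ := h.splitF (hB hb)
  have h2 := conj_eq_of_mem_cent1 (mem_cent1_comm.1 hb.2)
  rw [← _root_.conj_mul, h.ed.inverts z hz.1.1] at h2
  have h3 := mul_mem (inv_mem ha)
    (conj_mem_of_mem_normalizer (cent_le_norm_pc t p h.four.s_cent) ha)
  rw [eq_mul_inv_of_mul_eq h2, inv_inv, mul_assoc, inv_mul_cancel_left] at h3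
  exact h.A_eq ▸ ⟨mul_mem ha (zpowers_le.2 h3 (mem_zpowers_sq (odd_of_mem_Ut hz.1.2))), hb.2⟩

theorem p_dvd : p ∣ orderOf k := h.oc ▸ orderOf_dvd_of_mem_zpowers h.ck

theorem wcent {a : G} (ha : a ∈ Ut t) (h1 : a ≠ 1) (ho : (orderOf a).Coprime (orderOf k)) :
    h.W ⊓ 𝐂[a] ≤ zpowers c := fun w hw => by
  by_contra hwc
  have hop := ho.coprime_dvd_right h.p_dvd
  have hk : zpowers k ≤ 𝐂[a] := zpowers_le.2 (mem_cent1_comm.1 (h.kcent ha))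
  refine h1 (orderOf_eq_one_iff.1 (ho.eq_one_of_dvd (orderOf_dvd_of_mem_zpowers ?_)))
  by_cases hy : w ∈ 𝐂[y]
  · obtain ⟨b, hb, z, hz, rfl⟩ := h.mem_yc hw.1.1 hw.1.2.1 hy
    have h2 := mul_mem (mem_inf.1 hw).2 (inv_mem (hk (zpowers_le.2 h.ck hz)))
    rw [mul_inv_cancel_right, mem_cent1_comm] at h2
    have h3 : a ∈ 𝐂[y] := by
      by_contra h3
      exact hwc (by rwa [eq_one_of_cent h.oy hb h3 h2, one_mul])
    refine h.cent_P ha hop h.yW.1 fun g hg => ?_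
    obtain ⟨b, hb, z, hz, rfl⟩ := h.splitP hg.1 hg.2
    exact mul_mem (zpowers_le.2 (mem_cent1_comm.1 h3) hb) (hk hz.2)
  · refine h.cent_P ha hop hw.1.1 fun g hg => ?_
    obtain ⟨v, hv, b, hb, z, hz, rfl⟩ := h.decomp hw.1.1 hy hg.1
    have h2 := mul_mem (mul_mem (inv_mem (zpowers_le_cent1 w hv)) hg.2)
      (inv_mem (cent_le_cent1 hw.1.1 (h.K_cent hz)))
    rw [inv_mul_cancel_left, mul_inv_cancel_right, mem_cent1_comm] at h2
    rw [eq_one_of_cent h.oy hb hy h2, one_mul]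
    exact mul_mem (zpowers_le.2 hw.2 hv) (hk hz.2)

theorem zpowers_c : zpowers (y⁻¹ * (x * y * x⁻¹)) = zpowers c := by
  have h1 := h.xW.2.2 y h.yW.1
  rw [show y⁻¹ * (x * y * x⁻¹) = y⁻¹ * ⁅x, y⁆ * y⁻¹⁻¹ by simp only [commutatorElement_def]; group,
    cent_of_mem_zpowers (h.Uc (inv_mem h.yU)) h1]
  exact zpowers_eq_of_card_prime (by rw [Nat.card_zpowers, h.oc]; exact hp.1) h1
    fun e => h.xy (mem_cent1.2 (commutatorElement_eq_one_iff_mul_comm.1 e))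

theorem W_eq : zpowers x ⊔ zpowers y = h.W := by
  refine le_antisymm (sup_le (zpowers_le.2 h.xW) (zpowers_le.2 h.yW)) fun w hw => ?_
  obtain ⟨v, hv, b, hb, z, hz, e⟩ := h.decomp h.xW.1 h.xy hw.1
  have h1 := mul_mem (inv_mem (zpowers_le.2 h.yW hb)) (mul_mem (inv_mem (zpowers_le.2 h.xW hv)) hw)
  rw [e, inv_mul_cancel_left, inv_mul_cancel_left] at h1
  have h2 := h.mem_c_of_k hz.2 h1.2.1
  have hx : x ∈ zpowers x ⊔ zpowers y := mem_sup_left (mem_zpowers x)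
  have hy : y ∈ zpowers x ⊔ zpowers y := mem_sup_right (mem_zpowers y)
  rw [← h.zpowers_c] at h2
  rw [e]
  exact mul_mem (mem_sup_left hv) (mul_mem (mem_sup_right hb)
    (zpowers_le.2 (mul_mem (inv_mem hy) (mul_mem (mul_mem hx hy) (inv_mem hx))) h2))

theorem card_W : Nat.card h.W ≤ p * p * p := by
  rw [← card_inf_mul_relIndex 𝐂[y] h.W]
  refine Nat.mul_le_mul ?_ ((relIndex_cent_le fun _ hg => h.comm_y (h.W_le hg)).trans
    (by rw [Nat.card_zpowers, h.oc]))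
  have h2 := card_sup_dvd_mul (zpowers_le.2 (h.norm_c (Ut_le t h.yU)))
  rw [Nat.card_zpowers, Nat.card_zpowers, h.oy, h.oc] at h2
  refine (card_le_of_le fun g hg => ?_).trans (Nat.le_of_dvd (Nat.mul_pos hp.1.pos hp.1.pos) h2)
  obtain ⟨a, ha, z, hz, rfl⟩ := h.mem_yc hg.2.1 hg.2.2.1 hg.1
  exact mul_mem (mem_sup_left ha) (mem_sup_right hz)

theorem three (h3 : p = 3) : Nat.card ↥(Ut t ⊓ 𝐂[s]) = 3 := by
  rw [h.B_eq fun b hb => h.cent_y_le hb.1 (zpowers_le.2 (mem_cent1_of_conj_eq ?_)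
    (mem_zpowers_sq (odd_of_mem_Ut hb.1))), Nat.card_zpowers, h.oy, h3]
  have h1 := conj_mem_of_mem_normalizer (h.A_eq ▸ mem_norm_inf
    (H1.le_normalizer_pCoreOf _ hb.1) (mem_norm_cent1 hb.2)) (mem_zpowers y)
  have h2 : y ^ 3 = 1 := h3 ▸ h.yW.2.1
  rw [show b * b * y * (b * b)⁻¹ = b * (b * y * b⁻¹) * b⁻¹ by group]
  classical
  rw [mem_zpowers_iff_mem_range_orderOf, h.oy, h3] at h1
  obtain ⟨n, hn, e⟩ := Finset.mem_image.1 h1
  rw [← e, ← conj_pow, ← e, ← pow_mul]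
  rw [Finset.mem_range] at hn
  interval_cases n
  · exact absurd (conj_eq_one_iff.1 (e.symm.trans (pow_zero y))) h.y1
  · simp
  · rw [show 2 * 2 = 3 + 1 from rfl, pow_succ, h2, one_mul]

theorem two_mem {u : G} (ht : u ∈ 𝐂[t]) (hy : u ∈ 𝐂[y]) (hu : IsPGroup 2 (zpowers u)) : u ∈ L := by
  obtain ⟨T, h1, hT⟩ := IsSylowIn.exists_ge h.four.isPGroup_V (le_inf h.four.V_le_cent1
    (cent_zpowers y ▸ h.ed.V_le_L.trans h.ed.cent))
  obtain ⟨n, hn, h2⟩ := hT.exists_conj_le hu (zpowers_le.2 ⟨ht, hy⟩)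
  have h3 := h.dih.le_of_inv h.four hT.isPGroup h1 (L := L) (fun a ha ho => by
    rcases four_or h.ot (hT.le ha).1 (mul_self_of_inv ho) with e | rfl | e
    exacts [absurd e (ne_one_of_inv ho), h.ed.tmem,
      h.mem_L h.ed h.yW.1 h.y1 e (mem_cent1_comm.1 (hT.le ha).2)])
    (h2 (conj_mem_map_conj (mem_zpowers u)))
  exact (mem_normalizer_iff.1 (h.ed.te.norm (cent_le_norm _ (cent_zpowers y ▸ hn.2))) u).2 h3

variable (hB : Ut t ⊓ 𝐂[s] = zpowers y)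
include hB

theorem split_U {g : G} (hg : g ∈ Ut t) (hn : g ∈ 𝐍(zpowers y)) :
    ∃ a ∈ zpowers y, ∃ z ∈ zpowers k, g = a * z := by
  obtain ⟨a, ha, z, hz, e, rfl⟩ := exists_cent_mul_inv h.four.ss
    (odd_card_of_le (odd_Ut t) inf_le_left) (mem_norm_inf (cent_le_norm_Ut t h.four.s_cent)
      (le_normalizer (h.ed.L_le h.ed.smem))) (mem_inf.2 ⟨hg, hn⟩)
  exact ⟨a, hB ▸ ⟨ha.1.1, ha.2⟩, z, h.ed.mem_k hz.1 hz.2 e, rfl⟩

theorem norm_y {g : G} (hg : g ∈ Ut t) (hn : g ∈ 𝐍(zpowers y)) : g ∈ 𝐂[y] := by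
  obtain ⟨a, ha, z, hz, rfl⟩ := h.split_U hB hg hn
  exact mul_mem (zpowers_le_cent1 y ha) (h.k_le hz).2

theorem split_M {g : G} (hg : g ∈ 𝐍(zpowers y)) : ∃ l ∈ L, ∃ u ∈ 𝐍(zpowers y) ⊓ 𝐂[t],
    ∃ a ∈ zpowers y, ∃ z ∈ zpowers k, IsPGroup 2 (zpowers u) ∧ g = l * (u * (a * z)) := by
  obtain ⟨l, hl, b, hb, rfl⟩ := h.ed.te.exists_mul h.dih h.ot h.ed.tmem hg
  obtain ⟨u, hu, v, hv, e, h1, h2⟩ := exists_two_part b
  have h3 := zpowers_le.2 hb hv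
  obtain ⟨a, ha, z, hz, rfl⟩ := h.split_U hB ((h.dih.mem_Ut h.ot).2 ⟨h3.2, h2⟩) h3.1
  exact ⟨l, hl, u, zpowers_le.2 hb hu, a, ha, z, hz, h1, by rw [← e]⟩

theorem split_C {g : G} (hg : g ∈ 𝐂[y]) : ∃ a ∈ zpowers y, ∃ l ∈ L, g = a * l := by
  obtain ⟨l, hl, u, hu, a, ha, z, hz, h1, rfl⟩ := h.split_M hB (cent_le_norm _ (cent_zpowers y ▸ hg))
  have h2 := h.two_mem hu.2 (by
    have := mul_mem (mul_mem (inv_mem (cent_zpowers y ▸ h.ed.cent hl)) hg)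
      (inv_mem (mul_mem (zpowers_le_cent1 y ha) (mem_inf.1 (h.k_le hz)).2))
    rwa [inv_mul_cancel_left, mul_inv_cancel_right] at this) h1
  refine ⟨a, ha, l * u * z, mul_mem (mul_mem hl h2) (h.ed.tor.k_le hz).1, ?_⟩
  rw [← mul_assoc a, mem_cent.1 (h.ed.cent (mul_mem hl h2)) a ha]
  group

theorem pm {g : G} (hg : g ∈ 𝐍(zpowers y)) : g * y * g⁻¹ = y ∨ g * y * g⁻¹ = y⁻¹ := by
  obtain ⟨l, hl, u, hu, a, ha, z, hz, h1, rfl⟩ := h.split_M hB hg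
  have h2 : l ∈ 𝐂[y] := cent_zpowers y ▸ h.ed.cent hl
  rw [show l * (u * (a * z)) * y * (l * (u * (a * z)))⁻¹ =
    l * (u * (a * z * y * (a * z)⁻¹) * u⁻¹) * l⁻¹ by group,
    conj_eq_of_mem_cent1 (mul_mem (zpowers_le_cent1 y ha) (h.k_le hz).2)]
  rcases pm_of_sq (h.oy ▸ hp.1) hu.1
    (cent_zpowers y ▸ h.ed.cent (h.ed.te.mul_self_mem h.dih hu.1 h1)) with e | e
  · exact Or.inl (by rw [e, conj_eq_of_mem_cent1 h2])
  · exact Or.inr (by rw [e, ← conj_inv, conj_eq_of_mem_cent1 h2])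

theorem cent_W : 𝐂[t] ⊓ 𝐂(h.W) = zpowers k := by
  refine le_antisymm (fun g hg => ?_) (zpowers_le.2 ⟨h.ed.tor.kt,
    mem_cent.2 fun w hw => mem_cent1.1 (h.kcent (h.W_le_U hw))⟩)
  obtain ⟨a, ha, l, hl, rfl⟩ := h.split_C hB (cent_le_cent1 h.yW hg.2)
  have haU := zpowers_le.2 h.yU ha
  have h1 : l ∈ zpowers k := h.ed.tor.mem' h.ot hl
    (by simpa using mul_mem (inv_mem (Ut_le t haU)) (mem_inf.1 hg).1) fun e =>
      ne_one_of_orderOf h.oc (h.eq_one_of_c e (mem_zpowers c) (mem_cent1_comm.1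
        (by simpa using mul_mem (inv_mem (h.Uc haU)) (cent_le_cent1 h.cW hg.2))))
  have h2 := mul_mem (cent_le_cent1 h.xW hg.2)
    (inv_mem (mem_cent1_comm.1 (cent1_le_cent1 h1 (h.kcent h.xU))))
  rw [mul_inv_cancel_right, mem_cent1_comm] at h2
  rwa [eq_one_of_cent h.oy ha h.xy h2, one_mul]

theorem relIndex_U_le : (𝐂[y]).relIndex (Ut t) ≤ p * p := by
  have hxc : zpowers x ≤ 𝐍(zpowers c) := zpowers_le.2 (h.norm_c (Ut_le t h.xU))
  have h1 : Inverts s (zpowers x ⊔ zpowers c) := fun g hg => by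
    obtain ⟨a, ha, b, hb, rfl⟩ := (mem_sup_iff_of_le_normalizer hxc).1 hg
    rw [← _root_.conj_mul, inverts_zpowers h.sx a ha, inverts_zpowers (h.sc s h.four) b hb, ← mul_inv_rev,
      mem_cent1.1 (cent1_le_cent1 hb (h.Uc (zpowers_le.2 h.xU ha)))]
  have h2 : y ∈ 𝐍(zpowers x ⊔ zpowers c) := mem_normalizer_of_conj_mem fun g hg => by
    obtain ⟨a, ha, b, hb, rfl⟩ := (mem_sup_iff_of_le_normalizer hxc).1 hg
    rw [← _root_.conj_mul, cent_of_mem_zpowers (h.Uc h.yU) hb,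
      show y * a * y⁻¹ = ⁅y, a⁆ * a by simp only [commutatorElement_def]; group]
    exact mul_mem (mul_mem (mem_sup_right (h.yW.2.2 a (zpowers_le.2 h.xW.1 ha))) (mem_sup_left ha))
      (mem_sup_right hb)
  have h3 := card_sup_dvd_mul hxc
  rw [Nat.card_zpowers, Nat.card_zpowers, h.ox, h.oc] at h3
  rw [← inf_relIndex_right, show 𝐂[y] ⊓ Ut t = 𝐍(zpowers y) ⊓ Ut t from le_antisymm
    (inf_le_inf_right _ (cent_zpowers y ▸ cent_le_norm _)) fun g hg => ⟨h.norm_y hB hg.2 hg.1, hg.2⟩,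
    inf_relIndex_right]
  exact (relIndex_norm_le (h.oy.symm ▸ hp.1) fun u hu => h.ed.exists_tau (h.oy.symm ▸ hp.1) h.yU h2 h1 hu
    ((h.W_eq.ge.trans (sup_le (le_sup_left.trans le_sup_right) le_sup_left))
      (conj_mem_of_mem_normalizer (h.norm_W (Ut_le t hu)) h.yW))).trans
    (Nat.le_of_dvd (Nat.mul_pos hp.1.pos hp.1.pos) h3)

theorem lt {q : ℕ} (hq : q.Prime) (h1 : q ∣ Nat.card (Ut t)) (h2 : ¬ q ∣ orderOf k) : q < p := by
  have hqp : q ≠ p := fun e => h2 (e ▸ h.p_dvd)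
  have h3 : 𝐂[y] ⊓ Ut t ≤ zpowers y ⊔ zpowers k := fun g hg => by
    obtain ⟨a, ha, z, hz, rfl⟩ := h.split_U hB hg.2 (cent_le_norm _ (cent_zpowers y ▸ hg.1))
    exact mul_mem (mem_sup_left ha) (mem_sup_right hz)
  have h4 := (card_dvd_of_le h3).trans (card_sup_dvd_mul (zpowers_le.2 (cent_le_norm _ (by
    rw [cent_zpowers]; exact h.kcent h.yU))))
  rw [Nat.card_zpowers, Nat.card_zpowers, h.oy] at h4
  rw [← card_inf_mul_relIndex 𝐂[y]] at h1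
  have h5 := ((Nat.Prime.dvd_mul hq).1 h1).resolve_left fun e =>
    ((Nat.Prime.dvd_mul hq).1 (e.trans h4)).elim
      (fun e => hqp ((Nat.prime_dvd_prime_iff_eq hq hp.1).1 e)) h2
  have h6 : p ∣ (𝐂[y]).relIndex (Ut t) := by_contra fun hne => by
    obtain ⟨S, hS⟩ := IsSylowIn.exists_in (p := p) (𝐂[y] ⊓ Ut t)
    refine h.xy (hS.le (H1.pCoreOf_le_sylow ⟨hS.le.trans inf_le_right, hS.isPGroup, ?_⟩ h.xW.1)).1
    rw [← relIndex_mul_relIndex S _ _ hS.le inf_le_right, inf_relIndex_right]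
    exact hp.1.not_dvd_mul hS.not_dvd hne
  exact lt_of_le_of_ne (Nat.le_of_mul_le_mul_right ((Nat.le_of_dvd
    (Nat.pos_of_ne_zero (H1.relIndex_ne_zero' _ _)) (((Nat.coprime_primes hq hp.1).2
      hqp).mul_dvd_of_dvd_of_dvd h5 h6)).trans (h.relIndex_U_le hB)) hp.1.pos) hqp

theorem mle : mI t ≤ p * (p + 1) * orderOf k := by
  have h1 := mI_le (t := t) (A := (h.W : Set G) \ zpowers c) (a := p - 1) (κ := orderOf k)
    (fun s' hs' => by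
      obtain ⟨_, _, y', _, h'⟩ := h.exists_t5 hs'
      exact (congrArg (· - 1) h'.oy).ge.trans (le_ncard (fun w hw w1 => ⟨zpowers_le.2 h'.yW hw,
        fun e => w1 (h.eq_one_of_c hs' e (zpowers_le.2 h'.ys hw))⟩) h'.ys))
    fun w hw => h.ncard_le hw.1.1 (fun e => hw.2 (e ▸ one_mem _)) fun s' L' k' hs' hE' => by
      obtain ⟨⟨x', hx', sx', xc'⟩, -⟩ := h.mixed hE'.four
      have h' : T5 L' t s' c x' w k' p := ⟨h.toT4, hE'.four, hx', sx', xc', hw.1, hs',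
        fun e => hw.2 (e ▸ one_mem _), hE'⟩
      exact Nat.le_of_dvd (orderOf_pos k) (orderOf_dvd_of_mem_zpowers (h.cent_W hB ▸ ⟨hE'.tor.kt,
        mem_cent.2 fun w hw => mem_cent1.1 (h'.kcent (h.W_le_U hw))⟩))
  rw [ncard_diff (zpowers_le.2 h.cW), Nat.card_zpowers, h.oc] at h1
  have h2 := h.card_W
  generalize Nat.card h.W = w at h1 h2
  obtain ⟨n, rfl⟩ : ∃ n, p = n + 1 := ⟨p - 1, by have := hp.1.pos; omega⟩
  refine Nat.le_of_mul_le_mul_right (h1.trans ((Nat.mul_le_mul_right _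
    (Nat.sub_le_sub_right h2 _)).trans_eq ?_)) (show 0 < n by have := hp.1.two_le; omega)
  rw [show (n + 1) * (n + 1) * (n + 1) = (n + 1) * (n + 1 + 1) * n + (n + 1) by ring,
    Nat.add_sub_cancel, Nat.add_sub_cancel]
  ring

theorem false : False := by
  refine mixed_false h.simp (L := L) (c := y⁻¹ * (x * y * x⁻¹))
    ⟨h.ed, hp.1, h.xU, h.yU, h.ox, h.oy, by rw [← Nat.card_zpowers, h.zpowers_c, Nat.card_zpowers,
      h.oc], by rw [mul_inv_cancel_left], h.sx,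
      zpowers_le.2 h.ck (h.zpowers_c ▸ mem_zpowers _), h.kcent, fun g hg hg1 => ?_,
      fun g => h.split_C hB, fun g => h.pm hB, fun a ha b hb oa ob => h.zpowers_c ▸ h.comm_mem
        (h.Pmem ha (isPGroup_of_card_eq (by rw [Nat.card_zpowers, oa])))
        (h.Pmem hb (isPGroup_of_card_eq (by rw [Nat.card_zpowers, ob]))),
      fun q => h.lt hB, h.W_eq ▸ h.norm_W,
      fun a ha h1 ho => h.zpowers_c ▸ h.W_eq ▸ h.wcent ha h1 ho, h.mle hB,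
      fun h3 s' hs' => let ⟨_, _, _, _, h'⟩ := h.exists_t5 hs'; h'.three h3⟩
  refine (h.simp.norm_eq h.max (by simpa using hg1) (zpowers_le.2 (h.k_le hg).1)
    (le_trans ?_ (norm_le_norm_of_le_cyclic inferInstance (zpowers_le.2 hg)))).le
  rw [← h.cent_W hB]
  exact Cop.le_normalizer_inf_centralizer le_normalizer h.norm_W

end T5

theorem TB.false {t : G} {p : ℕ} [Fact p.Prime] (h : TB t p) : False := by
  obtain ⟨c, hc, oc, sc⟩ := h.exists_c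
  have h4 : T4 t c p := ⟨h, hc, oc, sc⟩
  obtain ⟨s, hs, hB⟩ : ∃ s, Four t s ∧ Ut t ⊓ 𝐂[s] ≤ fittingOf (Ut t) := by
    by_contra hne
    push Not at hne
    obtain ⟨s, hs⟩ := h.simp.exists_four h.ot
    exact hne s hs (inf_le_left.trans (h.U_le fun s hs =>
      let ⟨_, _, _, _, h'⟩ := h4.exists_t5 hs
      h'.B_or.resolve_left (hne s hs)))
  obtain ⟨L, x, y, k, h5⟩ := h4.exists_t5 hs
  exact h5.false (h5.B_eq hB)

end CfsgLib.GD
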